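import Cfsg.Agent.Lib.RootInv.OddTr3

/-! Block systems: the action of `2`-elements and the structure equation. -/

set_option autoImplicit false

namespace CfsgLib.RootInv

open Cfsg MulAction

universe u

variable {G : Type u} [Group G] {D : Set G} {a b c d e f g r s t v x y z : G}

/-- A `2`-element. -/
def T2 (g : G) : Prop := ∃ k : ℕ, g ^ 2 ^ k = 1

theorem T2.map {H : Type*} [Group H] (φ : G →* H) (h : T2 g) : T2 (φ g) :=
  h.imp fun k e => by rw [← map_pow, e, map_one]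

theorem T2.conj (h : T2 g) (x : G) : T2 (x * g * x⁻¹) := h.map (MulAut.conj x).toMonoidHom

theorem t2_of_sq (h : g * g = 1) : T2 g := ⟨1, by rw [pow_one, pow_two, h]⟩

theorem T2.isPGroup (h : T2 g) : IsPGroup 2 (Subgroup.zpowers g) := by
  obtain ⟨k, hk⟩ := h
  rintro ⟨_, n, rfl⟩
  refine ⟨k, Subtype.ext ?_⟩
  show (g ^ n) ^ 2 ^ k = 1
  rw [← zpow_natCast, ← zpow_mul, mul_comm, zpow_mul, zpow_natCast, hk, one_zpow]

/-- The structure equation of Suzuki type. -/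
structure Eq5 (s t r : G) : Prop where
  two : T2 r
  comm : r * s = s * r
  eq : t * s * t = r⁻¹ * t * r
  ord : orderOf (s * t) = 5

theorem Eq5.conj (h : Eq5 s t r) (g : G) : Eq5 (g * s * g⁻¹) (g * t * g⁻¹) (g * r * g⁻¹) :=
  ⟨h.two.conj g, by rw [conj_mul, conj_mul, h.comm], by
    rw [conj_mul, conj_mul, h.eq, conj_inv, conj_mul, conj_mul], by
    rw [conj_mul, Invol.orderOf_conj, h.ord]⟩

theorem Eq5.cent (h : Eq5 s t r) (hs : s * s = 1) (ht : t * t = 1) : r * r * s * t = t * (r * r * s) := by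
  have h1 : r⁻¹ * (s * t) * r = (s * t) ^ 2 := by
    rw [← mul_assoc, (show Commute r s from h.comm).inv_left.eq, mul_assoc s, mul_assoc s, ← h.eq, pow_two]
    simp only [mul_assoc]
  have h2 : (r * r)⁻¹ * (s * t) * (r * r) = t * s := by
    calc (r * r)⁻¹ * (s * t) * (r * r) = r⁻¹ * (r⁻¹ * (s * t) * r) * r := by group
      _ = (r⁻¹ * (s * t) * r) ^ 2 := by nth_rewrite 1 [h1]; simp only [pow_two]; group
      _ = (s * t) ^ 5 * (s * t)⁻¹ := by rw [h1, ← pow_mul, eq_mul_inv_iff_mul_eq, ← pow_succ]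
      _ = t * s := by
        rw [← h.ord, pow_orderOf_eq_one, one_mul, mul_inv_rev, inv_eq_of_mul_eq_one_right hs,
          inv_eq_of_mul_eq_one_right ht]
  have h3 : Commute (r * r) s := Commute.mul_left h.comm h.comm
  rw [mul_assoc, inv_mul_eq_iff_eq_mul, mul_assoc, ← mul_assoc (r * r), ← mul_assoc] at h2
  calc r * r * s * t = s * (r * r * t * s) * s := by rw [h3.eq]; simp only [mul_assoc, hs, mul_one]
    _ = _ := by rw [← h2]; simp only [← mul_assoc, hs, one_mul]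

theorem Eq5.map {H : Type*} [Group H] (φ : G →* H) (h : Eq5 s t r) (hne : φ (s * t) ≠ 1) :
    Eq5 (φ s) (φ t) (φ r) :=
  ⟨h.two.map φ, by rw [← map_mul, h.comm, map_mul], by simp only [← map_mul, h.eq, ← map_inv], by
    have : Fact (Nat.Prime 5) := ⟨by decide⟩
    rw [← map_mul]
    exact orderOf_eq_prime (by rw [← map_pow, ← h.ord, pow_orderOf_eq_one, map_one]) hne⟩

namespace BS

variable [Finite G] {Ω : Type*} [MulAction G Ω] (h : BS D Ω) {ω Δ Γ Λ : Ω}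
include h

section Faithful

variable (hf : ∀ g : G, (∀ ω : Ω, g • ω = ω) → g = 1) (hi : ∀ g : G, orderOf g = 2 → g ∈ D)
include hf hi

theorem setup (Δ : Ω) : ∃ S : Sylow 2 G, (∀ g, g ∈ S ↔ T2 g ∧ g • Δ = Δ) ∧
    (∀ Γ Λ, Γ ≠ Δ → Λ ≠ Δ → ∃ v ∈ S, v • Γ = Λ) ∧
    ∀ t : G, t * t = 1 → t • Δ ≠ Δ → IsRankOneSetup G Ω Δ t S := by
  have := h.simple hf
  have : Fact (Nat.Prime 2) := ⟨Nat.prime_two⟩
  have : IsPretransitive G Ω := ⟨h.trans⟩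
  have hse := h.se_of_invol hi Δ
  obtain ⟨S, hS⟩ := BCor.str_of_simple BenderRed.benderSimple h.not_comm hse
  have htr : ∀ Γ Λ, Γ ≠ Δ → Λ ≠ Δ → ∃ v ∈ S, v • Γ = Λ := fun Γ Λ h1 h2 => by
    obtain ⟨g, rfl⟩ := h.trans Δ Γ
    obtain ⟨k, rfl⟩ := h.trans Δ Λ
    obtain ⟨v, hv, e⟩ := hS.dc g k h1 h2
    exact ⟨v, hv, by rw [← mul_smul, ← inv_smul_eq_iff, ← mul_smul]; exact e⟩
  refine ⟨S, fun g => ⟨fun hg => ⟨(S.isPGroup' ⟨g, hg⟩).imp fun _ => congrArg Subtype.val, hS.le_H hg⟩,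
    fun hg => ((hg.1.isPGroup.inf_normalizer_sylow S).le ⟨Subgroup.mem_zpowers g,
      hS.eq ▸ hg.2⟩).2⟩, htr, fun t ht hne => ?_⟩
  obtain ⟨t', e, h1⟩ := Bender.exists_setup_of_regular (G := G) hne (Q := S) hS.le_H
    (fun x hx y hy => by rw [hS.eq] at hx; exact (Subgroup.mem_normalizer_iff.1 hx y).1 hy)
    (fun c hc => htr _ c hne hc)
    (fun x hx e => hS.eq_one_of_conj_mem hx hne (by
      rw [mem_stabilizer_iff, mul_smul, mul_smul, e, inv_smul_smul])) hse.2.1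
    (StrEmb.odd_card_of_forall fun g hg h2 => hne (h.uniq g (hi g h2) _ _ hg.2 hg.1))
  exact ⟨h1.two_transitive, ht, fun e => hne (by rw [e, one_smul]), hne, h1.le, h1.conj_mem,
    e ▸ h1.inf_eq_bot, e ▸ h1.sup_eq, h1.even_card, e ▸ h1.odd_card⟩

theorem rank2 : Bender.Rank2 G := by
  obtain ⟨p, q, hl⟩ := h.line
  exact ⟨p, q, h.ri.ne p hl.1, h.ri.ne q hl.2.1, hl.2.2.1, h.ri.sq p hl.1, h.ri.sq q hl.2.1, hl.2.2.2.1⟩

theorem two_eq_one (h1 : T2 g) (h2 : g • Δ = Δ) (h3 : g • Γ = Γ) (hne : Γ ≠ Δ) : g = 1 := by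
  obtain ⟨S, hS, -, hT⟩ := h.setup hf hi Δ
  obtain ⟨a, ha⟩ := h.blk_ne Δ
  obtain ⟨x, hx⟩ := h.blk_ne Γ
  obtain ⟨u, hu, -, e, -⟩ := h.exists_mid ha hx hne.symm
  exact Subgroup.mem_bot.1 ((hT u (h.ri.sq u hu) (e ▸ hne)).inf_eq_bot.le
    ⟨(hS g).2 ⟨h1, h2⟩, by rw [e]; exact h3⟩)

theorem two_comm (h1 : T2 g) (h2 : g • Δ = Δ) (ha : a ∈ Blk D Δ) : g * a = a * g := by
  obtain ⟨S, hS, -, hT⟩ := h.setup hf hi Δ
  obtain ⟨Γ, hΓ⟩ := h.exists_ne Δ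
  obtain ⟨x, hx⟩ := h.blk_ne Γ
  have := hT x (h.ri.sq x hx.1) fun e => hΓ (h.uniq x hx.1 _ _ hx.2 e)
  exact (Bender.Zg_commute this (Bender.mem_Zg_of ((hS a).2 ⟨t2_of_sq (h.ri.sq a ha.1), ha.2⟩)
    (h.ri.sq a ha.1)) ((hS g).2 ⟨h1, h2⟩)).symm

theorem two_mul (h1 : T2 g) (h2 : g • Δ = Δ) (h3 : T2 v) (h4 : v • Δ = Δ) : T2 (g⁻¹ * v) := by
  obtain ⟨S, hS, -, -⟩ := h.setup hf hi Δ
  exact ((hS _).1 ((S : Subgroup G).mul_mem ((S : Subgroup G).inv_mem ((hS g).2 ⟨h1, h2⟩))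
    ((hS v).2 ⟨h3, h4⟩))).1

theorem not_three_five (hs : s ∈ D) (ht : t ∈ D) (h5 : Eq5 s t r) (ha : a ∈ D) (hb : b ∈ D) :
    orderOf (a * b) ≠ 3 := fun h3 => by
  have key : ∀ {s t : G} {Δ : Ω}, s ∈ Blk D Δ → t ∈ D → Odd (orderOf (s * t)) → orderOf (s * t) ≠ 1 →
      t • Δ ≠ Δ := fun {s t Δ} hs ht ho h1 e => h.not_od_of_invol hf hi hs ⟨ht, e⟩
    ⟨fun e => h1 (by rw [e, h.ri.sq t ht, orderOf_one]), ho⟩
  obtain ⟨Δ, hΔ⟩ := h.exists_blk hs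
  obtain ⟨g, -, rfl⟩ := h.cl s hs a ha
  obtain ⟨b, rfl⟩ : ∃ b', b = g * b' * g⁻¹ := ⟨g⁻¹ * b * g, by group⟩
  rw [conj_mul, Invol.orderOf_conj] at h3
  replace hb : b ∈ D := by simpa [mul_assoc] using h.conj hb g⁻¹
  have n1 := key hΔ ht (h5.ord ▸ by decide) (h5.ord ▸ by decide)
  have n2 := key hΔ hb (h3 ▸ by decide) (h3 ▸ by decide)
  obtain ⟨S, hS, htr, hT⟩ := h.setup hf hi Δ
  have hT := hT t (h.ri.sq t ht) n1
  obtain ⟨v, hv, e⟩ := htr _ _ n2 n1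
  have hvΔ := ((hS v).1 hv).2
  obtain ⟨k, hk, e'⟩ := RankOne.exists_inverted_conj_t hT (h.ri.sq _ (h.conj hb v)) (by
    rw [mul_smul, mul_smul, inv_smul_eq_iff.2 hvΔ.symm, e])
  have h6 := h.blk_conj' (h.blk_conj' hΔ hvΔ) ((stabilizer G Δ).inv_mem hk.1.1)
  have h7 : orderOf (k⁻¹ * (v * s * v⁻¹) * k⁻¹⁻¹ * t) = 3 := by
    rw [← h3, ← Invol.orderOf_conj k, ← Invol.orderOf_conj v (s * b), ← conj_mul (b := v), e']
    congr 1
    group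
  generalize k⁻¹ * (v * s * v⁻¹) * k⁻¹⁻¹ = s' at h6 h7
  have m : ∀ {s : G}, s ∈ Blk D Δ → s ∈ (S : Subgroup G) := fun hs =>
    (hS _).2 ⟨t2_of_sq (h.ri.sq _ hs.1), hs.2⟩
  have := (Bender.sr_unique hT (m hΔ) ((hS r).2 ⟨h5.two, h.smul_eq_of_conj hΔ (by
    rwa [h5.comm, mul_inv_cancel_right])⟩) (h.ri.ne s hs) (h.ri.sq s hs) h5.eq (m h6) (m h6)
    (h.ri.ne _ h6.1) (h.ri.sq _ h6.1) (by
      rw [Bender.braid_of_orderOf_st hT (h.ri.sq _ h6.1) (h7 ▸ pow_orderOf_eq_one _), h.ri.inv h6.1])).1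
  rw [← this, h5.ord] at h7
  omega

/-- The two types of a group generated by a block and a member of another block. -/
theorem types (hx : x ∈ D) (hg : Subgroup.closure (Blk D ω ∪ {x}) = ⊤) :
    (IsL2 G ((Blk D ω).ncard + 1) ∧ (∀ g : G, T2 g → g * g = 1) ∧ ∃ s ∈ Blk D ω, orderOf (s * x) = 3) ∨
      ∃ s ∈ Blk D ω, ∃ r, Eq5 s x r := by
  have := h.simple hf
  have : Fact (Nat.Prime 2) := ⟨Nat.prime_two⟩
  have hxω : x • ω ≠ ω := fun hx' => by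
    obtain ⟨Γ, hΓ⟩ := h.exists_ne ω
    obtain ⟨g, rfl⟩ := h.trans ω Γ
    exact hΓ ((Subgroup.closure_le (stabilizer G ω)).2 (fun p hp => hp.elim (·.2) fun hp => hp ▸ hx')
      (hg ▸ Subgroup.mem_top g))
  obtain ⟨S, hS, -, ht⟩ := h.setup hf hi ω
  replace ht := ht x (h.ri.sq x hx) hxω
  have := Bender.faithful_of_simple ht
  have h2 := h.rank2 hf hi
  have hZ : ∀ e, e ∈ Blk D ω ↔ e ∈ Bender.Zg (S : Subgroup G) ∧ e ≠ 1 := fun e => by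
    rw [← Bender.mem_involutionsIn_iff_Zg ht]
    exact ⟨fun he => ⟨he.2, h.ri.ne e he.1, h.ri.sq e he.1⟩,
      fun he => ⟨hi e (StrEmb.orderOf_eq_two he.2.2 he.2.1), he.1⟩⟩
  rcases (Bender.concl ht h2).2 with hT | hT | hT
  · obtain ⟨F, _, _, _, n, h1, h3, h4, ⟨φ⟩⟩ := Bender.iso_psl2 ht h2 hT
    refine Or.inl ⟨⟨F, inferInstance, inferInstance, inferInstance,
      h3 ▸ Nat.pow_le_pow_right (show 0 < 2 by norm_num) h1, ?_, ⟨((MulEquiv.subgroupCongr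
        (Bender.Lg_eq_top ht)).trans Subgroup.topEquiv).symm.trans φ⟩⟩, fun g hg => ?_, ?_⟩
    · have e : Blk D ω = ((S : Subgroup G) : Set G) \ {1} := Set.ext fun e => by
        rw [hZ, Bender.mem_Zg_iff ht]
        exact ⟨fun he => ⟨he.1.1, he.2⟩, fun he => ⟨⟨he.1, hT e he.1⟩, he.2⟩⟩
      rw [e, Set.ncard_sdiff_singleton_add_one (S : Subgroup G).one_mem (Set.toFinite _), h3, ← h4]
      rfl
    · obtain ⟨T, hT'⟩ := hg.isPGroup.exists_le_sylow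
      obtain ⟨k, rfl⟩ := exists_smul_eq G S T
      obtain ⟨p, hp, e⟩ := hT' (Subgroup.mem_zpowers g)
      rw [← e]
      show k * p * k⁻¹ * (k * p * k⁻¹) = 1
      rw [conj_mul, hT p hp, mul_one, mul_inv_cancel]
    · obtain ⟨s, hs, r, hr, h5, h6, e⟩ := Bender.exists_sr ht
      exact ⟨s, (hZ s).2 ⟨Bender.mem_Zg_of hs h6, h5⟩, Bender.orderOf_st_of_braid ht hs h6
        (Bender.braid_of_r_sq ht hs hr h5 h6 e (hT r hr)).1⟩
  · obtain ⟨s, hs, r, hr, h5, h6, e, h7⟩ := hT.2.2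
    have hs' := (hZ s).2 ⟨Bender.mem_Zg_of hs h6, h5⟩
    exact Or.inr ⟨s, hs', r, ((hS r).1 hr).1, h.two_comm hf hi ((hS r).1 hr).1 ((hS r).1 hr).2 hs', e, h7⟩
  · exfalso
    obtain ⟨-, -, w, -, ζ, hζ, -, -, -, -, hne, -⟩ := hT
    have hcen : ζ ∈ Subgroup.center G := Subgroup.mem_center_iff.2 fun g => by
      refine Subgroup.mem_centralizer_singleton_iff.1 ((Subgroup.closure_le
        (Subgroup.centralizer {ζ})).2 (fun p hp => Subgroup.mem_centralizer_singleton_iff.2 ?_)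
        (hg ▸ Subgroup.mem_top g))
      rcases hp with hp | rfl
      · exact hζ.2 p ((hZ p).1 hp).1
      · exact (Bender.mem_Vg.1 (Bender.Wg_le_Vg ht hζ)).2.symm
    rcases (inferInstance : (Subgroup.center G).Normal).eq_bot_or_eq_top with e1 | e1
    · rw [e1, Subgroup.mem_bot] at hcen
      exact hne (by rw [hcen, mul_one, one_mul])
    · exact h.not_comm ⟨⟨fun p q => Subgroup.mem_center_iff.1 (e1 ▸ Subgroup.mem_top q) p⟩⟩

end Faithful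

variable (hA : AschStmt.{u})
include hA

/-- A `2`-element fixing two points acts trivially. -/
theorem two_triv (h1 : T2 g) (h2 : g • Δ = Δ) (h3 : g • Γ = Γ) (hne : Γ ≠ Δ) (ω : Ω) : g • ω = ω := by
  letI := h.qact
  rw [← h.qact_mk, h.quot.two_eq_one h.quot_faithful (h.quot_invol' hA) (h1.map _) h2 h3 hne, one_smul]

theorem cl_triv (hv : v ∈ Subgroup.closure (Blk D Δ)) (h3 : v • Γ = Γ) (hne : Γ ≠ Δ) (ω : Ω) :
    v • ω = ω := h.two_triv hA (t2_of_sq (h.cl_sq hA hv)) (cl_fix hv) h3 hne ω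

theorem two_smul (h1 : T2 g) (h2 : g • Δ = Δ) (ha : a ∈ Blk D Δ) (ω : Ω) : (g * a * g⁻¹) • ω = a • ω := by
  letI := h.qact
  rw [← h.qact_mk, map_mul, map_mul, h.quot.two_comm h.quot_faithful (h.quot_invol' hA) (h1.map _) h2
    ⟨⟨a, ha.1, rfl⟩, ha.2⟩, map_inv, mul_inv_cancel_right, h.qact_mk]

theorem exists_mid_blk (ha : a ∈ Blk D Δ) (hb : b ∈ Blk D Δ) (e : ∀ ω : Ω, a • ω = b • ω)
    (hx : x ∈ Blk D Γ) (hne : Γ ≠ Δ) : ∃ y ∈ Blk D Γ, y * (x * a * x) * y = b := by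
  letI := h.qact
  have h1 : x • Δ ≠ Δ := fun e => hne (h.uniq x hx.1 _ _ hx.2 e)
  obtain ⟨y, hy, h2, h3, -⟩ := h.exists_mid (h.blk_conj2 ha (h.ri.sq x hx.1)) hb h1
  have h4 : QuotientGroup.mk' (twoZCore G) a = QuotientGroup.mk' _ b := by
    rw [← mul_inv_eq_one, ← map_inv, ← map_mul]
    exact h.quot_faithful _ fun ω => by rw [h.qact_mk, mul_smul, e, smul_inv_smul]
  have h5 := h.quot.mid_uniq (a := QuotientGroup.mk' _ a) (Δ := Δ) ⟨⟨a, ha.1, rfl⟩, ha.2⟩ ⟨y, hy, rfl⟩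
    ⟨x, hx.1, rfl⟩ (by rw [h.qact_mk, ← h3, h.smul_smul2 (h.ri.sq y hy), h3]; exact h1) (by
      rw [h4, ← h2]
      conv_rhs => rw [h2, ← h4]
      simp only [← map_mul, ← mul_assoc, h.ri.sq y hy, one_mul, h.ri.mm' hy])
  exact ⟨y, ⟨hy, by rw [← h.qact_mk, h5, h.qact_mk, hx.2]⟩, h2⟩

/-- A subsystem meeting every block covers the blocks. -/
theorem exists_sub {X : Subgroup G} (h' : BS (X.subtype ⁻¹' D) Ω) (hb : b ∈ Blk D Δ) :
    ∃ f ∈ Blk D Δ, f ∈ X ∧ ∀ ω : Ω, f • ω = b • ω := by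
  obtain ⟨Γ, hΓ⟩ := h.exists_ne Δ
  have h1 : b • Γ ≠ Γ := fun e => hΓ (h.uniq b hb.1 _ _ e hb.2)
  obtain ⟨v, h2, h3, h4⟩ : ∃ v : X, (∃ k : ℕ, ∀ ω : Ω, v ^ 2 ^ k • ω = ω) ∧ v • Δ = Δ ∧ v • Γ = b • Γ := by
    letI := h'.qact
    obtain ⟨S, hS, htr, -⟩ := h'.quot.setup h'.quot_faithful (h'.quot_invol' hA) Δ
    obtain ⟨q, hq, e⟩ := htr Γ (b • Γ) hΓ fun e => hΓ (by
      rw [← h.smul_smul2 (h.ri.sq b hb.1) Γ, e, hb.2])
    obtain ⟨v, rfl⟩ := QuotientGroup.mk'_surjective _ q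
    obtain ⟨⟨k, hk⟩, h5⟩ := (hS _).1 hq
    exact ⟨v, ⟨k, fun ω => by rw [← h'.qact_mk, map_pow, hk, one_smul]⟩, h5, e⟩
  have h5 : ∀ ω : Ω, v • ω = b • ω := by
    letI := h.qact
    have h6 : T2 (QuotientGroup.mk' (twoZCore G) v) := h2.imp fun k hk => h.quot_faithful _ fun ω => by
      rw [← map_pow, h.qact_mk]; exact hk ω
    have h7 := h.quot.two_eq_one h.quot_faithful (h.quot_invol' hA) (h.quot.two_mul h.quot_faithful
      (h.quot_invol' hA) ((t2_of_sq (h.ri.sq b hb.1)).map (QuotientGroup.mk' _)) (Δ := Δ) hb.2 h6 h3)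
      (by rw [mul_smul, inv_smul_eq_iff]; exact h3.trans hb.2.symm)
      (by rw [mul_smul, inv_smul_eq_iff]; exact h4) hΓ
    intro ω
    rw [← h.qact_mk b, inv_mul_eq_one.1 h7]
    rfl
  letI := h'.qact
  obtain ⟨f, hf, e⟩ := h'.quot_invol' hA (QuotientGroup.mk' _ v) (StrEmb.orderOf_eq_two
    (h'.quot_faithful _ fun ω => by
      rw [mul_smul, h'.qact_mk, h'.qact_mk, h5, h5, h.smul_smul2 (h.ri.sq b hb.1)])
    fun e => h1 (by rw [← h4, ← h'.qact_mk, e, one_smul]))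
  have h8 : ∀ ω : Ω, (f : G) • ω = b • ω := fun ω => by
    rw [← h5, ← h'.qact_mk v, ← e]
    rfl
  exact ⟨f, ⟨hf, (h8 Δ).trans hb.2⟩, f.2, h8⟩

theorem not_three_five' (hs : s ∈ D) (ht : t ∈ D) (h5 : Eq5 s t r) (ha : a ∈ D) (hb : b ∈ D) :
    orderOf (a * b) ≠ 3 := fun h3 => by
  letI := h.qact
  have key : ∀ {a b : G}, a ∈ D → b ∈ D → Odd (orderOf (a * b)) → orderOf (a * b) ≠ 1 →
      QuotientGroup.mk' (twoZCore G) (a * b) ≠ 1 := fun {a b} ha hb ho h1 e =>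
    h.not_od_of_ker ha hb (Subgroup.pow_mem _ ((QuotientGroup.eq_one_iff _).1 e) 2)
      ⟨fun e => h1 (by rw [e, h.ri.sq b hb, orderOf_one]), ho⟩
  refine h.quot.not_three_five h.quot_faithful (h.quot_invol' hA) ⟨s, hs, rfl⟩ ⟨t, ht, rfl⟩
    (h5.map _ (key hs ht (h5.ord ▸ by decide) (h5.ord ▸ by decide))) ⟨a, ha, rfl⟩ ⟨b, hb, rfl⟩ ?_
  have : Fact (Nat.Prime 3) := ⟨Nat.prime_three⟩
  rw [← map_mul]
  exact orderOf_eq_prime (by rw [← map_pow, ← h3, pow_orderOf_eq_one, map_one])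
    (key ha hb (h3 ▸ by decide) (h3 ▸ by decide))

end BS

end CfsgLib.RootInv
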