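import Cfsg.Agent.Lib.RootInv.BS6

/-! Odd transpositions: the classes `E_d` together with `1` are groups. -/

set_option autoImplicit false

namespace CfsgLib.RootInv

open Cfsg MulAction

universe u

variable {G : Type u} [Group G] {D : Set G} {a b c d e f g p r t v w x y z : G}

theorem ec_eq (he : e ∈ Ec D c) : Ec D e = Ec D c := Set.ext fun _ => and_congr_right fun _ => by rw [he.2]

theorem ec_self (hc : c ∈ D) : c ∈ Ec D c := ⟨hc, rfl⟩

theorem mk_mem_closure {X : Subgroup G} {H : Type*} [Group H] (φ : X →* H) {S : Set G} {T : Set H}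
    (hS : S ⊆ X) (hT : ∀ s : X, (s : G) ∈ S → φ s ∈ T) {v : X} (hv : (v : G) ∈ Subgroup.closure S) :
    φ v ∈ Subgroup.closure T := by
  obtain ⟨v, hvX⟩ := v
  have hm : Subgroup.closure S ≤ X := (Subgroup.closure_le X).2 hS
  change v ∈ _ at hv
  induction hv using Subgroup.closure_induction with
  | mem s hs => exact Subgroup.subset_closure (hT _ hs)
  | one => exact (map_one φ).symm ▸ Subgroup.one_mem _
  | mul x y hx hy ix iy =>
    exact (map_mul φ ⟨x, hm hx⟩ ⟨y, hm hy⟩).symm ▸ Subgroup.mul_mem _ (ix _) (iy _)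
  | inv x hx ix => exact (map_inv φ ⟨x, hm hx⟩).symm ▸ Subgroup.inv_mem _ (ix _)

theorem eq_one_of_twoZ (hO : pCore 2 G = ⊥) (hv : v ∈ twoZCore G) (h2 : v * v = 1) : v = 1 :=
  eq_one_of_gen hO Subgroup.closure_univ h2 fun s _ =>
    (Subgroup.mem_center_iff.1 (twoZCore_le_center hO hv) s).symm

theorem comm_of_closure {S : Set G} (hS : ∀ s ∈ S, z * s = s * z) (hg : g ∈ Subgroup.closure S) :
    z * g = g * z :=
  (Subgroup.mem_centralizer_singleton_iff.1 ((Subgroup.closure_le (Subgroup.centralizer {z})).2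
    (fun s hs => Subgroup.mem_centralizer_singleton_iff.2 (hS s hs).symm) hg)).symm

namespace NF

variable (h : NF D) {X : Subgroup G}
include h

theorem comm_mk {p q : X} (hp : (p : G) ∈ D) (hq : (q : G) ∈ D) :
    QuotientGroup.mk' (pCore 2 X) p * QuotientGroup.mk' (pCore 2 X) q =
      QuotientGroup.mk' (pCore 2 X) q * QuotientGroup.mk' (pCore 2 X) p ↔ (p : G) * q = q * p := by
  refine ⟨fun e => by_contra fun hn => h.ri.not_od_of_sq_mem (Core.isPGroup_map_pCore (p := 2) X) hq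
    (Subgroup.mem_map.2 ⟨(p * q) ^ 2, (QuotientGroup.eq_one_iff _).1 ?_, rfl⟩) (h.od_of hp hq hn),
    fun e => by rw [← map_mul, ← map_mul]; exact congrArg _ (Subtype.ext e)⟩
  change QuotientGroup.mk' _ _ = 1
  rw [map_pow, map_mul, (show Commute _ _ from e).mul_pow, ← map_pow, ← map_pow, pow_two, pow_two,
    show p * p = 1 from Subtype.ext (h.ri.sq _ hp), show q * q = 1 from Subtype.ext (h.ri.sq _ hq),
    map_one, one_mul]

theorem ao_dq {p a b : X} (h' : NF (Dq D X p)) (hX : X ≤ Subgroup.closure D) (hp : (p : G) ∈ D)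
    (ha : (a : G) ∈ D) (hb : (b : G) ∈ D) (ha' : QuotientGroup.mk' (pCore 2 X) a ∈ Dq D X p)
    (hb' : QuotientGroup.mk' (pCore 2 X) b ∈ Dq D X p) (e : Ao D a = Ao D b) :
    Ao (Dq D X p) (QuotientGroup.mk' (pCore 2 X) a) = Ao (Dq D X p) (QuotientGroup.mk' (pCore 2 X) b) := by
  refine h'.ao_ext ha' hb' ?_
  rintro _ ⟨g, rfl⟩
  have hm : ((g * p * g⁻¹ : X) : G) ∈ D := h.ri.conj_mem hp (hX g.2)
  rw [h.comm_mk ha hm, h.comm_mk hb hm]
  exact ⟨h.same_comm ha hb e hm, h.same_comm hb ha e.symm hm⟩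

theorem ec_od (he : e ∈ Ec D c) (ha : a ∈ D) (ho : Od c a) : Od e a := od_of_ao he.2.symm ha ho

theorem ec_cm (he : e ∈ Ec D c) (hc : c ∈ D) (ha : a ∈ D) (ho : c * a = a * c) : e * a = a * e :=
  h.same_comm hc he.1 he.2.symm ha ho

theorem ec_sub (hc : c ∈ D) (ha : a ∈ D) (ho : Od c a) {X : Subgroup G} (h1 : Ec D c ⊆ X) (h2 : a ∈ X) :
    Ec D a ⊆ X := fun e he => by
  obtain ⟨s, hs, hsX, -, e1⟩ := h.ri.exists_mid_mem ha hc ho.symm h2 (h1 (ec_self hc))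
  have h3 := h.ri.ao_conj_eq (Subgroup.subset_closure hs) he.2
  rw [h.ri.inv hs, e1] at h3
  have := X.mul_mem (X.mul_mem hsX (h1 ⟨h.ri.conj e he.1 s hs, h3⟩)) hsX
  rwa [← mul_assoc, ← mul_assoc, h.ri.sq s hs, one_mul, h.ri.mm' hs] at this

theorem cl_ec_sq [Finite G] (hv : v ∈ Subgroup.closure (Ec D c)) : v * v = 1 := by
  induction hv using Subgroup.closure_induction with
  | mem y hy => exact h.ri.sq y hy.1
  | one => simp
  | mul p q hp hq ip iq =>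
    rw [mul_assoc, ← mul_assoc q, comm_of_closure (fun s hs => (comm_of_closure
      (fun _ hs' => h.ec_comm hs hs') hq).symm) hp, mul_assoc, iq, mul_one, ip]
  | inv p _ ip => rw [← mul_inv_rev, ip, inv_one]

end NF

/-- A class of odd transpositions with lines. -/
structure OG (D : Set G) : Prop extends NF D where
  gen : Subgroup.closure D = ⊤
  cl : Cl D
  line : ∃ a b, ProdAdj D a b

theorem NF.og_dq (h : NF D) {X : Subgroup G} {p p' q : X} {S : Set G} (hS : X = Subgroup.closure S)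
    (hSD : S ⊆ D) (hl : ProdAdj D (p : G) p') (hq : (q : G) ∈ D) (ho : Od (p : G) q)
    (h1 : ∀ s : X, (s : G) ∈ S → QuotientGroup.mk' (pCore 2 X) s ∈ Dq D X p) : OG (Dq D X p) :=
  have hX : X ≤ Subgroup.closure D := hS ▸ Subgroup.closure_mono hSD
  have hg := NF.map_closure_eq_top hS fun s hs => Subgroup.subset_closure (h1 s hs)
  ⟨h.nf_dq hX hl.1 hq ho, hg, NF.cl_dq hg, _, _, h.ln_dq hX hl hq ho⟩

theorem card_quot_lt [Finite G] {X : Subgroup G} (hX : X ≠ ⊤) (N : Subgroup X) [N.Normal] :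
    Nat.card (X ⧸ N) < Nat.card G :=
  (Nat.card_le_card_of_surjective _ (QuotientGroup.mk'_surjective N)).trans_lt
    ((Subgroup.card_le_card_group X).lt_of_ne fun e => hX ((Subgroup.card_eq_iff_eq_top X).1 e))

namespace OG

variable [Finite G] (h : OG D)
include h

omit [Finite G] in
theorem mem_gen (g : G) : g ∈ Subgroup.closure D := h.gen ▸ Subgroup.mem_top g

omit [Finite G] in
theorem conj (ha : a ∈ D) (g : G) : g * a * g⁻¹ ∈ D := h.ri.conj_mem ha (h.mem_gen g)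

omit [Finite G] in
theorem exists_ln (hc : c ∈ D) : ∃ e, ProdAdj D c e := by
  obtain ⟨a, b, hl⟩ := h.line
  exact h.ri.exists_ln h.cl hl hc

omit [Finite G] in
theorem ec_conj (he : e ∈ Ec D c) (g : G) : g * e * g⁻¹ ∈ Ec D (g * c * g⁻¹) :=
  ⟨h.conj he.1 g, h.ri.ao_conj_eq (h.mem_gen g) he.2⟩

theorem mem_ec (hc : c ∈ D) (hy : y ∈ D) (h1 : ∀ z ∈ D, z * c = c * z → z * y = y * z) : y ∈ Ec D c :=
  ⟨hy, h.ri.ao_eq_of_subset h.cl hy hc (h.ri.ao_of_comm hc hy h1)⟩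

theorem exists_od_comm (hc : c ∈ D) (hy : y ∈ D) (hn : y ∉ Ec D c) :
    ∃ z ∈ D, z * c = c * z ∧ Od y z := by
  by_contra h1
  push Not at h1
  exact hn (h.mem_ec hc hy fun z hz e => by_contra fun e' => h1 z hz e (h.od_of hz hy e').symm)

/-- The local block of a member is its class. -/
theorem local_blk (hc : c ∈ D) (ha : a ∈ D) (ho : Od c a) (hg : g ∈ Subgroup.closure (Ec D c ∪ {a}))
    (hy : g * c * g⁻¹ * c = c * (g * c * g⁻¹)) : g * c * g⁻¹ ∈ Ec D c := by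
  refine h.mem_ec hc (h.conj hc g) fun z hz e => ?_
  by_cases e1 : z * a = a * z
  · have : Commute z g := comm_of_closure (fun s hs => hs.elim
      (fun hs => (h.ec_cm hs hc hz e.symm).symm) fun hs => hs ▸ e1) hg
    exact (this.mul_right e).mul_right this.inv_right
  obtain ⟨c', hl⟩ := h.exists_ln hc
  have hc' : c' ∈ Ec D c := ⟨hl.2.1, (h.ao_ln hl).symm⟩
  let X := Subgroup.closure ((Ec D c ∪ {z}) ∪ {a})
  have m1 : Ec D c ⊆ X := fun _ hs => Subgroup.subset_closure (Or.inl (Or.inl hs))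
  have m2 : g ∈ X := Subgroup.closure_mono (Set.union_subset_union_left _ Set.subset_union_left) hg
  obtain ⟨h1, hT⟩ := h.ot_of_comm (X := X) (p := ⟨c, m1 (ec_self hc)⟩) (p' := ⟨c', m1 hc'⟩)
    (q := ⟨a, Subgroup.subset_closure (Or.inr rfl)⟩)
    (r := ⟨z, Subgroup.subset_closure (Or.inl (Or.inr rfl))⟩) rfl hl ha ho hz e.symm
    (h.od_of hz ha e1) fun _ hs => hs
  have hl' := h.ln_dq (X := X) (p := ⟨c, m1 (ec_self hc)⟩) (p' := ⟨c', m1 hc'⟩)
    (q := ⟨a, Subgroup.subset_closure (Or.inr rfl)⟩) (h.gen ▸ le_top) hl ha ho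
  exact (h.comm_mk hz (h.conj hc g)).1 (hT.ec_comm h1 (hT.mem_ec ⟨hl'.2.1, (hT.ao_ln hl').symm⟩
    hl'.2.2.1 ⟨⟨g, m2⟩, rfl⟩ ((h.comm_mk hc (h.conj hc g)).2 hy.symm)))

theorem ec_of_core (hc : c ∈ D) {X : Subgroup G} {v r : X} (hr : (r : G) ∈ D) (ho : Od c r)
    (hv : (v : G) ∈ Subgroup.closure (Ec D c)) (h1 : QuotientGroup.mk' (pCore 2 X) v = 1) :
    (v : G) * r * (v : G)⁻¹ ∈ Ec D r :=
  h.local_blk hr hc ho.symm ((Subgroup.closure_le (Subgroup.closure (Ec D r ∪ {c}))).2 (h.ec_sub hr hc ho.symm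
    (fun _ hs => Subgroup.subset_closure (Or.inl hs)) (Subgroup.subset_closure (Or.inr rfl))) hv)
    ((h.comm_mk (p := v * r * v⁻¹) (h.conj hr v) hr).1 (by simp only [map_mul, map_inv, h1]; simp))

theorem ec_of_comm (hA : AschStmt.{u}) (hc : c ∈ D) (hp : p ∈ D) (hr : r ∈ D) (h1 : Od c p) (h2 : Od c r)
    (h3 : p * r = r * p) (hv : v ∈ Subgroup.closure (Ec D c)) (h4 : v * p * v⁻¹ ∈ Ec D p) :
    v * r * v⁻¹ ∈ Ec D r := by
  obtain ⟨p', hl⟩ := h.exists_ln hp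
  have hp' : p' ∈ Ec D p := ⟨hl.2.1, (h.ao_ln hl).symm⟩
  let X := Subgroup.closure ((Ec D p ∪ {r}) ∪ {c})
  have m1 : Ec D p ⊆ X := fun _ hs => Subgroup.subset_closure (Or.inl (Or.inl hs))
  have m2 : c ∈ X := Subgroup.subset_closure (Or.inr rfl)
  have m3 := h.ec_sub hp hc h1.symm m1 m2
  have m4 : v ∈ X := (Subgroup.closure_le X).2 m3 hv
  obtain ⟨-, hT⟩ := h.ot_of_comm (X := X) (p := ⟨p, m1 (ec_self hp)⟩) (p' := ⟨p', m1 hp'⟩) (q := ⟨c, m2⟩)
    (r := ⟨r, Subgroup.subset_closure (Or.inl (Or.inr rfl))⟩) rfl hl hc h1.symm hr h3 h2.symm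
    fun _ hs => hs
  have hl' := h.ln_dq (X := X) (p := ⟨p, m1 (ec_self hp)⟩) (p' := ⟨p', m1 hp'⟩) (q := ⟨c, m2⟩)
    (h.gen ▸ le_top) hl hc h1.symm
  obtain ⟨Ω, _, ω, hB, e1, hf, -⟩ := hT.exists_bs' hA ⟨hl'.2.1, (hT.ao_ln hl').symm⟩ hl'.2.2.1
  obtain ⟨Δ, hΔ⟩ := hB.exists_blk hT.hx
  have hω := e1.ge (ec_self hT.hd)
  refine h.ec_of_core hc (X := X) (v := ⟨v, m4⟩)
    (r := ⟨r, Subgroup.subset_closure (Or.inl (Or.inr rfl))⟩) hr h2 hv (hf _ (hB.cl_triv hA (Δ := Δ)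
      (mk_mem_closure _ m3 (fun s hs => hB.same_comm hΔ (h.mem_dq hp hs.1 (h.ec_od hs hp h1).symm)
        ((h.comm_mk hc hs.1).2 (h.ec_comm (ec_self hc) hs))) hv)
      (hB.smul_eq_of_conj hω (hB.same_comm hω (hT.conj hT.hd _) ?_))
      fun e => (hT.od_ec (e1 ▸ e ▸ hΔ)).1 rfl))
  rw [← map_inv, ← map_mul, ← map_mul]
  exact (h.comm_mk hp h4.1).2 (h.ec_comm (ec_self hp) h4)

theorem eq_one_of_forall (hO : pCore 2 G = ⊥) (hc : c ∈ D) (hp : p ∈ D) (ho : Od c p) (h2 : v * v = 1)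
    (h1 : ∀ d ∈ D, v * d * v⁻¹ ∈ Ec D d) : v = 1 := by
  let N : Subgroup G :=
    { carrier := {g | ∀ d ∈ D, g * d * g⁻¹ ∈ Ec D d}
      one_mem' := fun d hd => by simpa using ec_self hd
      mul_mem' := fun {x y} hx hy d hd => by
        have := hx _ (hy d hd).1
        rw [ec_eq (hy d hd)] at this
        simpa only [mul_inv_rev, mul_assoc] using this
      inv_mem' := fun {x} hx d hd => by
        have := hx _ (h.conj hd x⁻¹)
        exact ⟨h.conj hd x⁻¹, this.2.symm.trans (by simp [mul_assoc])⟩ }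
  have : N.Normal := ⟨fun x hx g d hd => by
    simpa [mul_assoc] using h.ec_conj (hx _ (h.conj hd g⁻¹)) g⟩
  obtain ⟨a, b, hl⟩ := h.line
  rcases h.ri.eq_top_or_le h.gen h.cl hl N with e | e
  · have := (e ▸ Subgroup.mem_top c : c ∈ N) p hp
    rw [h.ri.inv hc] at this
    exact absurd (h.ec_comm (ec_self hp) this) (h.ri.od_not_comm hp this.1 (h.ri.od_conj_self hp hc ho.symm))
  · exact eq_one_of_twoZ hO (e h1) h2

omit [Finite G] in
theorem sub (hc : c ∈ D) (hp : p ∈ D) (ho : Od c p) {X : Subgroup G} (m1 : Ec D c ⊆ X) (m2 : p ∈ X)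
    {S : Set G} (hS : X = Subgroup.closure S) (h1 : ∀ s ∈ S, ∃ g ∈ X, s = g * c * g⁻¹) :
    OG (Dq D X ⟨c, m1 (ec_self hc)⟩) := by
  obtain ⟨c', hl⟩ := h.exists_ln hc
  refine h.og_dq (p' := ⟨c', m1 ⟨hl.2.1, (h.ao_ln hl).symm⟩⟩) (q := ⟨p, m2⟩) hS (fun s hs => ?_) hl hp ho
    fun s hs => ?_
  · obtain ⟨g, -, rfl⟩ := h1 s hs
    exact h.conj hc g
  · obtain ⟨g, hg, e⟩ := h1 s hs
    exact ⟨⟨g, hg⟩, congrArg _ (Subtype.ext e)⟩

omit [Finite G] in
theorem conj_of_od (ha : a ∈ D) (hb : b ∈ D) (ho : Od a b) {X : Subgroup G} (h1 : a ∈ X) (h2 : b ∈ X) :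
    ∃ g ∈ X, b = g * a * g⁻¹ := by
  obtain ⟨s, hs, hsX, -, e⟩ := h.ri.exists_mid_mem ha hb ho h1 h2
  exact ⟨s, hsX, by rw [h.ri.inv hs, e]⟩

omit [Finite G] in
theorem conj_of_ec (hc : c ∈ D) (hp : p ∈ D) (ho : Od c p) {X : Subgroup G} (m1 : Ec D c ⊆ X) (m2 : p ∈ X)
    (he : e ∈ Ec D c) : ∃ g ∈ X, e = g * c * g⁻¹ := by
  obtain ⟨g, hg, e1⟩ := h.conj_of_od hc hp ho (m1 (ec_self hc)) m2
  obtain ⟨k, hk, e2⟩ := h.conj_of_od hp he.1 (h.ec_od he hp ho).symm m2 (m1 he)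
  exact ⟨k * g, X.mul_mem hk hg, by rw [e2, e1]; group⟩

omit [Finite G] in
theorem ne_top (hO : pCore 2 G = ⊥) (hw : w ∈ D) {S : Set G} (hS : ∀ s ∈ S, w * s = s * w) :
    Subgroup.closure S ≠ ⊤ := fun e => h.ri.ne w hw (eq_one_of_gen hO e (h.ri.sq w hw) hS)

end OG

theorem a0_aux (hA : AschStmt.{u}) (n : ℕ) : ∀ (G : Type u) [Group G] [Finite G] (D : Set G),
    Nat.card G = n → OG D → pCore 2 G = ⊥ → ∀ c p v : G, c ∈ D → p ∈ D → Od c p →
    v ∈ Subgroup.closure (Ec D c) → v * p * v⁻¹ ∈ Ec D p → v = 1 := by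
  induction n using Nat.strong_induction_on with
  | _ n ih =>
  intro G _ _ D hn h hO c p v hc hp ho hv h1
  obtain ⟨a, b, hl⟩ := h.line
  by_cases hcon : IsConnectedSet (CommAdj D) D
  swap
  · obtain ⟨Ω, _, hB, -⟩ := h.ri.exists_bs_comm h.gen hcon h.line
    obtain ⟨Δ, hΔ⟩ := hB.exists_blk hc
    obtain ⟨Γ, hΓ⟩ := hB.exists_blk hp
    exact eq_one_of_twoZ hO (hB.mem_twoZCore_iff.2 (hB.cl_triv hA (Subgroup.closure_mono
      (fun e he => hB.same_comm hΔ he.1 (h.ec_comm (ec_self hc) he)) hv) (hB.smul_eq_of_conj hΓ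
        (hB.same_comm hΓ h1.1 (h.ec_comm (ec_self hp) h1)))
      fun e => hB.not_od_blk hA hΔ (e ▸ hΓ) ho)) (h.cl_ec_sq hv)
  refine h.eq_one_of_forall hO hc hp ho (h.cl_ec_sq hv) fun r hr => ?_
  by_cases e1 : c * r = r * c
  · rw [← comm_of_closure (fun s hs => (h.ec_cm hs hc hr e1).symm) hv, mul_inv_cancel_right]
    exact ec_self hr
  have ho' := h.od_of hc hr e1
  obtain ⟨w, hw, h2, h3⟩ := h.diam hA h.cl hl hcon hp hr
  by_cases e2 : c * w = w * c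
  swap
  · exact h.ec_of_comm hA hc hw hr (h.od_of hc hw e2) ho' h3 hv
      (h.ec_of_comm hA hc hp hw ho (h.od_of hc hw e2) h2.symm hv h1)
  let X := Subgroup.closure (Ec D c ∪ {p, r})
  have m1 : Ec D c ⊆ X := fun _ hs => Subgroup.subset_closure (Or.inl hs)
  have m2 : p ∈ X := Subgroup.subset_closure (Or.inr (Or.inl rfl))
  have m3 : r ∈ X := Subgroup.subset_closure (Or.inr (Or.inr rfl))
  have m4 : v ∈ X := (Subgroup.closure_le X).2 m1 hv
  have hX : X ≤ Subgroup.closure D := h.gen ▸ le_top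
  have h' := h.sub hc hp ho m1 m2 rfl fun s hs => hs.elim (h.conj_of_ec hc hp ho m1 m2) fun hs =>
    hs.elim (fun e => e ▸ h.conj_of_od hc hp ho (m1 (ec_self hc)) m2)
      fun e => (show s = r from e) ▸ h.conj_of_od hc hr ho' (m1 (ec_self hc)) m3
  have hp' := h.mem_dq (X := X) (p := ⟨c, m1 (ec_self hc)⟩) (q := ⟨p, m2⟩) hc hp ho
  refine h.ec_of_core hc (v := ⟨v, m4⟩) (r := ⟨r, m3⟩) hr ho' hv (ih _ (hn ▸ card_quot_lt
    (h.ne_top hO hw ?_) _) _ _ rfl h' (Core.pCore_quotient_pCore 2 X) _ _ _ ⟨1, by simp⟩ hp'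
    (h.od_mk hp ho) (mk_mem_closure _ m1 (fun s hs => h.ec_dq (q := ⟨p, m2⟩) hX hc hp ho hs) hv)
    ⟨h'.conj hp' _, ?_⟩)
  · have := h'.conj hp' (QuotientGroup.mk' _ ⟨v, m4⟩)
    rw [← map_inv, ← map_mul, ← map_mul] at this ⊢
    exact h.ao_dq h'.toNF hX hc h1.1 hp this hp' h1.2
  · rintro s (hs | rfl | rfl)
    exacts [(h.ec_cm hs hc hw e2).symm, h2, h3]

end CfsgLib.RootInv
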