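import Cfsg.Agent.Lib.RootInv.OT4
import Cfsg.Agent.Lib.Transfer.Focal

/-! Odd transpositions: the two types of the groups `⟨E_c, p⟩`. -/

set_option autoImplicit false

namespace CfsgLib.RootInv

open Cfsg MulAction
open scoped commutatorElement

universe u

variable {G : Type u} [Group G] {D : Set G} {a b c d e f g p r s t v w x y z : G}

/-- The group generated by a class and a further element. -/
abbrev Xg (D : Set G) (c p : G) : Subgroup G := Subgroup.closure (Ec D c ∪ {p})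

theorem ec_le_xg : Ec D c ⊆ Xg D c p := fun _ hs => Subgroup.subset_closure (Or.inl hs)

theorem mem_xg : p ∈ Xg D c p := Subgroup.subset_closure (Or.inr rfl)

theorem t2_of_mk {X : Subgroup G} {r : X} (h : T2 (QuotientGroup.mk' (pCore 2 X) r)) : T2 (r : G) := by
  obtain ⟨k, hk⟩ := h
  obtain ⟨j, hj⟩ := Core.isPGroup_pCore 2 X ⟨r ^ 2 ^ k, (QuotientGroup.eq_one_iff _).1 hk⟩
  exact ⟨k + j, by rw [pow_add, pow_mul]; exact congrArg (fun x : pCore 2 X => ((x : X) : G)) hj⟩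

theorem orderOf_of_mk {X : Subgroup G} {r : X} {n : ℕ} (hn : n.Prime) (ho : Odd (orderOf (r : G)))
    (h : orderOf (QuotientGroup.mk' (pCore 2 X) r) = n) : orderOf (r : G) = n := by
  have := Fact.mk hn
  obtain ⟨k, hk⟩ := t2_of_mk (X := X) (r := r ^ n) ⟨0, by rw [map_pow, ← h, pow_orderOf_eq_one, one_pow]⟩
  refine orderOf_eq_prime (eq_one_of_odd (ho.of_dvd_nat (orderOf_pow_dvd n)) hk) fun e => hn.ne_one ?_
  rw [← h, show r = 1 from Subtype.ext e, map_one, orderOf_one]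

namespace OG

variable [Finite G] (h : OG D) (hA : AschStmt.{u}) (hO : pCore 2 G = ⊥)
include h hO

omit [Finite G] in
theorem exists_od (hc : c ∈ D) : ∃ p ∈ D, Od c p := by
  by_contra hn
  push Not at hn
  exact h.ne_top hO hc (fun s hs => by_contra fun e => hn s hs (h.od_of hc hs e)) h.gen

omit hO in
theorem lift_ec (hc : c ∈ D) (hp : p ∈ D) (ho : Od c p) {y : Xg D c p ⧸ pCore 2 (Xg D c p)}
    (hy : y ∈ Ec (Dq D (Xg D c p) ⟨c, ec_le_xg (ec_self hc)⟩)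
      (QuotientGroup.mk' _ ⟨c, ec_le_xg (ec_self hc)⟩)) :
    ∃ e : Xg D c p, (e : G) ∈ Ec D c ∧ QuotientGroup.mk' _ e = y := by
  have h' := h.nf_dq (X := Xg D c p) (p := ⟨c, ec_le_xg (ec_self hc)⟩) (q := ⟨p, mem_xg⟩)
    (h.gen ▸ le_top) hc hp ho
  obtain ⟨g, rfl⟩ := hy.1
  exact ⟨_, h.local_blk hc hp ho g.2 ((h.comm_mk (h.conj hc g) hc).1
    (h'.ec_comm hy (ec_self ⟨1, by simp⟩))), rfl⟩

omit hO [Finite G] in
theorem ot_xg (hc : c ∈ D) (hp : p ∈ D) (ho : Od c p) :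
    OT (Dq D (Xg D c p) ⟨c, ec_le_xg (ec_self hc)⟩) (QuotientGroup.mk' _ ⟨c, ec_le_xg (ec_self hc)⟩)
      (QuotientGroup.mk' _ ⟨p, mem_xg⟩) :=
  h.ot_dq rfl hc hp ho (fun _ he => he.1) fun _ hs => h.ec_dq (q := ⟨p, mem_xg⟩) (h.gen ▸ le_top) hc hp ho hs

include hA

theorem a0 (hc : c ∈ D) (hp : p ∈ D) (ho : Od c p) (hv : v ∈ Subgroup.closure (Ec D c))
    (h1 : v * p * v⁻¹ ∈ Ec D p) : v = 1 := a0_aux hA _ G D rfl h hO c p v hc hp ho hv h1

theorem eq_one_of_mk (hc : c ∈ D) (hp : p ∈ D) (ho : Od c p) {X : Subgroup G} (hpX : p ∈ X) {v : X}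
    (hv : (v : G) ∈ Subgroup.closure (Ec D c)) (h1 : QuotientGroup.mk' (pCore 2 X) v = 1) : v = 1 :=
  Subtype.ext (h.a0 hA hO hc hp ho hv (h.ec_of_core hc (r := ⟨p, hpX⟩) hp ho hv h1))

theorem mul_mem_ec (hc : c ∈ D) (he : e ∈ Ec D c) (hf : f ∈ Ec D c) (hne : e ≠ f) : e * f ∈ Ec D c := by
  obtain ⟨p, hp, ho⟩ := h.exists_od hO hc
  have hT := h.ot_xg hc hp ho
  have hm := fun {e : G} (he : e ∈ Ec D c) => h.ec_dq (X := Xg D c p) (p := ⟨c, ec_le_xg (ec_self hc)⟩)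
    (q := ⟨p, mem_xg⟩) (r := ⟨e, ec_le_xg he⟩) (h.gen ▸ le_top) hc hp ho he
  have h1 := Subgroup.mul_mem _ (Subgroup.subset_closure he) (Subgroup.subset_closure hf)
  have hl := hT.ln_ec (hm he) (hm hf) fun e1 => hne (h.ri.eq_of_mul_eq_one hf.1 (congrArg Subtype.val
    (h.eq_one_of_mk hA hO hc hp ho mem_xg (v := ⟨e, ec_le_xg he⟩ * ⟨f, ec_le_xg hf⟩) h1 (by
      rw [map_mul, e1, hT.ri.sq _ (hm hf).1]))))
  obtain ⟨g, hg, e2⟩ := h.lift_ec hc hp ho ⟨hl.2.2.2.2, (hT.ao_ln (hT.ri.ln_mul hl)).symm.trans (hm he).2⟩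
  rw [h.ri.eq_of_mul_eq_one (a := e * f) hg.1 (congrArg Subtype.val (h.eq_one_of_mk hA hO hc hp ho mem_xg
    (v := ⟨e, ec_le_xg he⟩ * ⟨f, ec_le_xg hf⟩ * g) (Subgroup.mul_mem _ h1 (Subgroup.subset_closure hg))
    (by rw [map_mul, map_mul, e2, hT.ri.sq _ hl.2.2.2.2])))]
  exact hg

theorem mem_cl_ec (hc : c ∈ D) : v ∈ Subgroup.closure (Ec D c) ↔ v ∈ Ec D c ∨ v = 1 := by
  refine ⟨fun hv => ?_, fun hv => hv.elim (fun hv => Subgroup.subset_closure hv) fun e => e ▸ Subgroup.one_mem _⟩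
  induction hv using Subgroup.closure_induction with
  | mem y hy => exact Or.inl hy
  | one => exact Or.inr rfl
  | mul x y _ _ hx hy =>
    rcases hx with hx | rfl
    · rcases hy with hy | rfl
      · by_cases e : x = y
        · exact Or.inr (e ▸ h.ri.sq x hx.1)
        · exact Or.inl (h.mul_mem_ec hA hO hc hx hy e)
      · exact Or.inl (by simpa using hx)
    · simpa using hy
  | inv x _ hx => exact hx.imp (fun hx => by rwa [h.ri.inv hx.1]) fun e => by rw [e, inv_one]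

theorem core_cent (hc : c ∈ D) (hp : p ∈ D) (ho : Od c p) {n : Xg D c p}
    (hn : QuotientGroup.mk' (pCore 2 (Xg D c p)) n = 1) (hg : g ∈ Xg D c p) : n * g = g * n := by
  have key : ∀ n : Xg D c p, QuotientGroup.mk' (pCore 2 (Xg D c p)) n = 1 → ∀ e ∈ Ec D c,
      n * e = e * n := fun n hn e he => by
    have h1 : (n : G) * e * (n : G)⁻¹ ∈ Ec D e := h.local_blk he.1 hp (h.ec_od he hp ho)
      (by rw [ec_eq he]; exact n.2) ((h.comm_mk (p := n * ⟨e, ec_le_xg he⟩ * n⁻¹) (q := ⟨e, ec_le_xg he⟩)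
        (h.conj he.1 n) he.1).1 (by simp only [map_mul, map_inv, hn]; simp))
    have h2 := h.eq_one_of_mk hA hO hc hp ho mem_xg (v := n * ⟨e, ec_le_xg he⟩ * n⁻¹ * ⟨e, ec_le_xg he⟩)
      (Subgroup.mul_mem _ (Subgroup.subset_closure (ec_eq he ▸ h1)) (Subgroup.subset_closure he)) (by
        rw [map_mul, map_mul, map_mul, map_inv, hn, one_mul, inv_one, mul_one, ← map_mul]
        exact (congrArg _ (Subtype.ext (h.ri.sq e he.1))).trans (map_one _))
    exact mul_inv_eq_iff_eq_mul.1 (h.ri.eq_of_mul_eq_one he.1 (congrArg Subtype.val h2))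
  refine comm_of_closure (fun s hs => hs.elim (key n hn s) fun e => ?_) hg
  obtain ⟨k, hk, e1⟩ := h.conj_of_od hc hp ho (ec_le_xg (ec_self hc)) mem_xg
  have := (show Commute _ _ from key ((⟨k, hk⟩ : Xg D c p)⁻¹ * n * ⟨k, hk⟩) (by
    simp only [map_mul, map_inv, hn]; simp) c (ec_self hc)).conj k
  rw [← e1] at this
  rw [show s = p from e]
  simpa [mul_assoc] using this.eq

theorem eq_of_mk (hc : c ∈ D) (hp : p ∈ D) (ho : Od c p) {a b x : Xg D c p} (ha : (a : G) ∈ D)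
    (hb : (b : G) ∈ D) (hx : (x : G) ∈ D) (h1 : Od (a : G) x)
    (e : QuotientGroup.mk' (pCore 2 (Xg D c p)) a = QuotientGroup.mk' _ b) : (a : G) = b := by
  have h2 : QuotientGroup.mk' (pCore 2 (Xg D c p)) (b * a) = 1 := by
    rw [map_mul, ← e, ← map_mul]
    exact (congrArg _ (Subtype.ext (h.ri.sq _ ha))).trans (map_one _)
  exact (h.ri.eq_of_mul_eq_one ha (h.ri.ct ha hx h1 (h.core_cent hA hO hc hp ho h2 a.2)
    (h.core_cent hA hO hc hp ho h2 x.2) (by rw [h.ri.mm' ha]; exact hb))).symm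

theorem types (hc : c ∈ D) (hp : p ∈ D) (ho : Od c p) :
    (IsL2 (Xg D c p) ((Ec D c).ncard + 1) ∧ ∃ s ∈ Ec D c, orderOf (s * p) = 3) ∨
      ∃ s ∈ Ec D c, ∃ r ∈ Xg D c p, Eq5 s p r ∧ ∀ e ∈ Ec D c, r * e = e * r := by
  have : Fact (Nat.Prime 2) := ⟨Nat.prime_two⟩
  have hT := h.ot_xg hc hp ho
  have hm := fun {e : G} (he : e ∈ Ec D c) => h.ec_dq (X := Xg D c p) (p := ⟨c, ec_le_xg (ec_self hc)⟩)
    (q := ⟨p, mem_xg⟩) (r := ⟨e, ec_le_xg he⟩) (h.gen ▸ le_top) hc hp ho he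
  obtain ⟨c', hl⟩ := h.exists_ln hc
  have hc' : c' ∈ Ec D c := ⟨hl.2.1, (h.ao_ln hl).symm⟩
  obtain ⟨Ω, _, ω, hB, e1, hf, hi⟩ := hT.exists_bs' hA (hm hc') (h.ln_dq (p' := ⟨c', ec_le_xg hc'⟩)
    (q := ⟨p, mem_xg⟩) (h.gen ▸ le_top) hl hp ho).2.2.1
  rcases hB.types hf hi hT.hx (e1 ▸ hT.gen') with ⟨h1, h2, s, hs, h3⟩ | ⟨s, hs, r, h5⟩
  · obtain ⟨s, hs', rfl⟩ := h.lift_ec hc hp ho (e1 ▸ hs)
    refine Or.inl ⟨?_, s, hs', orderOf_of_mk (r := s * ⟨p, mem_xg⟩) Nat.prime_three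
      (h.ec_od hs' hp ho).2 (by rw [map_mul, h3])⟩
    have hQ : pCore 2 (Xg D c p) = ⊥ := by
      obtain ⟨P, hP⟩ := (Core.isPGroup_pCore 2 (Xg D c p)).exists_le_sylow
      have dec : ∀ x ∈ (P : Subgroup (Xg D c p)), x ∈ Subgroup.center _ ∨ ∃ d : Xg D c p, (d : G) ∈ D ∧
          d⁻¹ * x ∈ Subgroup.center _ ∧ QuotientGroup.mk' (pCore 2 _) d = QuotientGroup.mk' _ x := by
        intro x hx
        have cen : ∀ n, QuotientGroup.mk' (pCore 2 (Xg D c p)) n = 1 → n ∈ Subgroup.center _ :=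
          fun n hn => Subgroup.mem_center_iff.2 fun g =>
            Subtype.ext (h.core_cent hA hO hc hp ho hn g.2).symm
        by_cases e : QuotientGroup.mk' (pCore 2 (Xg D c p)) x = 1
        · exact Or.inl (cen x e)
        obtain ⟨g, hg⟩ := hi _ (StrEmb.orderOf_eq_two (h2 _ (T2.map _ ((P.isPGroup' ⟨x, hx⟩).imp
          fun _ => congrArg Subtype.val))) e)
        exact Or.inr ⟨_, h.conj hc g, cen _ (by rw [map_mul, map_inv, ← hg, inv_mul_cancel]), hg.symm⟩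
      have hcomm : ∀ x ∈ (P : Subgroup (Xg D c p)), ∀ y ∈ (P : Subgroup (Xg D c p)), x * y = y * x := by
        intro x hx y hy
        rcases dec x hx with h4 | ⟨d, hd, h4, h5⟩
        · exact (Subgroup.mem_center_iff.1 h4 y).symm
        rcases dec y hy with h6 | ⟨d', hd', h6, h7⟩
        · exact Subgroup.mem_center_iff.1 h6 x
        have t : ∀ x ∈ (P : Subgroup (Xg D c p)), (QuotientGroup.mk' (pCore 2 (Xg D c p)) x)⁻¹ =
            QuotientGroup.mk' _ x := fun x hx => inv_eq_of_mul_eq_one_right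
          (h2 _ (T2.map _ ((P.isPGroup' ⟨x, hx⟩).imp fun _ => congrArg Subtype.val)))
        have h8 : Commute d d' := Subtype.ext ((h.comm_mk hd hd').1 (by
          rw [h5, h7, ← map_mul, ← t _ (Subgroup.mul_mem _ hx hy), map_mul, mul_inv_rev, t x hx, t y hy]))
        rw [← mul_inv_cancel_left d x, ← mul_inv_cancel_left d' y]
        exact ((h8.mul_right (Subgroup.mem_center_iff.1 h6 _)).mul_left
          (Subgroup.mem_center_iff.1 h4 _).symm).eq
      have hperf : commutator (Xg D c p) = ⊤ := by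
        obtain ⟨k, hk, e2⟩ := h.conj_of_ec hc hp ho ec_le_xg mem_xg hc'
        obtain ⟨l, hl', e3⟩ := h.conj_of_ec hc hp ho ec_le_xg mem_xg
          (h.mul_mem_ec hA hO hc (ec_self hc) hc' hl.2.2.1)
        have h4 : (⟨c, ec_le_xg (ec_self hc)⟩ : Xg D c p) ∈ commutator _ := by
          have : (⟨c, ec_le_xg (ec_self hc)⟩ : Xg D c p) =
              ⁅(⟨l, hl'⟩ * (⟨k, hk⟩ : Xg D c p)⁻¹ : Xg D c p), (⟨c', ec_le_xg hc'⟩ : Xg D c p)⁆ := by
            refine Subtype.ext (eq_mul_inv_of_mul_eq (e3.trans ?_))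
            simp [e2, mul_assoc]
          exact this ▸ Subgroup.commutator_mem_commutator (Subgroup.mem_top _) (Subgroup.mem_top _)
        rw [eq_top_iff, ← Subgroup.closure_closure_coe_preimage, Subgroup.closure_le]
        intro x hx
        obtain ⟨g, hg, e4⟩ : ∃ g ∈ Xg D c p, (x : G) = g * c * g⁻¹ := hx.elim
          (h.conj_of_ec hc hp ho ec_le_xg mem_xg) fun e => by
            rw [show (x : G) = p from e]
            exact h.conj_of_od hc hp ho (ec_le_xg (ec_self hc)) mem_xg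
        exact (Subtype.ext e4 : x = ⟨g, hg⟩ * ⟨c, _⟩ * ⟨g, hg⟩⁻¹) ▸
          (inferInstance : (commutator _).Normal).conj_mem _ h4 _
      refine eq_bot_iff.2 fun n hn => ?_
      have := Transfer.inf_commutator_inf_center_le_of_hall P.card_coprime_index
        ⟨⟨hP hn, hperf ▸ Subgroup.mem_top n⟩, Subgroup.mem_center_iff.2 fun g => Subtype.ext
          (h.core_cent hA hO hc hp ho ((QuotientGroup.eq_one_iff _).2 hn) g.2).symm⟩
      rwa [Subgroup.commutator_eq_bot_iff_le_centralizer.2 fun x hx =>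
        Subgroup.mem_centralizer_iff.2 fun y hy => hcomm y hy x hx] at this
    obtain ⟨F, i1, i2, h4, h5, h6, ⟨φ⟩⟩ := h1
    refine ⟨F, i1, i2, h4, h5, ?_, ⟨((QuotientGroup.quotientBot.symm.trans
      (QuotientGroup.quotientMulEquivOfEq hQ.symm))).trans φ⟩⟩
    rw [h6, e1]
    congr 1
    refine (Set.ncard_congr (fun e he => QuotientGroup.mk' _ ⟨e, ec_le_xg he⟩) (fun e he => hm he)
      (fun e f he hf e2 => h.eq_of_mk hA hO hc hp ho (x := ⟨p, mem_xg⟩) he.1 hf.1 hp (h.ec_od he hp ho) e2)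
      fun y hy => ?_).symm
    obtain ⟨e, he, e2⟩ := h.lift_ec hc hp ho hy
    exact ⟨e, he, e2⟩
  · obtain ⟨s, hs', rfl⟩ := h.lift_ec hc hp ho (e1 ▸ hs)
    obtain ⟨r, rfl⟩ := QuotientGroup.mk'_surjective _ r
    have hso := h.ec_od hs' hp ho
    have key : ∀ e ∈ Ec D c, (r : G) * e = e * r := fun e he => mul_inv_eq_iff_eq_mul.1
      (h.eq_of_mk hA hO hc hp ho (a := ⟨e, ec_le_xg he⟩) (b := r * ⟨e, ec_le_xg he⟩ * r⁻¹)
        (x := ⟨p, mem_xg⟩) he.1 (h.conj he.1 r) hp (h.ec_od he hp ho) (by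
          rw [map_mul, map_mul, hB.two_comm hf hi h5.two (hB.smul_eq_of_conj hs (by
            rwa [h5.comm, mul_inv_cancel_right])) (e1 ▸ hm he), map_inv, mul_inv_cancel_right])).symm
    refine Or.inr ⟨s, hs', r, r.2, ⟨t2_of_mk h5.two, key s hs', ?_, orderOf_of_mk (r := s * ⟨p, mem_xg⟩)
      Nat.prime_five hso.2 (by rw [map_mul, h5.ord])⟩, key⟩
    exact h.eq_of_mk hA hO hc hp ho (a := ⟨p, mem_xg⟩ * s * ⟨p, mem_xg⟩) (b := r⁻¹ * ⟨p, mem_xg⟩ * r)
      (x := s) (h.ri.conj _ hs'.1 p hp) (by simpa using h.conj hp (r : G)⁻¹) hs'.1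
      (h.ri.od_conj_self hs'.1 hp hso).symm (by simp only [map_mul, map_inv, h5.eq])

end OG

end CfsgLib.RootInv
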