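import Cfsg.Agent.Lib.RootInv.OT5
import Cfsg.Agent.Lib.RootInv.Asch

/-! Odd transpositions of Suzuki type with connected commuting graph: the lines. -/

set_option autoImplicit false

namespace CfsgLib.RootInv

open Cfsg MulAction

universe u

variable {G : Type u} [Group G] {D : Set G} {a b c d e f g p r s t u v w x y z : G}

/-- Some pair has Suzuki type. -/
def P5 (D : Set G) : Prop := ∃ s ∈ D, ∃ t ∈ D, ∃ r ∈ Xg D s t, Eq5 s t r

/-- The induction hypothesis. -/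
def IH5 (G : Type u) [Group G] : Prop :=
  ∀ X : Subgroup G, X ≠ ⊤ → ∀ D : Set (X ⧸ pCore 2 X), OG D → IsConnectedSet (CommAdj D) D → ¬ P5 D

theorem od_of_order {n : ℕ} (hb : b * b = 1) (h : orderOf (a * b) = n) (ho : Odd n) (h1 : n ≠ 1) :
    Od a b := ⟨fun e => h1 (by rw [← h, e, hb, orderOf_one]), h ▸ ho⟩

theorem Eq5.od (h : Eq5 s t r) (ht : t * t = 1) : Od s t := od_of_order ht h.ord (by decide) (by decide)

theorem NF.eq5_mk (h : NF D) {X : Subgroup G} {s t r : X} (ht : (t : G) ∈ D) (h5 : Eq5 (s : G) t r) :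
    Eq5 (QuotientGroup.mk' (pCore 2 X) s) (QuotientGroup.mk' _ t) (QuotientGroup.mk' _ r) :=
  Eq5.map _ ⟨h5.two.imp fun _ e => Subtype.ext e, Subtype.ext h5.comm, Subtype.ext h5.eq, by
    rw [← Subgroup.orderOf_coe]; exact h5.ord⟩ fun e => h.mk_ne ht (h5.od (h.ri.sq _ ht)) (by
      rw [map_mul, mul_eq_one_iff_eq_inv, ← map_inv] at e
      rw [e, inv_eq_of_mul_eq_one_right (Subtype.ext (h.ri.sq _ ht))])

theorem NF.three_mk (h : NF D) {X : Subgroup G} {a b : X} (hb : (b : G) ∈ D)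
    (h3 : orderOf ((a : G) * b) = 3) :
    orderOf (QuotientGroup.mk' (pCore 2 X) a * QuotientGroup.mk' _ b) = 3 := by
  have : Fact (Nat.Prime 3) := ⟨Nat.prime_three⟩
  refine orderOf_eq_prime ?_ fun e => h.mk_ne hb (od_of_order (h.ri.sq _ hb) h3 (by decide) (by decide)) ?_
  · rw [← map_mul, ← map_pow, show (a * b) ^ 3 = 1 from Subtype.ext (h3 ▸ pow_orderOf_eq_one _), map_one]
  · rw [mul_eq_one_iff_eq_inv, ← map_inv] at e
    rw [e, inv_eq_of_mul_eq_one_right (Subtype.ext (h.ri.sq _ hb))]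

namespace OG

variable [Finite G] (h : OG D)
include h

omit [Finite G] in
theorem p5_dq (hc : c ∈ D) (hp : p ∈ D) (ho : Od c p) {X : Subgroup G} (m1 : Ec D c ⊆ X) (m2 : p ∈ X)
    (hs : s ∈ Ec D c) (hr : r ∈ Xg D c p) (h5 : Eq5 s p r) : P5 (Dq D X ⟨c, m1 (ec_self hc)⟩) := by
  have hm := fun {e : G} (he : e ∈ Ec D c) => h.ec_dq (X := X) (p := ⟨c, m1 (ec_self hc)⟩)
    (q := ⟨p, m2⟩) (r := ⟨e, m1 he⟩) (h.gen ▸ le_top) hc hp ho he
  have m3 : Ec D c ∪ {p} ⊆ X := Set.union_subset m1 (Set.singleton_subset_iff.2 m2)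
  refine ⟨_, (hm hs).1, _, h.mem_dq (q := ⟨p, m2⟩) hc hp ho, _, ?_, h.eq5_mk (s := ⟨s, m1 hs⟩)
    (r := ⟨r, (Subgroup.closure_le X).2 m3 hr⟩) hp h5⟩
  refine mk_mem_closure _ m3 (fun e he => ?_) hr
  rcases he with he | he
  · exact Or.inl (ec_eq (hm hs) ▸ hm he)
  · exact Or.inr (congrArg _ (Subtype.ext he))

theorem excl_comm (hc : c ∈ D) (hp : p ∈ D) (hy : y ∈ D) (h1 : Od c p) (h2 : Od c y) (h3 : p * y = y * p)
    (hs : s ∈ Ec D c) (hr : r ∈ Xg D c p) (h5 : Eq5 s p r) (ha : a ∈ Ec D c) : orderOf (a * y) ≠ 3 := by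
  obtain ⟨p', hl⟩ := h.exists_ln hp
  have hp' : p' ∈ Ec D p := ⟨hl.2.1, (h.ao_ln hl).symm⟩
  let X := Subgroup.closure ((Ec D p ∪ {y}) ∪ {c})
  have m1 : Ec D p ⊆ X := fun _ hs => Subgroup.subset_closure (Or.inl (Or.inl hs))
  have m2 : c ∈ X := Subgroup.subset_closure (Or.inr rfl)
  have m3 := h.ec_sub hp hc h1.symm m1 m2
  obtain ⟨h4, hT⟩ := h.ot_of_comm (X := X) (p := ⟨p, m1 (ec_self hp)⟩) (p' := ⟨p', m1 hp'⟩) (q := ⟨c, m2⟩)
    (r := ⟨y, Subgroup.subset_closure (Or.inl (Or.inr rfl))⟩) rfl hl hc h1.symm hy h3 h2.symm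
    fun _ hs => hs
  have hl' := h.ln_dq (X := X) (p := ⟨p, m1 (ec_self hp)⟩) (p' := ⟨p', m1 hp'⟩) (q := ⟨c, m2⟩)
    (h.gen ▸ le_top) hl hc h1.symm
  obtain ⟨Ω, _, ω, hB, -⟩ := hT.exists_bs ⟨hl'.2.1, (hT.ao_ln hl').symm⟩ hl'.2.2.1
  exact fun e => hB.not_three_five' asch (h.mem_dq (q := ⟨s, m3 hs⟩) hp hs.1 (h.ec_od hs hp h1).symm) hT.hd
    (h.eq5_mk (r := ⟨r, (Subgroup.closure_le X).2 (Set.union_subset m3 (Set.singleton_subset_iff.2
      (m1 (ec_self hp)))) hr⟩) hp h5) (h.mem_dq (q := ⟨a, m3 ha⟩) hp ha.1 (h.ec_od ha hp h1).symm) h4.1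
    (h.three_mk hy e)

theorem excl_cent (hO : pCore 2 G = ⊥) (ih : IH5 G) (hc : c ∈ D) (hp : p ∈ D) (hy : y ∈ D) (h1 : Od c p)
    (h2 : Od c y) (hw : w ∈ D) (e1 : c * w = w * c) (e2 : w * p = p * w) (e3 : w * y = y * w)
    (hs : s ∈ Ec D c) (hr : r ∈ Xg D c p) (h5 : Eq5 s p r) (ha : a ∈ Ec D c) : orderOf (a * y) ≠ 3 := by
  let X := Subgroup.closure (Ec D c ∪ {p, y})
  have m1 : Ec D c ⊆ X := fun _ hs => Subgroup.subset_closure (Or.inl hs)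
  have m2 : p ∈ X := Subgroup.subset_closure (Or.inr (Or.inl rfl))
  have m3 : y ∈ X := Subgroup.subset_closure (Or.inr (Or.inr rfl))
  have h' := h.sub hc hp h1 m1 m2 rfl fun s hs => hs.elim (h.conj_of_ec hc hp h1 m1 m2) fun hs =>
    hs.elim (fun e => e ▸ h.conj_of_od hc hp h1 (m1 (ec_self hc)) m2)
      fun e => (show s = y from e) ▸ h.conj_of_od hc hy h2 (m1 (ec_self hc)) m3
  have h6 := h.p5_dq hc hp h1 m1 m2 hs hr h5
  obtain ⟨Ω, _, hB, -⟩ := h'.ri.exists_bs_comm h'.gen (fun hcon => ih X (h.ne_top hO hw (by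
    rintro s (hs | rfl | rfl)
    exacts [(h.ec_cm hs hc hw e1).symm, e2, e3])) _ h' hcon h6) h'.line
  obtain ⟨s, hs, t, ht, r, -, h7⟩ := h6
  exact fun e => hB.not_three_five' asch hs ht h7 (h.ec_dq (q := ⟨p, m2⟩) (r := ⟨a, m1 ha⟩)
    (h.gen ▸ le_top) hc hp h1 ha).1 (h.mem_dq (q := ⟨y, m3⟩) hc hy h2) (h.three_mk hy e)

theorem not_three (hO : pCore 2 G = ⊥) (hcon : IsConnectedSet (CommAdj D) D) (ih : IH5 G) (h5 : P5 D)
    (ha : a ∈ D) (hb : b ∈ D) : orderOf (a * b) ≠ 3 := fun h3 => by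
  obtain ⟨s, hs, t, ht, r, hr, h5⟩ := h5
  obtain ⟨g, -, rfl⟩ := h.cl s hs a ha
  obtain ⟨b, rfl⟩ : ∃ b', b = g * b' * g⁻¹ := ⟨g⁻¹ * b * g, by group⟩
  rw [conj_mul, Invol.orderOf_conj] at h3
  replace hb : b ∈ D := by simpa [mul_assoc] using h.conj hb g⁻¹
  have h1 := h5.od (h.ri.sq t ht)
  have h2 := od_of_order (h.ri.sq b hb) h3 (by decide) (by decide)
  obtain ⟨x, y, hl⟩ := h.line
  obtain ⟨w, hw, e1, e2⟩ := h.diam asch h.cl hl hcon ht hb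
  by_cases e : s * w = w * s
  · exact h.excl_cent hO ih hs ht hb h1 h2 hw e e1 e2 (ec_self hs) hr h5 (ec_self hs) h3
  have h4 := h.od_of hs hw e
  rcases h.types asch hO hs hw h4 with ⟨-, s', hs', h6⟩ | ⟨s', hs', r', hr', h6, -⟩
  · exact h.excl_comm hs ht hw h1 h4 e1.symm (ec_self hs) hr h5 hs' h6
  · exact h.excl_comm hs hw hb h4 h2 e2 hs' hr' h6 (ec_self hs) h3

theorem exists_od_od (hO : pCore 2 G = ⊥) (hc : c ∈ D) (hw : w ∈ D) : ∃ y ∈ D, Od c y ∧ Od w y := by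
  by_contra hn
  push Not at hn
  obtain ⟨p, hp, ho⟩ := h.exists_od hO hc
  have : (Subgroup.closure (Ao D c)).Normal := by
    refine Subgroup.normalizer_eq_top_iff.1 (eq_top_iff.2 (h.gen ▸ (Subgroup.closure_le _).2 fun d hd => ?_))
    by_cases e : c * d = d * c
    · refine Subgroup.mem_normalizer_fintype fun v hv => (Subgroup.closure_le
        ((Subgroup.closure (Ao D c)).comap (MulAut.conj d).toMonoidHom)).2 (fun s hs => ?_) hv
      have := (od_conj d).2 hs.2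
      rw [← e, mul_inv_cancel_right] at this
      exact Subgroup.subset_closure ⟨h.conj hs.1 d, this⟩
    · exact Subgroup.le_normalizer (Subgroup.subset_closure ⟨hd, h.od_of hc hd e⟩)
  refine h.ne_top hO hw (S := Ao D c) (fun s hs => by_contra fun e => hn s hs.1 hs.2 (h.od_of hw hs.1 e))
    (eq_top_iff.2 (h.gen ▸ (Subgroup.closure_le _).2 fun d hd => ?_))
  obtain ⟨g, -, rfl⟩ := h.cl p hp d hd
  exact this.conj_mem p (Subgroup.subset_closure ⟨hp, ho⟩) g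

end OG

/-- The odd component of `a` among the members commuting with `w`. -/
def Kc (D : Set G) (w a : G) : Set G := {y | Relation.ReflTransGen (OddAdj (commutingMembers D w)) a y}

theorem kc_self : a ∈ Kc D w a := .refl

theorem kc_mem (ha : a ∈ commutingMembers D w) (hy : y ∈ Kc D w a) : y ∈ commutingMembers D w := by
  induction hy with
  | refl => exact ha
  | tail _ h _ => exact h.2.1

theorem kc_od (ha : a ∈ commutingMembers D w) (hy : y ∈ Kc D w a) (hz : z ∈ commutingMembers D w)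
    (ho : Od y z) : z ∈ Kc D w a := hy.tail ⟨kc_mem ha hy, hz, ho⟩

theorem kc_symm (hy : y ∈ Kc D w a) : a ∈ Kc D w y := path_symm (fun _ _ => oddAdj_symm) hy

theorem kc_mono (hs : ∀ y ∈ Kc D w a, y * u = u * y) (hy : y ∈ Kc D w a) : y ∈ Kc D u a := by
  induction hy with
  | refl => exact .refl
  | tail h1 h2 ih => exact ih.tail ⟨⟨h2.1.1, hs _ h1⟩, ⟨h2.2.1.1, hs _ (h1.tail h2)⟩, h2.2.2⟩

theorem NF.kc_comm (h : NF D) (ha : a ∈ commutingMembers D w) (hy : y ∈ Kc D w a)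
    (hz : z ∈ commutingMembers D w) (hn : z ∉ Kc D w a) : y * z = z * y :=
  by_contra fun e => hn (kc_od ha hy hz (h.od_of (kc_mem ha hy).1 hz.1 e))

/-- A minimal counterexample. -/
structure CX (D : Set G) : Prop extends OG D where
  core : pCore 2 G = ⊥
  con : IsConnectedSet (CommAdj D) D
  ih : IH5 G
  n3 : ∀ a ∈ D, ∀ b ∈ D, orderOf (a * b) ≠ 3

namespace CX

variable [Finite G] (h : CX D)
include h

theorem f5 (hc : c ∈ D) (hp : p ∈ D) (ho : Od c p) :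
    ∃ s ∈ Ec D c, ∃ r ∈ Xg D c p, Eq5 s p r ∧ ∀ e ∈ Ec D c, r * e = e * r :=
  (h.types asch h.core hc hp ho).resolve_left fun ⟨_, s, hs, e⟩ => h.n3 s hs.1 p hp e

theorem diam' (ha : a ∈ D) (hb : b ∈ D) : ∃ w ∈ D, w * a = a * w ∧ w * b = b * w := by
  obtain ⟨x, y, hl⟩ := h.line
  exact h.diam asch h.cl hl h.con ha hb

theorem tr (hw : w ∈ D) (ha : a ∈ commutingMembers D w) (hx : x ∈ commutingMembers D w) (ho : Od a x)
    {y1 y2 y3 : G} (h1 : y1 ∈ Kc D w a) (h2 : y2 ∈ Kc D w a) (h3 : y3 ∈ Kc D w a)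
    (e1 : y1 * y2 = y2 * y1) (e2 : y2 * y3 = y3 * y2) : y1 * y3 = y3 * y1 := by
  let X := Subgroup.closure (Kc D w a)
  have hx' := kc_od ha kc_self hx ho
  have m1 : Ec D a ⊆ X := fun e he => Subgroup.subset_closure
    (kc_od ha hx' ⟨he.1, h.ec_cm he ha.1 hw ha.2⟩ (h.ec_od he hx.1 ho).symm)
  have key : ∀ s ∈ Kc D w a, ∃ g ∈ X, s = g * a * g⁻¹ := fun s hs => by
    induction hs with
    | refl => exact ⟨1, X.one_mem, by simp⟩
    | tail h1 h2 ih =>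
      obtain ⟨g, hg, e1⟩ := ih
      obtain ⟨k, hk, e2⟩ := h.conj_of_od h2.1.1 h2.2.1.1 h2.2.2 (X := X) (Subgroup.subset_closure h1)
        (Subgroup.subset_closure (h1.tail h2))
      exact ⟨k * g, X.mul_mem hk hg, by rw [e2, e1]; group⟩
  have h' := h.sub ha.1 hx.1 ho m1 (Subgroup.subset_closure hx') rfl key
  obtain ⟨s, hs, r, hr, h5, -⟩ := h.f5 ha.1 hx.1 ho
  obtain ⟨Ω, _, hB, -⟩ := h'.ri.exists_bs_comm h'.gen (fun hcon => h.ih X (h.ne_top h.core hw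
    fun s hs => (kc_mem ha hs).2.symm) _ h' hcon
      (h.p5_dq ha.1 hx.1 ho m1 (Subgroup.subset_closure hx') hs hr h5)) h'.line
  have hm : ∀ y (hy : y ∈ Kc D w a), QuotientGroup.mk' (pCore 2 X) ⟨y, Subgroup.subset_closure hy⟩ ∈
      Dq D X ⟨a, m1 (ec_self ha.1)⟩ := fun y hy => by
    obtain ⟨g, hg, e⟩ := key y hy
    exact ⟨⟨g, hg⟩, congrArg _ (Subtype.ext e)⟩
  obtain ⟨ω, hω⟩ := hB.exists_blk (hm y2 h2)
  exact (h.comm_mk (kc_mem ha h1).1 (kc_mem ha h3).1).1 (hB.comm_blk asch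
    (hB.same_comm hω (hm y1 h1) ((h.comm_mk (kc_mem ha h2).1 (kc_mem ha h1).1).2 e1.symm))
    (hB.same_comm hω (hm y3 h3) ((h.comm_mk (kc_mem ha h2).1 (kc_mem ha h3).1).2 e2)))

theorem not_mem_kc (hw : w ∈ D) (hc : c ∈ commutingMembers D w) {u' : G} (hu : u ∈ commutingMembers D w)
    (hu' : u' ∈ commutingMembers D w) (e1 : u * c = c * u) (e2 : u' * c = c * u') (ho : Od u u') :
    u ∉ Kc D w c := fun hm =>
  h.ri.od_not_comm hu.1 hu'.1 ho (h.tr hw hu hu' ho kc_self (kc_symm hm) (kc_od hu kc_self hu' ho) e1 e2.symm)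

theorem kc_kc (hw : w ∈ D) (hc : c ∈ commutingMembers D w) (hn : c ∉ Ec D w) {u' : G}
    (hu : u ∈ commutingMembers D w) (hu' : u' ∈ commutingMembers D w) (e1 : u * c = c * u)
    (e2 : u' * c = c * u') (ho : Od u u') (hp : p ∈ Kc D w c) (hx : x ∈ Kc D c w) : p * x = x * p := by
  have hw' : w ∈ commutingMembers D c := ⟨hw, hc.2.symm⟩
  have k1 := fun y hy => h.kc_comm (y := y) hc hy hu (h.not_mem_kc hw hc hu hu' e1 e2 ho)
  have k2 := fun y hy => h.kc_comm (y := y) hw' hy ⟨hu.1, e1⟩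
    (h.not_mem_kc hc.1 hw' ⟨hu.1, e1⟩ ⟨hu'.1, e2⟩ hu.2 hu'.2 ho)
  obtain ⟨z, hz, e3, ho'⟩ := h.exists_od_comm hw hc.1 hn
  have hz' := kc_od hc kc_self ⟨hz, e3⟩ ho'
  by_contra e
  have h1 := kc_od ⟨hc.1, e1.symm⟩ (kc_mono k1 hp) ⟨(kc_mem hw' hx).1, k2 x hx⟩
    (h.od_of (kc_mem hc hp).1 (kc_mem hw' hx).1 e)
  exact h.ri.od_not_comm hc.1 hz ho' (h.tr hu.1 ⟨hc.1, e1.symm⟩ ⟨hz, k1 z hz'⟩ ho' kc_self
    (h1.trans (kc_symm (kc_mono k2 hx))) (kc_mono k1 hz') hc.2 e3.symm)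

/-- The members commuting with two different commuting points commute. -/
theorem clique (hw : w ∈ D) (hc : c ∈ commutingMembers D w) (hn : c ∉ Ec D w)
    (hu : u ∈ commutingMembers D w) (hv : v ∈ commutingMembers D w) (e1 : u * c = c * u)
    (e2 : v * c = c * v) : u * v = v * u := by
  by_contra e0
  have ho := h.od_of hu.1 hv.1 e0
  have r2 : ∀ w ∈ D, ∀ c ∈ commutingMembers D w, c ∉ Ec D w → ∀ p ∈ Kc D w c, ∀ x ∈ Kc D c w,
      p * x = x * p := by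
    intro w1 hw1 c1 hc1 hn1 p hp x hx
    obtain ⟨g, -, rfl⟩ := h.cl w hw w1 hw1
    have hm : ∀ {y : G}, y ∈ commutingMembers D w → g * y * g⁻¹ ∈ commutingMembers D (g * w * g⁻¹) :=
      fun hy => ⟨h.conj hy.1 g, by rw [conj_mul, conj_mul, hy.2]⟩
    have ho' := (od_conj g).2 ho
    have f1 : g * u * g⁻¹ * (g * c * g⁻¹) = g * c * g⁻¹ * (g * u * g⁻¹) := by rw [conj_mul, conj_mul, e1]
    have f2 : g * v * g⁻¹ * (g * c * g⁻¹) = g * c * g⁻¹ * (g * v * g⁻¹) := by rw [conj_mul, conj_mul, e2]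
    by_cases hk : c1 ∈ Kc D (g * w * g⁻¹) (g * c * g⁻¹)
    · exact h.kc_kc hw1 hc1 hn1 (hm hu) (hm hv) (h.kc_comm (hm hc) hk (hm hu) (h.not_mem_kc hw1 (hm hc)
        (hm hu) (hm hv) f1 f2 ho')).symm (h.kc_comm (hm hc) hk (hm hv) (h.not_mem_kc hw1 (hm hc)
        (hm hv) (hm hu) f2 f1 ho'.symm)).symm ho' hp hx
    · obtain ⟨z, hz, e3, ho2⟩ := h.exists_od_comm hw hc.1 hn
      exact h.kc_kc hw1 hc1 hn1 (hm hc) (hm ⟨hz, e3⟩) (h.kc_comm (hm hc) kc_self hc1 hk)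
        (h.kc_comm (hm hc) (kc_od (hm hc) kc_self (hm ⟨hz, e3⟩) ((od_conj g).2 ho2)) hc1 hk)
        ((od_conj g).2 ho2) hp hx
  obtain ⟨y, hy, o1, o2⟩ := h.exists_od_od h.core hc.1 hw
  obtain ⟨x, hx, e3, e4⟩ := h.diam' hc.1 hy
  have hc' : c ∈ commutingMembers D x := ⟨hc.1, e3.symm⟩
  have hn' : c ∉ Ec D x := fun e => h.ri.od_not_comm hc.1 hy o1 (h.ec_cm e hx hy e4)
  have hy' := kc_od hc' kc_self ⟨hy, e4.symm⟩ o1
  refine h.ri.od_not_comm hw hy o2 (Eq.symm ?_)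
  by_cases e5 : x * w = w * x
  · refine h.kc_comm hc' hy' ⟨hw, e5.symm⟩ fun hk => ?_
    obtain ⟨z, hz, e6, o3⟩ := h.exists_od_comm hc.1 hw fun e => hn ⟨hc.1, e.2.symm⟩
    have e7 := h.kc_comm ⟨hx, e3⟩ kc_self ⟨hz, e6⟩ fun hz' =>
      h.ri.od_not_comm hw hz o3 (r2 x hx c hc' hn' w hk z hz')
    exact h.ri.od_not_comm hw hz o3 (h.tr hx hc' ⟨hy, e4.symm⟩ o1 hk kc_self
      (kc_od hc' hk ⟨hz, e7.symm⟩ o3) hc.2.symm e6.symm)
  · exact r2 x hx c hc' hn' y hy' w (kc_od ⟨hx, e3⟩ kc_self ⟨hw, hc.2.symm⟩ (h.od_of hx hw e5))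

end CX

end CfsgLib.RootInv
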