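import Cfsg.Agent.Lib.RootInv.OT6

/-! Odd transpositions of Suzuki type with connected commuting graph: the quadrangle. -/

set_option autoImplicit false

namespace CfsgLib.RootInv

open Cfsg MulAction
open scoped IsMulCommutative

universe u

variable {G : Type u} [Group G] {D : Set G} {a b c d e f g m p r s t u v w x y z : G}

theorem conj_mem_closure {S : Set G} (hS : ∀ s ∈ S, g * s * g⁻¹ ∈ S) (hv : v ∈ Subgroup.closure S) :
    g * v * g⁻¹ ∈ Subgroup.closure S :=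
  (Subgroup.closure_le ((Subgroup.closure S).comap (MulAut.conj g).toMonoidHom)).2
    (fun s hs => Subgroup.subset_closure (hS s hs)) hv

/-- Averaging over a group of odd order. -/
theorem eq_one_of_avg [Finite G] {N : Subgroup G} {B : Set G} (hc : ∀ a ∈ B, ∀ b ∈ B, a * b = b * a)
    (hN : ∀ g ∈ N, ∀ b ∈ B, g * b * g⁻¹ ∈ B) (htr : ∀ a ∈ B, ∀ b ∈ B, ∃ g ∈ N, g * a * g⁻¹ = b)
    (h2 : ∀ g ∈ N, T2 g → ∀ b ∈ B, g * b = b * g) (he : e ∈ B) (hf : f ∈ B) (hef : e * f ∈ B)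
    (hz : z ∈ Subgroup.closure B) (h1 : ∀ g ∈ N, g * z = z * g) (hsq : z * z = 1) : z = 1 := by
  classical
  have := Subgroup.isMulCommutative_closure hc
  let A := Subgroup.closure B
  have hle : N ≤ Subgroup.normalizer (A : Set G) := fun g hg =>
    Subgroup.mem_normalizer_fintype fun v hv => conj_mem_closure (hN g hg) hv
  let φ := A.normalizerMonoidHom.comp (Subgroup.inclusion hle)
  have hφ : ∀ (g : N) (a : A), ((φ g a : A) : G) = g * a * (g : G)⁻¹ := fun _ _ => rfl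
  have := Fintype.ofFinite φ.range
  let τ : A →* A := MonoidHom.mk' (fun a => ∏ γ : φ.range, (γ : MulAut A) a) fun a b => by
    simp only [map_mul, Finset.prod_mul_distrib]
  have h3 : ∀ (g : N) (a : A), τ (φ g a) = τ a := fun g a =>
    Equiv.prod_comp (Equiv.mulRight (⟨φ g, g, rfl⟩ : φ.range)) fun γ => (γ : MulAut A) a
  have h4 : ∀ b (hb : b ∈ B), τ ⟨b, Subgroup.subset_closure hb⟩ = τ ⟨e, Subgroup.subset_closure he⟩ :=
    fun b hb => by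
    obtain ⟨g, hg, rfl⟩ := htr e he b hb
    exact h3 ⟨g, hg⟩ ⟨e, Subgroup.subset_closure he⟩
  have h5 : τ ⟨e, Subgroup.subset_closure he⟩ = 1 := by
    have := (h4 _ hef).symm.trans (map_mul τ ⟨e, Subgroup.subset_closure he⟩ ⟨f, Subgroup.subset_closure hf⟩)
    rwa [h4 f hf, left_eq_mul] at this
  have h6 : τ ⟨z, hz⟩ = 1 := Subgroup.mem_bot.1 (Subgroup.closure_singleton_one (G := A) ▸
    mk_mem_closure τ (T := {1}) Subgroup.subset_closure (fun s hs => (h4 s hs).trans h5) hz)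
  have h7 : Odd (Nat.card φ.range) := StrEmb.odd_card_of_forall (D := φ.range) fun γ ⟨g, hg⟩ h8 => by
    obtain ⟨k, j, hj, e1⟩ := Nat.exists_eq_two_pow_mul_odd (orderOf_pos g).ne'
    have h9 : φ (g ^ j) = 1 := MulEquiv.ext fun a => Subtype.ext (by
      rw [hφ, comm_of_closure (h2 _ (g ^ j).2 ⟨k, by
        rw [← Subgroup.coe_pow, ← pow_mul, mul_comm, ← e1, pow_orderOf_eq_one]; rfl⟩) a.2,
        mul_inv_cancel_right]
      rfl)
    rw [map_pow, hg] at h9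
    have := hj.of_dvd_nat (orderOf_dvd_of_pow_eq_one h9)
    rw [h8] at this
    exact absurd this (by decide)
  have h8 : τ ⟨z, hz⟩ = ⟨z, hz⟩ ^ Nat.card φ.range := by
    rw [Nat.card_eq_fintype_card, ← Finset.card_univ, ← Finset.prod_const]
    refine Finset.prod_congr rfl ?_
    rintro ⟨_, g, rfl⟩ -
    exact Subtype.ext (by rw [hφ, h1 g g.2, mul_inv_cancel_right])
  obtain ⟨j, hj⟩ := h7
  have h9 := congrArg Subtype.val (h8.symm.trans h6)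
  rwa [hj, Subgroup.coe_pow, pow_succ, pow_mul, pow_two, hsq, one_pow, one_mul] at h9

/-- The line through two commuting points. -/
def Ln (D : Set G) (c w : G) : Set G := {y | y ∈ D ∧ y * c = c * y ∧ y * w = w * y}

theorem T2.sub {X : Subgroup G} (h : T2 g) (hg : g ∈ X) : T2 (⟨g, hg⟩ : X) := h.imp fun _ e => Subtype.ext e

theorem ln_swap (h : y ∈ Ln D c w) : y ∈ Ln D w c := ⟨h.1, h.2.2, h.2.1⟩

theorem ln_comm : Ln D c w = Ln D w c := Set.ext fun _ => and_congr_right fun _ => and_comm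

theorem not_ec_symm (hc : c ∈ D) (hn : c ∉ Ec D w) : w ∉ Ec D c := fun e => hn ⟨hc, e.2.symm⟩

/-- Two different commuting points. -/
structure Col (D : Set G) (c w : G) : Prop where
  hc : c ∈ D
  hw : w ∈ D
  comm : c * w = w * c
  ne : c ∉ Ec D w

theorem Col.symm (h : Col D c w) : Col D w c := ⟨h.hw, h.hc, h.comm.symm, not_ec_symm h.hc h.ne⟩

theorem Col.left (h : Col D c w) : c ∈ Ln D c w := ⟨h.hc, rfl, h.comm⟩

theorem Col.right (h : Col D c w) : w ∈ Ln D c w := ⟨h.hw, h.comm.symm, rfl⟩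

theorem NF.col_of (h : NF D) (hc : c ∈ D) (hw : w ∈ D) (e : c * w = w * c) (hp : p ∈ D) (ho : Od c p)
    (e' : w * p = p * w) : Col D c w :=
  ⟨hc, hw, e, fun hn => h.ri.od_not_comm hc hp ho (h.ec_cm hn hw hp e')⟩

theorem NF.ec_ln (h : NF D) (hl : Col D c w) (he : e ∈ Ec D c) : e ∈ Ln D c w :=
  ⟨he.1, h.ec_comm he (ec_self hl.hc), h.ec_cm he hl.hc hl.hw hl.comm⟩

namespace CX

variable [Finite G] (h : CX D)
include h

theorem ln_cl (hl : Col D c w) (hu : u ∈ Ln D c w) (hv : v ∈ Ln D c w) : u * v = v * u :=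
  h.clique hl.hw ⟨hl.hc, hl.comm⟩ hl.ne ⟨hu.1, hu.2.2⟩ ⟨hv.1, hv.2.2⟩ hu.2.1 hv.2.1

theorem ln_eq (hl : Col D c w) (hu : u ∈ Ln D c w) (hv : v ∈ Ln D c w) (hn : u ∉ Ec D v) :
    Ln D u v = Ln D c w := by
  have hl' : Col D u v := ⟨hu.1, hv.1, h.ln_cl hl hu hv, hn⟩
  exact Set.ext fun y => ⟨fun hy => ⟨hy.1, h.ln_cl hl' hy ⟨hl.hc, hu.2.1.symm, hv.2.1.symm⟩,
    h.ln_cl hl' hy ⟨hl.hw, hu.2.2.symm, hv.2.2.symm⟩⟩, fun hy => ⟨hy.1, h.ln_cl hl hy hu, h.ln_cl hl hy hv⟩⟩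

theorem mem_ec_of_ln (hl : Col D c w) (hp : p ∈ D) (ho : Od c p) (e : w * p = p * w) (hu : u ∈ Ln D c w)
    (e' : u * p = p * u) : u ∈ Ec D w := by_contra fun hn =>
  h.ri.od_not_comm hl.hc hp ho ((h.ln_eq hl hu hl.right hn).subset ⟨hp, e'.symm, e.symm⟩).2.1.symm

theorem exists_beta (hl : Col D c w) (hy : y ∈ D) (h1 : Od c y) :
    ∃ e ∈ Ec D c, ∃ m ∈ Ln D c w, Od m y ∧ m * (e * w) * y = y * (m * (e * w)) := by
  obtain ⟨c', hl'⟩ := h.exists_ln hl.hc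
  have key : ∀ e ∈ Ec D c, y * (e * w * y * (e * w)) ≠ e * w * y * (e * w) * y →
      ∃ e ∈ Ec D c, ∃ m ∈ Ln D c w, Od m y ∧ m * (e * w) * y = y * (m * (e * w)) := fun e he h0 => by
    obtain ⟨m, hm, h2, -, h3, h4, h5⟩ := h.beta he.1 hl.hw (h.ec_ln hl he).2.2
      (fun e1 => hl.ne ⟨hl.hc, (e1 ▸ he).2.symm⟩) hy h0
    exact ⟨e, he, m, ⟨hm, (h.same_comm he.1 hl.hc he.2 hm h3).symm, h4.symm⟩, h2.symm, h5⟩
  by_contra hn
  exact h.not_alpha2 hl' hl.hw hl.comm hy h1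
    (by_contra fun h0 => hn (key _ ⟨hl'.2.1, (h.ao_ln hl').symm⟩ h0))
    (by_contra fun h0 => hn (key _ ⟨hl'.2.2.2.2, (h.ao_ln (h.ri.ln_mul hl')).symm⟩ h0))

theorem third (hl : Col D c w) : ∃ m ∈ Ln D c w, m ∉ Ec D c ∧ m ∉ Ec D w := by
  obtain ⟨y, hy, h1, h2⟩ := h.exists_od_od h.core hl.hc hl.hw
  obtain ⟨e, he, m, hm, -, h3⟩ := h.exists_beta hl hy h1
  have key : ∀ {c w e f : G}, Col D c w → Od c y → Od w y → e ∈ Ec D c → f ∈ Ec D w → m ∈ Ec D c →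
      m * e * f * y ≠ y * (m * e * f) := fun {c w e f} hl h1 h2 he hf hm e1 => by
    by_cases e2 : m = e
    · rw [e2, h.ri.sq e he.1, one_mul] at e1
      exact h.ri.od_not_comm hf.1 hy (h.ec_od hf hy h2) e1
    have h4 := h.mul_mem_ec asch h.core hl.hc hm he e2
    exact h.ri.od_not_comm h4.1 hy (h.ec_od h4 hy h1) (h.c1 h4.1 hf.1 (h.ln_cl hl (h.ec_ln hl h4)
      (ln_swap (h.ec_ln hl.symm hf))) (fun e3 => hl.ne ⟨hl.hc, h4.2.symm.trans (e3 ▸ hf.2)⟩) hy e1)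
  refine ⟨m, hm, fun hc => key hl h1 h2 he (ec_self hl.hw) hc (by rwa [mul_assoc m]),
    fun hc => key hl.symm h2 h1 (ec_self hl.hw) he hc ?_⟩
  rwa [mul_assoc m, ← (h.ec_ln hl he).2.2]

theorem odd_ec (hc : c ∈ D) : Odd (Ec D c).ncard := by
  have : Fact (Nat.Prime 2) := ⟨Nat.prime_two⟩
  obtain ⟨k, hk⟩ := (h.closure_ec c).exists_card_eq
  have e : Ec D c = (Subgroup.closure (Ec D c) : Set G) \ {1} := Set.ext fun v => by
    rw [Set.mem_diff, SetLike.mem_coe, h.mem_cl_ec asch h.core hc]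
    exact ⟨fun hv => ⟨Or.inl hv, h.ri.ne v hv.1⟩, fun hv => hv.1.resolve_right hv.2⟩
  have h1 := Set.ncard_sdiff_singleton_add_one (Subgroup.closure (Ec D c)).one_mem (Set.toFinite _)
  rw [← e, ← Nat.card_coe_set_eq (Subgroup.closure (Ec D c) : Set G), SetLike.coe_sort_coe, hk] at h1
  have h2 := (Set.ncard_pos (Set.toFinite _)).2 ⟨c, ec_self hc⟩
  rcases k with _ | k
  · omega
  · exact ⟨2 ^ k - 1, by have := Nat.one_le_two_pow (n := k); omega⟩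

theorem even_ln (hl : Col D c w) (hy : y ∈ D) (ho : Od c y) (hf : f ∈ Ln D c w) (hfy : Od f y)
    (hn : f ∉ Ec D c) : 2 ∣ {b | b ∈ Ln D c w ∧ Od b y}.ncard := by
  by_contra hodd
  have : Fact (Nat.Prime 2) := ⟨Nat.prime_two⟩
  set T := {b | b ∈ Ln D c w ∧ Od b y}
  let X := Subgroup.closure (T ∪ {y})
  have mT : T ⊆ X := fun _ hs => Subgroup.subset_closure (Or.inl hs)
  have m0 : Ec D c ⊆ T := fun e he => ⟨h.ec_ln hl he, h.ec_od he hy ho⟩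
  have m1 : Ec D c ⊆ X := m0.trans mT
  have m2 : y ∈ X := Subgroup.subset_closure (Or.inr rfl)
  have hX : X ≤ Subgroup.closure D := h.gen ▸ le_top
  have h' := h.nf_dq (X := X) (p := ⟨c, m1 (ec_self hl.hc)⟩) (q := ⟨y, m2⟩) hX hl.hc hy ho
  have hm := fun {e : G} (he : e ∈ Ec D c) => h.ec_dq (X := X) (p := ⟨c, m1 (ec_self hl.hc)⟩)
    (q := ⟨y, m2⟩) (r := ⟨e, m1 he⟩) hX hl.hc hy ho he
  have hd : ∀ t : X, (t : G) ∈ T → QuotientGroup.mk' _ t ∈ Dq D X ⟨c, m1 (ec_self hl.hc)⟩ :=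
    fun t ht => h.mem_dq' (q := ⟨y, m2⟩) hl.hc hy ht.1.1 ho ht.2
  have beta : ∀ t ∈ T, t ∉ Ec D c → ∃ e ∈ Ec D c, ∃ m ∈ T, m * (e * t) * (m * (e * t)) = 1 ∧
      ∀ g ∈ X, m * (e * t) * g = g * (m * (e * t)) := fun t ht hn => by
    have hl' : Col D c t := ⟨hl.hc, ht.1.1, ht.1.2.1.symm, not_ec_symm ht.1.1 hn⟩
    obtain ⟨e, he, m, hm, h1, h2⟩ := h.exists_beta hl' hy ho
    rw [h.ln_eq hl hl.left ht.1 hl'.ne] at hm
    have h3 : ∀ s ∈ Ln D c w, Commute (m * (e * t)) s := fun s hs => Commute.mul_left (h.ln_cl hl hm hs)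
      (Commute.mul_left (h.ln_cl hl (m0 he).1 hs) (h.ln_cl hl ht.1 hs))
    refine ⟨e, he, m, ⟨hm, h1⟩, ?_, fun g hg => comm_of_closure (fun s hs => hs.elim (fun hs => h3 s hs.1)
      fun hs => hs ▸ h2) hg⟩
    rw [← mul_assoc _ m, (h3 m hm).eq, h.ri.mm hm.1]
    exact (mul_assoc _ _ _).symm.trans (h.ri.cm_eq_one he.1 ht.1.1 (h.ln_cl hl (m0 he).1 ht.1))
  have hec : ∀ t : X, (t : G) ∈ T → QuotientGroup.mk' _ t ∈ Ec (Dq D X ⟨c, m1 (ec_self hl.hc)⟩)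
      (QuotientGroup.mk' _ ⟨c, m1 (ec_self hl.hc)⟩) := fun t ht => by
    by_cases hn : (t : G) ∈ Ec D c
    · exact hm hn
    obtain ⟨e, he, m, hmT, h1, h2⟩ := beta t ht hn
    have h3 : QuotientGroup.mk' (pCore 2 X) (⟨m, mT hmT⟩ * (⟨e, m1 he⟩ * t)) = 1 :=
      eq_one_of_gen (Core.pCore_quotient_pCore 2 X) Subgroup.closure_univ (by
        rw [← map_mul]; exact (congrArg _ (Subtype.ext h1)).trans (map_one _)) fun q _ => by
          obtain ⟨g, rfl⟩ := QuotientGroup.mk'_surjective _ q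
          rw [← map_mul, ← map_mul]
          exact congrArg _ (Subtype.ext (h2 g g.2))
    rw [map_mul, map_mul, mul_eq_one_iff_inv_eq, h'.ri.inv (hd _ hmT)] at h3
    have h4 := h3 ▸ hd _ hmT
    exact ⟨hd t ht, (h'.ao_ln ⟨(hm he).1, hd t ht, fun e1 => h'.ri.ne _ h4 (by
      rw [e1, h'.ri.sq _ (hd t ht)]), (h.comm_mk he.1 ht.1.1).2 (h.ln_cl hl (m0 he).1 ht.1), h4⟩).symm.trans
      (hm he).2⟩
  have hT := h.ot_dq (X := X) (q := ⟨y, m2⟩) rfl hl.hc hy ho (fun _ hs => hs.1.1) hec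
  obtain ⟨c', hl'⟩ := h.exists_ln hl.hc
  have hc' : c' ∈ Ec D c := ⟨hl'.2.1, (h.ao_ln hl').symm⟩
  have hne := (h.ln_dq (X := X) (p := ⟨c, m1 (ec_self hl.hc)⟩) (p' := ⟨c', m1 hc'⟩) (q := ⟨y, m2⟩) hX hl'
    hy ho).2.2.1
  have hblk : ∀ g ∈ X, ∀ a ∈ T, ∀ b ∈ T, g * a * g⁻¹ * b = b * (g * a * g⁻¹) → g * a * g⁻¹ ∈ T := by
    intro g hg a ha b hb e1
    have h1 := h.conj ha.1.1 g
    have h2 := hT.conj (hd ⟨a, mT ha⟩ ha) (QuotientGroup.mk' _ ⟨g, hg⟩)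
    rw [← map_inv, ← map_mul, ← map_mul] at h2
    have h3 := hT.mem_ec (hm hc') hne h2 (hT.same_comm (hd _ hb) hT.hd (hec ⟨b, mT hb⟩ hb).2 h2
      ((h.comm_mk hb.1.1 h1).2 e1.symm))
    refine ⟨⟨h1, (h.comm_mk h1 hl.hc).1 (hT.ec_comm h3 (ec_self hT.hd)), ?_⟩, h.od_of h1 hy fun e2 =>
      hT.ri.od_not_comm h2 hT.hx (hT.od_ec h3) ((h.comm_mk h1 hy).2 e2)⟩
    by_cases e2 : w * y = y * w
    · exact (comm_of_closure (fun s hs => hs.elim (fun hs => hs.1.2.2.symm) fun hs => hs ▸ e2)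
        (X.mul_mem (X.mul_mem hg (mT ha)) (X.inv_mem hg))).symm
    · have h4 : w ∈ T := ⟨hl.right, h.od_of hl.hw hy e2⟩
      exact (h.comm_mk h1 hl.hw).1 (hT.ec_comm h3 (hec ⟨w, mT h4⟩ h4))
  have htr : ∀ a ∈ T, ∀ b ∈ T ∪ {y}, ∃ g ∈ X, b = g * a * g⁻¹ := fun a ha b hb => by
    obtain ⟨g, hg, e1⟩ := h.conj_of_od ha.1.1 hy ha.2 (mT ha) m2
    rcases hb with hb | hb
    · obtain ⟨k, hk, e2⟩ := h.conj_of_od hy hb.1.1 hb.2.symm m2 (mT hb)
      exact ⟨k * g, X.mul_mem hk hg, by rw [e2, e1]; group⟩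
    · exact ⟨g, hg, hb.trans e1⟩
  obtain ⟨t, ht, h1⟩ := exists_fixed (Core.isPGroup_map_pCore (p := 2) X) (X := T) (by
    rintro _ ⟨n, hn, rfl⟩ a ha
    exact hblk n n.2 a ha a ha ((h.comm_mk (p := n * ⟨a, mT ha⟩ * n⁻¹) (q := ⟨a, mT ha⟩)
      (h.conj ha.1.1 n) ha.1.1).1 (by
        simp only [map_mul, map_inv, show QuotientGroup.mk' (pCore 2 X) n = 1 from
          (QuotientGroup.eq_one_iff _).2 hn]
        simp))) hodd
  have cen : ∀ n : X, QuotientGroup.mk' (pCore 2 X) n = 1 → ∀ g ∈ X, n * g = g * n := fun n hn g hg =>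
    comm_of_closure (fun s hs => by
      obtain ⟨k, hk, rfl⟩ := htr t ht s hs
      have := (show Commute _ _ from mul_inv_eq_iff_eq_mul.1 (h1 _ ⟨(⟨k, hk⟩ : X)⁻¹ * n * ⟨k, hk⟩,
        (QuotientGroup.eq_one_iff _).1 (by
          change QuotientGroup.mk' _ _ = 1
          simp only [map_mul, map_inv, hn]; simp), rfl⟩)).conj k
      simpa [mul_assoc] using this.eq) hg
  obtain ⟨Ω, _, ω, hB, e1, hf', hi⟩ := hT.exists_bs' asch (hm hc') hne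
  obtain ⟨e, he, m, hmT, h2, h3⟩ := beta f ⟨hf, hfy⟩ hn
  have h4 := eq_one_of_avg (N := X ⊓ Subgroup.normalizer T) (B := T) (fun a ha b hb => h.ln_cl hl ha.1 hb.1)
    (fun g hg b hb => (hg.2 b).1 hb) (fun a ha b hb => ?_) (fun g hg h5 b hb => ?_)
    (m0 (ec_self hl.hc)) (m0 hc') (m0 (h.mul_mem_ec asch h.core hl.hc (ec_self hl.hc) hc' hl'.2.2.1))
    (Subgroup.mul_mem _ (Subgroup.subset_closure hmT) (Subgroup.mul_mem _ (Subgroup.subset_closure (m0 he))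
      (Subgroup.subset_closure ⟨hf, hfy⟩))) (fun g hg => (h3 g hg.1).symm) h2
  · rw [mul_eq_one_iff_inv_eq, h.ri.inv hmT.1.1] at h4
    exact hn ⟨hf.1, (h.ao_ln ⟨he.1, hf.1, fun e2 => hn (e2 ▸ he), h.ln_cl hl (m0 he).1 hf,
      h4 ▸ hmT.1.1⟩).symm.trans he.2⟩
  · obtain ⟨g, hg, rfl⟩ := htr a ha b (Or.inl hb)
    exact ⟨g, ⟨hg, Subgroup.mem_normalizer_fintype fun s hs => hblk g hg s hs _ hb (by
      rw [conj_mul, conj_mul, h.ln_cl hl hs.1 ha.1])⟩, rfl⟩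
  · have h6 := (hg.2 b).1 hb
    have h7 : QuotientGroup.mk' (pCore 2 X) (⟨g, hg.1⟩ * ⟨b, mT hb⟩ * (⟨g, hg.1⟩ : X)⁻¹ * ⟨b, mT hb⟩) = 1 := by
      have h8 := e1.ge (hec ⟨b, mT hb⟩ hb)
      rw [map_mul, map_mul, map_mul, hB.two_comm hf' hi ((h5.sub hg.1).map _)
        (hB.smul_eq_of_conj h8 (by
          rw [← map_inv, ← map_mul, ← map_mul]
          exact e1.ge (hec _ h6))) h8, map_inv, mul_inv_cancel_right, hT.ri.sq _ h8.1]
    exact mul_inv_eq_iff_eq_mul.1 (h.ri.eq_of_mul_eq_one hb.1.1 (h.ri.ct hb.1.1 hy hb.2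
      (cen _ h7 b (mT hb)) (cen _ h7 y m2) (by rw [h.ri.mm' hb.1.1]; exact h6.1.1)))

/-- The axiom of a generalized quadrangle. -/
theorem gq (hl : Col D c w) (hy : y ∈ D) : ∃ u ∈ Ln D c w, u * y = y * u := by
  by_contra hn
  have h1 : ∀ u ∈ Ln D c w, Od u y := fun u hu => h.od_of hu.1 hy fun e => hn ⟨u, hu, e⟩
  have h2 := h.even_ln hl hy (h1 c hl.left) hl.right (h1 w hl.right) hl.symm.ne
  rw [show {b | b ∈ Ln D c w ∧ Od b y} = Ln D c w from Set.ext fun b => and_iff_left_of_imp (h1 b)] at h2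
  obtain ⟨p, hp, e, ho⟩ := h.exists_od_comm hl.hw hl.hc hl.ne
  have h3 : ∀ b ∈ Ln D c w, Od b p ↔ b ∉ Ec D w := fun b hb =>
    ⟨fun h4 h5 => h.ri.od_not_comm hb.1 hp h4 (h.ec_cm h5 hl.hw hp e.symm),
      fun h4 => h.od_of hb.1 hp fun e' => h4 (h.mem_ec_of_ln hl hp ho e.symm hb e')⟩
  obtain ⟨m, hm, h4, h5⟩ := h.third hl
  have h6 := h.even_ln hl hp ho hm ((h3 m hm).2 h5) h4
  rw [show {b | b ∈ Ln D c w ∧ Od b p} = Ln D c w \ Ec D w from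
    Set.ext fun b => and_congr_right (h3 b)] at h6
  have h7 := Set.ncard_diff_add_ncard_of_subset (s := Ec D w) (t := Ln D c w)
    (fun e he => ln_swap (h.ec_ln hl.symm he)) (Set.toFinite _)
  have h8 := h.odd_ec hl.hw
  rw [Nat.odd_iff] at h8
  omega

end CX

end CfsgLib.RootInv
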