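import Cfsg.Agent.Lib.RootInv.OT7

/-! Odd transpositions of Suzuki type with connected commuting graph: the lines through a point. -/

set_option autoImplicit false

namespace CfsgLib.RootInv

open Cfsg MulAction

universe u

variable {G : Type u} [Group G] {D : Set G} {a b c d e f g k l m n p r s t u v w x y z : G}

/-- The members collinear with a point. -/
def Kh (D : Set G) (c : G) : Set G := {x | Col D x c}

/-- The group generated by the line through two points. -/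
abbrev Al (D : Set G) (x c : G) : Subgroup G := Subgroup.closure (Ln D x c)

theorem OG.col_conj (h : OG D) (hx : Col D x c) (hg : g * c = c * g) : Col D (g * x * g⁻¹) c := by
  have e : g * c * g⁻¹ = c := by rw [hg, mul_inv_cancel_right]
  refine ⟨h.conj hx.hc g, hx.hw, by rw [← e, conj_mul, conj_mul, hx.comm], fun hn => hx.ne ?_⟩
  have := h.ec_conj hn g⁻¹
  rw [← e] at this
  simpa [mul_assoc] using this

theorem kh_comm (hg : g ∈ Subgroup.closure (Kh D c)) : g * c = c * g :=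
  (comm_of_closure (fun _ hs => hs.comm.symm) hg).symm

theorem al_comm (hg : g ∈ Al D x c) : g * c = c * g := (comm_of_closure (fun _ hs => hs.2.2.symm) hg).symm

theorem inv_comm (hg : g * c = c * g) : g⁻¹ * c = c * g⁻¹ := Commute.inv_left hg

namespace CX

variable [Finite G] (h : CX D)
include h

theorem col_tr (hx : Col D x c) (hy : Col D y c) (hz : Col D z c) (e1 : x * y = y * x) (e2 : y * z = z * y) :
    x * z = z * x := h.ln_cl hy ⟨hx.hc, e1, hx.comm⟩ ⟨hz.hc, e2.symm, hz.comm⟩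

/-- The kernel of the action on the lines through a point. -/
def Ker (c : G) : Subgroup G where
  carrier := {g | g * c = c * g ∧ ∀ x, Col D x c → g * x * g⁻¹ * x = x * (g * x * g⁻¹)}
  one_mem' := ⟨by simp, by simp⟩
  mul_mem' := fun {g k} hg hk => ⟨Commute.mul_left hg.1 hk.1, fun x hx => by
    have h1 := h.col_conj hx hk.1
    have := h.col_tr (h.col_conj h1 hg.1) h1 hx (hg.2 _ h1) (hk.2 x hx)
    simpa only [mul_inv_rev, mul_assoc] using this⟩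
  inv_mem' := fun {g} hg => ⟨inv_comm hg.1, fun x hx => by
    have := hg.2 _ (h.col_conj hx (inv_comm hg.1))
    simpa [mul_assoc] using this.symm⟩

theorem ker_conj (hk : k ∈ h.Ker c) (hg : g * c = c * g) : g * k * g⁻¹ ∈ h.Ker c :=
  ⟨Commute.mul_left (Commute.mul_left hg hk.1) (inv_comm hg), fun x hx => by
    have := (show Commute _ _ from hk.2 _ (h.col_conj hx (inv_comm hg))).conj g
    simpa [mul_assoc] using this.eq⟩

theorem ec_ker (hc : c ∈ D) (he : e ∈ Ec D c) : e ∈ h.Ker c :=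
  ⟨h.ec_comm he (ec_self hc), fun x hx => by
    rw [h.ec_cm he hc hx.hc hx.comm.symm, mul_inv_cancel_right]⟩

theorem not_ker (hb : b ∈ D) (hy : Col D y c) (ho : Od b y) : b ∉ h.Ker c := fun hk => by
  have := hk.2 y hy
  rw [h.ri.inv hb] at this
  exact h.ri.od_not_comm hy.hc (h.ri.conj y hy.hc b hb) (h.ri.od_conj_self hy.hc hb ho.symm) this.symm

theorem eq_of_ker (hx : x ∈ D) (hy : Col D y c) (ho : Od x y) (he : e ∈ Ec D x) (hf : f ∈ Ec D x)
    (hk : e * f ∈ h.Ker c) : e = f := by_contra fun hne =>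
  have h1 := h.mul_mem_ec asch h.core hx he hf hne
  h.not_ker h1.1 hy (h.ec_od h1 hy.hc ho) hk

theorem od_of_ln (hx : Col D x c) (hy : Col D y c) (ho : Od x y) (hb : b ∈ Ln D x c) (hn : b ∉ Ec D c) :
    Od b y := h.od_of hb.1 hy.hc fun e => h.ri.od_not_comm hx.hc hy.hc ho
  (h.col_tr hx ⟨hb.1, hx.hw, hb.2.2, hn⟩ hy hb.2.1.symm e)

theorem ln_conj (hx : Col D x c) (hg : g * c = c * g) (e : g * x * g⁻¹ * x = x * (g * x * g⁻¹))
    (hb : b ∈ Ln D x c) : g * b * g⁻¹ ∈ Ln D x c := by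
  have h1 := h.col_conj hx hg
  rw [← h.ln_eq hx ⟨h1.hc, e, h1.comm⟩ hx.right h1.ne]
  exact ⟨h.conj hb.1 g, by rw [conj_mul, conj_mul, hb.2.1],
    Commute.mul_left (Commute.mul_left hg hb.2.2) (inv_comm hg)⟩

theorem al_conj (hx : Col D x c) (hg : g * c = c * g) (e : g * x * g⁻¹ * x = x * (g * x * g⁻¹))
    (ha : a ∈ Al D x c) : g * a * g⁻¹ ∈ Al D x c := conj_mem_closure (fun _ => h.ln_conj hx hg e) ha

theorem al_ker (hx : Col D x c) (hk : k ∈ h.Ker c) (ha : a ∈ Al D x c) : k * a * k⁻¹ ∈ Al D x c :=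
  h.al_conj hx hk.1 (hk.2 x hx) ha

theorem al_cl (hx : Col D x c) (ha : a ∈ Al D x c) (hb : b ∈ Al D x c) : a * b = b * a :=
  comm_of_closure (fun _ hs => (comm_of_closure (fun _ hs' => h.ln_cl hx hs hs') ha).symm) hb

theorem al_ln (hx : Col D x c) (ha : a ∈ Al D x c) (hb : b ∈ Ln D x c) : a * b = b * a :=
  h.al_cl hx ha (Subgroup.subset_closure hb)

theorem al_sq (hx : Col D x c) (ha : a ∈ Al D x c) : a * a = 1 := by
  induction ha using Subgroup.closure_induction with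
  | mem y hy => exact h.ri.sq y hy.1
  | one => simp
  | mul p q hp hq ip iq => rw [mul_assoc, ← mul_assoc q, ← h.al_cl hx hp hq, mul_assoc, iq, mul_one, ip]
  | inv p _ ip => rw [← mul_inv_rev, ip, inv_one]

theorem al_inv (hx : Col D x c) (ha : a ∈ Al D x c) : a⁻¹ = a := inv_eq_of_mul_eq_one_right (h.al_sq hx ha)

theorem cent_ln (hx : Col D x c) (hy : Col D y c) (ho : Od x y) (h1 : ∀ s ∈ Ln D y c, n * s = s * n)
    (hb : b ∈ Ln D x c) (hn : b ∉ Ec D c) (h2 : n * b = b * n) : ∀ s ∈ Ln D x c, n * s = s * n := by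
  intro s hs
  obtain ⟨u, hu, hK, -, e⟩ := h.ri.exists_mid_mem (K := Subgroup.centralizer {n, c}) hy.hc hb.1
    (h.od_of_ln hx hy ho hb hn).symm (by
      rintro _ (rfl | rfl)
      exacts [h1 y hy.left, hy.comm.symm]) (by
      rintro _ (rfl | rfl)
      exacts [h2, hb.2.2.symm])
  have c1 : Commute n u := hK n (Or.inl rfl)
  have c2 : Commute c u := hK c (Or.inr rfl)
  have h3 : u * s * u ∈ Ln D y c := ⟨h.ri.conj s hs.1 u hu, by
    have := congrArg (fun v => u * v * u) (h.ln_cl hx hs hb)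
    simpa only [← e, mul_assoc, h.ri.mm hu, h.ri.sq u hu, mul_one] using this,
    ((c2.mul_right hs.2.2.symm).mul_right c2).symm⟩
  have c3 : Commute n (u * (u * s * u) * u) := (c1.mul_right (h1 _ h3)).mul_right c1
  rwa [← mul_assoc, ← mul_assoc, h.ri.sq u hu, one_mul, h.ri.mm' hu] at c3

theorem hub (hx : Col D x c) : ∃ (Ω : Type u) (_ : MulAction (Subgroup.closure (Kh D c)) Ω),
    BS ((Subgroup.closure (Kh D c)).subtype ⁻¹' Kh D c) Ω := by
  have hR : RI (Kh D c) := ⟨fun d hd => h.ri.sq d hd.hc, fun d hd => h.ri.ne d hd.hc, fun d hd e he => by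
    have := h.col_conj hd he.comm
    rwa [h.ri.inv he.hc] at this, fun a ha b hb => or_iff_not_imp_left.2 fun e =>
      Or.inl (h.od_of ha.hc hb.hc e)⟩
  obtain ⟨y, hy, e, ho⟩ := h.exists_od_comm hx.hw hx.hc hx.ne
  have hy' := h.col_of hy hx.hw e hx.hc ho.symm hx.comm.symm
  obtain ⟨x', hl⟩ := h.exists_ln hx.hc
  have key : ∀ e ∈ Ec D x, Col D e c := fun e he =>
    ⟨he.1, hx.hw, h.ec_cm he hx.hc hx.hw hx.comm, fun hn => hx.ne ⟨hx.hc, he.2.symm.trans hn.2⟩⟩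
  have h1 := key x' ⟨hl.2.1, (h.ao_ln hl).symm⟩
  obtain ⟨Ω, i, hB, -⟩ := (hR.comap_subtype (Subgroup.closure (Kh D c))).exists_bs
    Subgroup.closure_closure_coe_preimage
    (fun a b => Col D a c ∧ Col D b c ∧ (a : G) * b = b * a) (fun a ha => ⟨ha, ha, rfl⟩)
    (fun a b e => ⟨e.2.1, e.1, e.2.2.symm⟩)
    (fun a b d e e' => ⟨e.1, e'.2.1, h.col_tr e.1 e.2.1 e'.2.1 e.2.2 e'.2.2⟩)
    (fun a b g e => ⟨h.col_conj e.1 (kh_comm g.2), h.col_conj e.2.1 (kh_comm g.2),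
      ((show Commute (a : G) b from e.2.2).conj (g : G)).eq⟩)
    (fun a ha b hb hn => od_coe.2 (h.od_of ha.hc hb.hc fun e => hn ⟨ha, hb, e⟩))
    ⟨⟨x, Subgroup.subset_closure hx⟩, hx, ⟨y, Subgroup.subset_closure hy'⟩, hy',
      fun e => h.ri.od_not_comm hx.hc hy ho e.2.2⟩
    ⟨⟨x, Subgroup.subset_closure hx⟩, ⟨x', Subgroup.subset_closure h1⟩, hx, h1,
      fun e => hl.2.2.1 (congrArg Subtype.val e), Subtype.ext hl.2.2.2.1,
      key _ ⟨hl.2.2.2.2, (h.ao_ln (h.ri.ln_mul hl)).symm⟩⟩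
  exact ⟨Ω, i, hB⟩

section Hub

variable {Ω : Type u} [MulAction (Subgroup.closure (Kh D c)) Ω]
  (hB : BS ((Subgroup.closure (Kh D c)).subtype ⁻¹' Kh D c) Ω) {Δ Γ : Ω}
include hB

theorem ker_iff {g : Subgroup.closure (Kh D c)} : (g : G) ∈ h.Ker c ↔ ∀ ω : Ω, g • ω = ω := by
  refine ⟨fun hg ω => ?_, fun hg => ⟨kh_comm g.2, fun x hx => ?_⟩⟩
  · obtain ⟨a, ha⟩ := hB.blk_ne ω
    exact hB.smul_eq_of_conj ha (hB.same_comm ha (hB.conj ha.1 g) (Subtype.ext (hg.2 a ha.1).symm))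
  · obtain ⟨ω, hω⟩ := hB.exists_blk (a := ⟨x, Subgroup.subset_closure hx⟩) hx
    exact congrArg Subtype.val (hB.comm_blk asch (hB.blk_conj' hω (hg ω)) hω)

theorem exists_rep {x : Subgroup.closure (Kh D c)}
    (hx : x ∈ Blk ((Subgroup.closure (Kh D c)).subtype ⁻¹' Kh D c) Δ) (hn : n ∈ Al D x c) :
    ∃ n' ∈ Subgroup.closure (Blk ((Subgroup.closure (Kh D c)).subtype ⁻¹' Kh D c) Δ),
      ∀ z, Col D z c → n * z * n⁻¹ = n' * z * (n' : G)⁻¹ := by
  induction hn using Subgroup.closure_induction with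
  | mem s hs =>
    by_cases e : s ∈ Ec D c
    · exact ⟨1, Subgroup.one_mem _, fun z hz => by simp [h.ec_cm e hz.hw hz.hc hz.comm.symm]⟩
    · have h1 : Col D s c := ⟨hs.1, hx.1.hw, hs.2.2, e⟩
      exact ⟨⟨s, Subgroup.subset_closure h1⟩, Subgroup.subset_closure
        (hB.same_comm hx h1 (Subtype.ext hs.2.1.symm)), fun _ _ => rfl⟩
  | one => exact ⟨1, Subgroup.one_mem _, by simp⟩
  | mul a b _ _ ia ib =>
    obtain ⟨a', ha, ia⟩ := ia
    obtain ⟨b', hb, ib⟩ := ib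
    refine ⟨a' * b', Subgroup.mul_mem _ ha hb, fun z hz => ?_⟩
    have := ia _ (h.col_conj hz (kh_comm b'.2))
    conv_lhs at this => rw [← ib z hz]
    simpa only [Subgroup.coe_mul, mul_inv_rev, mul_assoc] using this
  | inv a _ ia =>
    obtain ⟨a', ha, ia⟩ := ia
    refine ⟨a'⁻¹, Subgroup.inv_mem _ ha, fun z hz => ?_⟩
    have := ia _ (h.col_conj hz (kh_comm (a'⁻¹).2))
    calc _ = a⁻¹ * (a * ((a'⁻¹ : Subgroup.closure (Kh D c)) * z * ((a'⁻¹ : Subgroup.closure (Kh D c)) : G)⁻¹) *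
        a⁻¹) * a := by rw [this]; simp [mul_assoc]
      _ = _ := by simp [mul_assoc]

end Hub

theorem ker_of_fix (hx : Col D x c) (hy : Col D y c) (ho : Od x y) (hn : n ∈ Al D x c)
    (e : n * y * n⁻¹ * y = y * (n * y * n⁻¹)) : n ∈ h.Ker c := by
  obtain ⟨Ω, _, hB⟩ := h.hub hx
  obtain ⟨Δ, hΔ⟩ := hB.exists_blk (a := ⟨x, Subgroup.subset_closure hx⟩) hx
  obtain ⟨Γ, hΓ⟩ := hB.exists_blk (a := ⟨y, Subgroup.subset_closure hy⟩) hy
  obtain ⟨n', h1, h2⟩ := h.exists_rep hB hΔ hn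
  have h3 := (h.ker_iff hB).2 (hB.cl_triv asch h1 (hB.smul_eq_of_conj hΓ (hB.same_comm hΓ (hB.conj hΓ.1 n')
    (Subtype.ext (by rw [h2 y hy] at e; exact e.symm)))) fun e => hB.not_od_blk asch hΔ (e ▸ hΓ) (od_coe.2 ho))
  exact ⟨al_comm hn, fun z hz => h2 z hz ▸ h3.2 z hz⟩

theorem two_ker (hx : Col D x c) (hg : g ∈ Subgroup.closure (Kh D c)) (h2 : T2 g)
    (e : g * x = x * g) (ha : a ∈ Al D x c) : a * (g * a * g⁻¹) ∈ h.Ker c := by
  obtain ⟨Ω, _, hB⟩ := h.hub hx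
  obtain ⟨Δ, hΔ⟩ := hB.exists_blk (a := ⟨x, Subgroup.subset_closure hx⟩) hx
  have hΔ' : (⟨g, hg⟩ : Subgroup.closure (Kh D c)) • Δ = Δ := hB.smul_eq_of_conj hΔ (by
    rwa [show (⟨g, hg⟩ : Subgroup.closure (Kh D c)) * ⟨x, _⟩ = ⟨x, _⟩ * ⟨g, hg⟩ from Subtype.ext e,
      mul_inv_cancel_right])
  induction ha using Subgroup.closure_induction with
  | mem b hb =>
    by_cases e1 : b ∈ Ec D c
    · exact (h.Ker c).mul_mem (h.ec_ker hx.hw e1) (h.ker_conj (h.ec_ker hx.hw e1) (kh_comm hg))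
    have h1 : Col D b c := ⟨hb.1, hx.hw, hb.2.2, e1⟩
    have h3 := hB.same_comm hΔ (b := ⟨b, Subgroup.subset_closure h1⟩) h1 (Subtype.ext hb.2.1.symm)
    exact (h.ker_iff hB (g := ⟨b, _⟩ * (⟨g, hg⟩ * ⟨b, _⟩ * ⟨g, hg⟩⁻¹))).2 fun ω => by
      rw [mul_smul, hB.two_smul asch (h2.sub hg) hΔ' h3, hB.smul_smul2 (hB.ri.sq _ h3.1)]
  | one => simpa using (h.Ker c).one_mem
  | mul a b ha hb ia ib =>
    have := (h.Ker c).mul_mem ia ib
    rwa [mul_assoc, ← mul_assoc _ b, h.al_cl hx (h.al_conj hx (kh_comm hg) (by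
      rw [e, mul_inv_cancel_right]) ha) hb, mul_assoc b, conj_mul, ← mul_assoc] at this
  | inv a ha ia => rwa [h.al_inv hx ha]

theorem exists_n (hx : Col D x c) (hy : Col D y c) (ho : Od x y) (ha : a ∈ Ln D x c) (ha' : a ∉ Ec D c)
    (hb : b ∈ Ln D x c) (hb' : b ∉ Ec D c) (hk : a * b ∈ h.Ker c) :
    ∃ n ∈ Al D y c, n ∈ h.Ker c ∧ n * a * n⁻¹ = b := by
  obtain ⟨Ω, _, hB⟩ := h.hub hx
  obtain ⟨Δ, hΔ⟩ := hB.exists_blk (a := ⟨x, Subgroup.subset_closure hx⟩) hx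
  obtain ⟨Γ, hΓ⟩ := hB.exists_blk (a := ⟨y, Subgroup.subset_closure hy⟩) hy
  have h1 : Col D a c := ⟨ha.1, hx.hw, ha.2.2, ha'⟩
  have h2 : Col D b c := ⟨hb.1, hx.hw, hb.2.2, hb'⟩
  have h3 := hB.same_comm hΔ (b := ⟨a, Subgroup.subset_closure h1⟩) h1 (Subtype.ext ha.2.1.symm)
  have h4 := hB.same_comm hΔ (b := ⟨b, Subgroup.subset_closure h2⟩) h2 (Subtype.ext hb.2.1.symm)
  obtain ⟨y', h5, h6⟩ := hB.exists_mid_blk asch h3 h4 (fun ω => by
    conv_lhs => rw [← hB.smul_smul2 (hB.ri.sq _ h4.1) ω, ← mul_smul, ← mul_smul, mul_smul]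
    exact (h.ker_iff hB (g := ⟨a, _⟩ * ⟨b, _⟩)).1 hk _) hΓ
    fun e => hB.not_od_blk asch hΔ (e ▸ hΓ) (od_coe.2 ho)
  have h7 : (y' : G) * y ∈ Al D y c := Subgroup.mul_mem _ (Subgroup.subset_closure ⟨h5.1.hc,
    congrArg Subtype.val (hB.comm_blk asch h5 hΓ), h5.1.comm⟩) (Subgroup.subset_closure hy.left)
  have h8 : (y' : G) * y * a * ((y' : G) * y)⁻¹ = b := by
    rw [mul_inv_rev, h.ri.inv hy.hc, h.ri.inv (a := (y' : G)) h5.1.hc]
    simpa only [mul_assoc, Subgroup.coe_mul] using congrArg Subtype.val h6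
  exact ⟨_, h7, h.ker_of_fix hy h1 (h.od_of_ln hx hy ho ha ha').symm h7 (by
    rw [h8, h.ln_cl hx ha hb]), h8⟩

theorem exists_bm (hx : Col D x c) (hy : Col D y c) (ho : Od x y) (hm : m ∈ Al D x c) (hk : m ∈ h.Ker c) :
    ∃ n ∈ Al D y c, n ∈ h.Ker c ∧ n * x * n⁻¹ * x * m * y = y * (n * x * n⁻¹ * x * m) := by
  have h0 : x * m ∈ Al D x c := Subgroup.mul_mem _ (Subgroup.subset_closure hx.left) hm
  have hn : x * m ∉ h.Ker c := fun e => h.not_ker hx.hc hy ho (by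
    simpa using (h.Ker c).mul_mem e ((h.Ker c).inv_mem hk))
  obtain ⟨b, hb, hb', e⟩ : ∃ b ∈ Ln D x c, b ∉ Ec D c ∧ b * (x * m) * y = y * (b * (x * m)) := by
    obtain ⟨Ω, _, hB⟩ := h.hub hx
    obtain ⟨Δ, hΔ⟩ := hB.exists_blk (a := ⟨x, Subgroup.subset_closure hx⟩) hx
    obtain ⟨Γ, hΓ⟩ := hB.exists_blk (a := ⟨y, Subgroup.subset_closure hy⟩) hy
    obtain ⟨n', h1, h2⟩ := h.exists_rep hB hΔ h0
    obtain ⟨b, hb, e⟩ := hB.exists_cent asch h1 (Γ := Γ) fun e => hn (h.ker_of_fix hx hy ho h0 (by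
      rw [h2 y hy]
      exact congrArg Subtype.val (hB.comm_blk asch (hB.blk_conj' hΓ e) hΓ)))
    refine ⟨b, ⟨hb.1.hc, congrArg Subtype.val (hB.comm_blk asch hb hΔ), hb.1.comm⟩, hb.1.ne, ?_⟩
    have h3 : (b : G) * n' * y = y * (b * n') := congrArg Subtype.val (e _ hΓ)
    rw [← mul_inv_eq_iff_eq_mul] at h3 ⊢
    rw [mul_inv_rev, mul_assoc (b : G), mul_assoc (b : G), ← mul_assoc _ _ (b : G)⁻¹] at h3 ⊢
    rwa [h2 y hy]
  have h4 := Subgroup.mul_mem _ (Subgroup.subset_closure hb) h0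
  obtain ⟨n, h5, h6, rfl⟩ := h.exists_n hx hy ho hx.left hx.ne hb hb' (by
    have := (h.Ker c).mul_mem (h.ker_of_fix hx hy ho h4 (by rw [e, mul_inv_cancel_right]))
      ((h.Ker c).inv_mem hk)
    rwa [← mul_assoc, mul_inv_cancel_right, hb.2.1] at this)
  exact ⟨n, h5, h6, by simpa only [mul_assoc] using e⟩

theorem exists_ec (hx : Col D x c) (hp : p ∈ D) (ho : Od c p) (e : x * p = p * x) (hb : b ∈ Ln D x c)
    (hb' : b ∉ Ec D c) : ∃ f ∈ Ec D x, f * b ∈ h.Ker c := by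
  obtain ⟨Ω, _, hB⟩ := h.hub hx
  obtain ⟨Δ, hΔ⟩ := hB.exists_blk (a := ⟨x, Subgroup.subset_closure hx⟩) hx
  have h1 : Col D b c := ⟨hb.1, hx.hw, hb.2.2, hb'⟩
  have h2 := hB.same_comm hΔ (b := ⟨b, Subgroup.subset_closure h1⟩) h1 (Subtype.ext hb.2.1.symm)
  let S : Set (Subgroup.closure (Kh D c)) := {s | Col D s c ∧ (s : G) * p = p * s}
  have hS : ∀ ω : Ω, ∃ s ∈ S, s • ω = ω := fun ω => by
    obtain ⟨a, ha⟩ := hB.blk_ne ω
    obtain ⟨u, hu, e1⟩ := h.gq ha.1 hp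
    have h3 : u ∈ Kh D c := (h.col_of hx.hw hu.1 hu.2.2.symm hp ho e1).symm
    have hu' : (a : G) * u = u * a := hu.2.1.symm
    let u' : Subgroup.closure (Kh D c) := ⟨u, Subgroup.subset_closure h3⟩
    have h4 := hB.same_comm ha (b := u') h3 (Subtype.ext hu')
    exact ⟨u', ⟨h3, e1⟩, h4.2⟩
  obtain ⟨x', hl⟩ := h.exists_ln hx.hc
  have key : ∀ e ∈ Ec D x, Col D e c := fun e he =>
    ⟨he.1, hx.hw, h.ec_cm he hx.hc hx.hw hx.comm, fun hn => hx.ne ⟨hx.hc, he.2.symm.trans hn.2⟩⟩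
  have hx' : x' ∈ Ec D x := ⟨hl.2.1, (h.ao_ln hl).symm⟩
  obtain ⟨f, hf, hfX, e1⟩ := hB.exists_sub asch (X := Subgroup.closure S) ⟨hB.ri.comap_subtype _,
    eq_top_iff.2 ((Subgroup.closure_closure_coe_preimage (k := S)).ge.trans
      (Subgroup.closure_mono fun s hs => hs.1)), fun d hd => hB.fix d hd, fun d hd => hB.uniq d hd,
    fun ω => (hS ω).elim fun s hs => ⟨⟨s, Subgroup.subset_closure hs.1⟩, hs.1.1, hs.2⟩,
    fun a ha b hb ω e e' => od_coe.2 (hB.od a ha b hb ω e e'), hB.nt,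
    ⟨⟨x, Subgroup.subset_closure hx⟩, Subgroup.subset_closure ⟨hx, e⟩⟩,
    ⟨⟨x', Subgroup.subset_closure (key _ hx')⟩, Subgroup.subset_closure ⟨key _ hx', h.ec_cm hx' hx.hc hp e⟩⟩,
    hx, key _ hx', fun e => hl.2.2.1 (congrArg (fun v => ((v : Subgroup.closure (Kh D c)) : G))
      (congrArg Subtype.val e)), Subtype.ext (Subtype.ext hl.2.2.2.1),
    key _ ⟨hl.2.2.2.2, (h.ao_ln (h.ri.ln_mul hl)).symm⟩⟩ h2
  have h4 : (f : G) * p = p * f := by
    have : Subgroup.closure S ≤ (Subgroup.centralizer {p}).comap (Subgroup.subtype _) :=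
      (Subgroup.closure_le _).2 fun s hs => Subgroup.mem_centralizer_singleton_iff.2 hs.2
    exact Subgroup.mem_centralizer_singleton_iff.1 (this hfX)
  exact ⟨f, h.mem_ec_of_ln hx.symm hp ho e ⟨hf.1.hc, hf.1.comm, congrArg Subtype.val
    (hB.comm_blk asch hf hΔ)⟩ h4, (h.ker_iff hB (g := f * ⟨b, _⟩)).2 fun ω => by
      rw [mul_smul, e1, hB.smul_smul2 (hB.ri.sq _ h2.1)]⟩

theorem decomp (hx : Col D x c) (hy : Col D y c) (hg : g ∈ Subgroup.closure (Ln D x c ∪ Ln D y c))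
    (hn : n ∈ Al D y c) (hn' : n ∈ h.Ker c) : ∃ l ∈ Al D x c, l ∈ h.Ker c ∧ ∃ n' ∈ Al D y c, n' ∈ h.Ker c ∧
      g * n * g⁻¹ = l * n' := by
  have key : ∀ s ∈ Ln D x c ∪ Ln D y c, ∀ g : G, (∃ l ∈ Al D x c, l ∈ h.Ker c ∧ ∃ n' ∈ Al D y c,
      n' ∈ h.Ker c ∧ g * n * g⁻¹ = l * n') → ∃ l ∈ Al D x c, l ∈ h.Ker c ∧ ∃ n' ∈ Al D y c, n' ∈ h.Ker c ∧
      s * g * n * (s * g)⁻¹ = l * n' := by
    rintro s hs g ⟨l, h1, h2, n', h3, h4, e⟩
    have e' : s * g * n * (s * g)⁻¹ = s * (l * n') * s⁻¹ := by rw [← e]; group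
    rcases hs with hs | hs
    · have hs' := Subgroup.subset_closure hs
      refine ⟨l * (s * n' * s⁻¹ * n'⁻¹), Subgroup.mul_mem _ h1 ?_, (h.Ker c).mul_mem h2 ((h.Ker c).mul_mem
        (h.ker_conj h4 hs.2.2) ((h.Ker c).inv_mem h4)), n', h3, h4, ?_⟩
      · simpa only [mul_assoc] using Subgroup.mul_mem _ hs' (h.al_ker hx h4 (Subgroup.inv_mem _ hs'))
      · rw [e', ← mul_assoc s, h.al_cl hx hs' h1]; group
    · have hs' := Subgroup.subset_closure hs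
      refine ⟨l, h1, h2, l⁻¹ * s * l * s⁻¹ * n', Subgroup.mul_mem _ (Subgroup.mul_mem _ ?_
        (Subgroup.inv_mem _ hs')) h3, (h.Ker c).mul_mem ?_ h4, ?_⟩
      · simpa using h.al_ker hy ((h.Ker c).inv_mem h2) hs'
      · simpa only [mul_assoc] using (h.Ker c).mul_mem ((h.Ker c).inv_mem h2) (h.ker_conj h2 hs.2.2)
      · rw [e', mul_assoc, mul_assoc, h.al_cl hy h3 (Subgroup.inv_mem _ hs')]; group
  induction hg using Subgroup.closure_induction_left with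
  | one => exact ⟨1, Subgroup.one_mem _, Subgroup.one_mem _, n, hn, hn', by simp⟩
  | mul_left s hs g _ ih => exact key s hs g ih
  | inv_mul_cancel s hs g _ ih =>
    rw [h.ri.inv (hs.elim (·.1) (·.1))]
    exact key s hs g ih

end CX

end CfsgLib.RootInv
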