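import Cfsg.Agent.Lib.RootInv.OT8

/-! Odd transpositions of Suzuki type with connected commuting graph do not exist. -/

set_option autoImplicit false

namespace CfsgLib.RootInv

open Cfsg MulAction

universe u

variable {G : Type u} [Group G] {D : Set G} {a b c d e f g g' k l m n p r s t u v w w' x y z : G}

/-- An ordinary quadrangle. -/
structure Quad (D : Set G) (c p w w' : G) : Prop where
  hc : c ∈ D
  hp : p ∈ D
  hw : w ∈ D
  hw' : w' ∈ D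
  o1 : Od c p
  o2 : Od w w'
  e1 : c * w = w * c
  e2 : c * w' = w' * c
  e3 : p * w = w * p
  e4 : p * w' = w' * p

theorem Quad.s1 (q : Quad D c p w w') : Quad D p c w w' :=
  ⟨q.hp, q.hc, q.hw, q.hw', q.o1.symm, q.o2, q.e3, q.e4, q.e1, q.e2⟩

theorem Quad.s2 (q : Quad D c p w w') : Quad D c p w' w :=
  ⟨q.hc, q.hp, q.hw', q.hw, q.o1, q.o2.symm, q.e2, q.e1, q.e4, q.e3⟩

theorem Quad.s3 (q : Quad D c p w w') : Quad D w w' c p :=
  ⟨q.hw, q.hw', q.hc, q.hp, q.o2, q.o1, q.e1.symm, q.e3.symm, q.e2.symm, q.e4.symm⟩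

theorem NF.qcol (h : NF D) (q : Quad D c p w w') : Col D c w := h.col_of q.hc q.hw q.e1 q.hp q.o1 q.e3.symm

theorem NF.xg_comm (h : NF D) (hc : c ∈ D) (hg : g ∈ Xg D c p) (hz : z ∈ D) (e1 : c * z = z * c)
    (e2 : p * z = z * p) : g * z = z * g :=
  (comm_of_closure (fun _ hs => hs.elim (fun hs => (h.ec_cm hs hc hz e1).symm) fun hs => hs ▸ e2.symm) hg).symm

theorem NF.xg_le (h : NF D) (hc : c ∈ D) (hp : p ∈ D) (ho : Od c p) : Xg D p c ≤ Xg D c p :=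
  (Subgroup.closure_le _).2 (Set.union_subset (h.ec_sub hc hp ho ec_le_xg mem_xg)
    (Set.singleton_subset_iff.2 (ec_le_xg (ec_self hc))))

theorem NF.xg_ln (h : NF D) (q : Quad D c p w w') : Xg D c p ≤ Subgroup.closure (Ln D c w ∪ Ln D p w) :=
  Subgroup.closure_mono (Set.union_subset_union (fun _ he => h.ec_ln (h.qcol q) he)
    (Set.singleton_subset_iff.2 (h.qcol q.s1).left))

theorem NF.xg_kh (h : NF D) (q : Quad D c p w w') : Xg D c p ≤ Subgroup.closure (Kh D w) :=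
  Subgroup.closure_mono (Set.union_subset (fun _ he => h.col_of he.1 q.hw (h.ec_cm he q.hc q.hw q.e1) q.hp
    (h.ec_od he q.hp q.o1) q.e3.symm) (Set.singleton_subset_iff.2 (h.qcol q.s1)))

theorem NF.xg_xg (h : NF D) (q : Quad D c p w w') (hg : g ∈ Xg D c p) (hg' : g' ∈ Xg D w w') :
    g * g' = g' * g := comm_of_closure (fun _ hs => hs.elim (fun hs => h.xg_comm q.hc hg hs.1
      (h.ec_cm hs q.hw q.hc q.e1.symm).symm (h.ec_cm hs q.hw q.hp q.e3.symm).symm)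
    fun hs => hs ▸ h.xg_comm q.hc hg q.hw' q.e2 q.e4) hg'

theorem al_swap (ha : a ∈ Al D c w) : a ∈ Al D w c := by rwa [Al, ln_comm]

theorem Eq5.two_z (h : Eq5 s t r) (hs : s * s = 1) : T2 (r * r * s) := by
  obtain ⟨k, hk⟩ := h.two
  have c1 : Commute r s := h.comm
  refine ⟨k + 1, ?_⟩
  rw [(c1.mul_left c1).mul_pow, (Commute.refl r).mul_pow, pow_succ, pow_mul, hk, mul_comm, pow_mul s, pow_two s,
    hs]
  simp

theorem rho_aux {S : Set G} (hr : r ∈ Subgroup.closure S) (hn : n ∈ Subgroup.closure S)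
    (hl : l ∈ Subgroup.closure S) (hz : z ∈ Subgroup.closure S) (hf : f ∈ Subgroup.closure S)
    (h1 : r * n * r⁻¹ * (l * n)⁻¹ ∈ Subgroup.centralizer S) (h2 : l * (r * l * r⁻¹) ∈ Subgroup.centralizer S)
    (h3 : n * (z * n * z⁻¹) ∈ Subgroup.centralizer S) (h4 : n * n = 1) (h5 : l * l = 1) (h6 : r * r = z * f) :
    n * f * n⁻¹ * f⁻¹ ∈ Subgroup.centralizer S := by
  let π := QuotientGroup.mk' (Subgroup.center (Subgroup.closure S))
  have key : ∀ y : Subgroup.closure S, π y = 1 ↔ (y : G) ∈ Subgroup.centralizer S := fun y => by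
    rw [QuotientGroup.mk'_apply, QuotientGroup.eq_one_iff, Subgroup.mem_center_iff]
    exact ⟨fun e s hs => congrArg Subtype.val (e ⟨s, Subgroup.subset_closure hs⟩),
      fun e s => Subtype.ext (comm_of_closure (fun s hs => (e s hs).symm) s.2).symm⟩
  have k1 := (key (⟨r, hr⟩ * ⟨n, hn⟩ * ⟨r, hr⟩⁻¹ * (⟨l, hl⟩ * ⟨n, hn⟩)⁻¹)).2 h1
  have k2 := (key (⟨l, hl⟩ * (⟨r, hr⟩ * ⟨l, hl⟩ * ⟨r, hr⟩⁻¹))).2 h2
  have k3 := (key (⟨n, hn⟩ * (⟨z, hz⟩ * ⟨n, hn⟩ * ⟨z, hz⟩⁻¹))).2 h3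
  have k4 := congrArg π (show (⟨n, hn⟩ * ⟨n, hn⟩ : Subgroup.closure S) = 1 from Subtype.ext h4)
  have k5 := congrArg π (show (⟨l, hl⟩ * ⟨l, hl⟩ : Subgroup.closure S) = 1 from Subtype.ext h5)
  have k6 := congrArg π (show (⟨r, hr⟩ * ⟨r, hr⟩ : Subgroup.closure S) = ⟨z, hz⟩ * ⟨f, hf⟩ from Subtype.ext h6)
  refine (key (⟨n, hn⟩ * ⟨f, hf⟩ * ⟨n, hn⟩⁻¹ * ⟨f, hf⟩⁻¹)).1 ?_
  simp only [map_mul, map_inv, map_one] at k1 k2 k3 k4 k5 k6 ⊢
  generalize π ⟨r, hr⟩ = R, π ⟨n, hn⟩ = N, π ⟨l, hl⟩ = L, π ⟨z, hz⟩ = Z, π ⟨f, hf⟩ = F at *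
  rw [mul_inv_eq_one] at k1
  rw [← k5, mul_right_inj] at k2
  rw [← k4, mul_right_inj, mul_inv_eq_iff_eq_mul] at k3
  have k7 : R * R * N = N * (R * R) := by
    rw [← mul_inv_eq_iff_eq_mul]
    calc _ = R * (R * N * R⁻¹) * R⁻¹ := by group
      _ = (R * L * R⁻¹) * (R * N * R⁻¹) := by nth_rewrite 1 [k1]; group
      _ = N := by rw [k1, k2, ← mul_assoc, k5, one_mul]
  rw [k6, ← mul_assoc, ← k3, mul_assoc, mul_assoc, mul_right_inj] at k7
  rw [← k7]; group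

namespace CX

variable [Finite G] (h : CX D)
include h

theorem xg_ker (hc : c ∈ D) (hp : p ∈ D) (ho : Od c p) (hg : g ∈ Xg D c p) (e : g * c = c * g) :
    g ∈ h.Ker c := ⟨e, fun x hx => by
  obtain ⟨u, hu, e1⟩ := h.gq hx hp
  have hl := (h.col_of hc hu.1 hu.2.2.symm hp ho e1).symm
  have e2 := h.xg_comm hc hg hu.1 hu.2.2.symm e1.symm
  have e3 := h.ln_eq hx hu hx.right hl.ne
  exact h.ln_cl hl (h.ln_conj hl e (by rw [e2, mul_inv_cancel_right]) (e3.ge hx.left)) (e3.ge hx.left)⟩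

theorem cent_ec (hx : Col D x c) (hy : Col D y c) (ho : Od x y) (hg : g ∈ Subgroup.closure (Kh D c))
    (h2 : T2 g) (e1 : g * x = x * g) (he : e ∈ Ec D x) : g * e = e * g := by
  have h1 := h.ec_conj he g
  rw [e1, mul_inv_cancel_right] at h1
  exact mul_inv_eq_iff_eq_mul.1 (h.eq_of_ker hx.hc hy ho he h1
    (h.two_ker hx hg h2 e1 (Subgroup.subset_closure (h.ec_ln hx he)))).symm

theorem al_conj' (hx : Col D x c) (e1 : g * c = c * g) (e2 : g * x = x * g) (ha : a ∈ Al D x c) :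
    g * a * g⁻¹ ∈ Al D x c := h.al_conj hx e1 (by rw [e2, mul_inv_cancel_right]) ha

theorem cent_al (hx : Col D x c) (hy : Col D y c) (ho : Od x y) (hn : n ∈ Al D y c) (e : n * x = x * n)
    (ha : a ∈ Al D x c) : n * a = a * n :=
  comm_of_closure (h.cent_ln hx hy ho (fun _ => h.al_ln hy hn) hx.left hx.ne e) ha

theorem del_al (q : Quad D c p w w') (hg : g ∈ Xg D c p) (e : g * c = c * g) (ha : a ∈ Al D c w) :
    a * (g * a * g⁻¹) ∈ Al D c w :=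
  Subgroup.mul_mem _ ha (h.al_conj' (h.qcol q) (h.xg_comm q.hc hg q.hw q.e1 q.e3) e ha)

theorem del_ker (hl : Col D c w) (hg : g ∈ h.Ker c) (ha : a ∈ Al D c w) : a * (g * a * g⁻¹) ∈ h.Ker c := by
  simpa only [mul_assoc, h.al_inv hl ha] using
    (h.Ker c).mul_mem (h.ker_conj hg (al_comm (al_swap ha))) ((h.Ker c).inv_mem hg)

theorem cent_both (hx : Col D x c) (hy : Col D y c) (ho : Od x y) (hn : n ∈ Al D y c) (e : n * x = x * n) :
    n ∈ Subgroup.centralizer (Ln D x c ∪ Ln D y c) := fun _ hs => hs.elim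
  (fun hs => (h.cent_al hx hy ho hn e (Subgroup.subset_closure hs)).symm) fun hs => (h.al_ln hy hn hs).symm

theorem claimA (q : Quad D c p w w') (hg : g ∈ Xg D c p) (h2 : T2 g) (e : g * c = c * g)
    (hgg : ∀ s ∈ Ln D c w, g * g * s = s * (g * g)) (hg' : g' ∈ Xg D w w') (h2' : T2 g')
    (e' : g' * w = w * g') (ha : a ∈ Al D c w) :
    a * (g * a * g⁻¹) * (g' * (a * (g * a * g⁻¹)) * g'⁻¹) ∈ Subgroup.centralizer (Ln D w' c ∪ Ln D w c) := by
  have hl := h.qcol q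
  have hp := h.qcol q.s1
  have hw' := (h.qcol q.s2).symm
  have c1 : Commute g' c := h.xg_comm q.hw hg' q.hc q.e1.symm q.e2.symm
  have c2 : Commute g' p := h.xg_comm q.hw hg' q.hp q.e3.symm q.e4.symm
  have a1 := h.del_al q hg e ha
  have w1 := h.two_ker hl (h.xg_kh q hg) h2 e ha
  have k0 := h.xg_ker q.hc q.hp q.o1 hg e
  have k1 := h.del_ker hl k0 ha
  have g1 : Commute g (a * (g * a * g⁻¹)) := by
    have h1 := h.al_cl hl ha (h.al_conj' hl (h.xg_comm q.hc hg q.hw q.e1 q.e3) e ha)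
    have h3 := comm_of_closure hgg ha
    rw [Commute, SemiconjBy, ← mul_inv_eq_iff_eq_mul, ← conj_mul, h1]
    congr 1
    rw [← mul_assoc, ← mul_assoc, h3]; group
  have hm : ∀ n : G, n * (g * a * g⁻¹) * n⁻¹ = g * (n * a * n⁻¹) * g⁻¹ → n * a * n⁻¹ ∈ Al D c w →
      n * (a * (g * a * g⁻¹)) * n⁻¹ ∈ h.Ker c := fun n e1 h1 => by
    rw [← conj_mul, e1]; exact h.del_ker hl k0 h1
  generalize a * (g * a * g⁻¹) = m at a1 w1 k1 g1 hm ⊢
  have a2 := h.al_conj' hl e' c1 a1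
  have w2 := h.ker_conj w1 e'
  have k2 := h.ker_conj k1 c1
  have g2 : Commute g (g' * m * g'⁻¹) :=
    (Commute.mul_right (h.xg_xg q hg hg') g1).mul_right (Commute.inv_right (h.xg_xg q hg hg'))
  obtain ⟨n, hn, hk, e1⟩ := h.exists_bm hl hp q.o1 a2 w2
  have b2 := h.ln_conj hl hk.1 (hk.2 c hl) hl.left
  have ac : c ∈ Al D c w := Subgroup.subset_closure hl.left
  have z2 := Subgroup.mul_mem _ (Subgroup.mul_mem _ (Subgroup.subset_closure b2) ac) a2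
  have g3 : Commute g (n * c * n⁻¹) := by
    have h1 : Commute _ g := comm_of_closure (fun s hs => (h.cent_both hp hl q.o1.symm z2 e1 s hs).symm)
      (Set.union_comm _ _ ▸ h.xg_ln q hg)
    simpa only [mul_inv_cancel_right] using (h1.symm.mul_right g2.inv_right).mul_right (Commute.inv_right e)
  obtain ⟨l, l1, -, n', n1, n2, e2⟩ := h.decomp hl hp (Subgroup.inv_mem _ (h.xg_ln q hg)) hn hk
  have e3 : ∀ v ∈ Al D c w, g⁻¹ * (n * (g * v * g⁻¹) * n⁻¹) * g = n' * v * n'⁻¹ := fun v hv => by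
    calc _ = g⁻¹ * n * g⁻¹⁻¹ * v * (g⁻¹ * n * g⁻¹⁻¹)⁻¹ := by group
      _ = l * (n' * v * n'⁻¹) * l⁻¹ := by rw [e2]; group
      _ = _ := by rw [h.al_cl hl l1 (h.al_ker hl n2 hv), mul_inv_cancel_right]
  have e4 := h.cent_al hl hp q.o1 (Subgroup.mul_mem _ (Subgroup.inv_mem _ hn) n1) (by
    have := e3 c ac
    rw [e, mul_inv_cancel_right, mul_assoc, ← g3.eq, inv_mul_cancel_left] at this
    calc _ = n⁻¹ * (n' * c * n'⁻¹) * n' := by group
      _ = _ := by rw [← this]; group) ha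
  have k3 := hm n (by
    calc _ = g * (n * (n⁻¹ * n' * a) * n'⁻¹) * g⁻¹ := by
          rw [show n * (n⁻¹ * n' * a) = n' * a by group, ← e3 a ha]; group
      _ = _ := by rw [e4]; group) (h.al_ker hl hk ha)
  have b1 := h.ln_conj hl (inv_comm e') (by rw [inv_comm c1, mul_inv_cancel_right]) b2
  have k4 := h.two_ker hl.symm (h.xg_kh q.s3 hg') h2' e' (Subgroup.subset_closure (ln_swap b1))
  have z1 := Subgroup.mul_mem _ (Subgroup.mul_mem _ (Subgroup.subset_closure b1) ac) a1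
  have e5 : Commute (g'⁻¹ * (n * c * n⁻¹) * g'⁻¹⁻¹ * c * m) p := by
    have := (c2.inv_left.mul_left e1).mul_left c2
    rwa [show g'⁻¹ * (n * c * n⁻¹ * c * (g' * m * g'⁻¹)) * g' = g'⁻¹ * (n * c * n⁻¹) * (c * g') * m by group,
      ← c1.eq, ← mul_assoc, ← inv_inv g', inv_inv g'⁻¹] at this
  have b3 := h.ln_conj hl hk.1 (hk.2 c hl) b1
  rw [show g' * (g'⁻¹ * (n * c * n⁻¹) * g'⁻¹⁻¹) * g'⁻¹ = n * c * n⁻¹ by group] at k4
  generalize g'⁻¹ * (n * c * n⁻¹) * g'⁻¹⁻¹ = b at b1 b3 k4 z1 e5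
  have e6 : n * b * n⁻¹ * (n * c * n⁻¹) * (n * m * n⁻¹) = b * c * m := by
    rw [conj_mul, conj_mul, ← h.cent_al hp hl q.o1.symm z1 e5 hn, mul_inv_cancel_right]
  have k5 : n * b * n⁻¹ ∈ Ec D c := by_contra fun hn => h.not_ker b3.1 hw'
    (h.od_of_ln hl.symm hw' q.o2 (ln_swap b3) hn) (by
      have := (h.Ker c).mul_mem k4 (h.ker_conj ((h.Ker c).mul_mem ((h.Ker c).mul_mem
        (h.ec_ker q.hc (ec_self q.hc)) k1) ((h.Ker c).inv_mem k3)) b2.2.1)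
      rw [mul_assoc b, ← mul_assoc (n * c * n⁻¹), h.ri.mm b2.1, ← mul_assoc, ← mul_assoc b, ← mul_assoc b,
        ← e6] at this
      simpa only [mul_inv_cancel_right] using this)
  have e7 : Commute (n * b * n⁻¹ * c * (m * (g' * m * g'⁻¹))) p := by
    have h1 : Commute _ p := h.al_ln hp (Subgroup.mul_mem _ (h.al_ker hp w1 hn) (Subgroup.inv_mem _ hn)) hp.left
    have h3 := (e5.mul_left e1).mul_left h1
    rwa [← e6, show m * n * m⁻¹ * n⁻¹ = m * (n * m * n⁻¹)⁻¹ by group, mul_assoc, mul_assoc, mul_assoc,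
      ← mul_assoc _ m, ← mul_assoc (n * m * n⁻¹), ← mul_assoc (n * m * n⁻¹), mul_assoc (n * m * n⁻¹),
      h.al_cl hl (h.al_ker hl hk a1) (Subgroup.mul_mem _ z2 a1), mul_inv_cancel_right, mul_assoc _ _ m,
      mul_assoc (n * c * n⁻¹) c, h.ri.mm b2.1, ← h.al_cl hl a1 a2, ← mul_assoc] at h3
  have a3 := Subgroup.mul_mem _ a1 a2
  have e8 := h.eq_of_ker q.hc hp q.o1 k5 (ec_self q.hc) (by
    simpa only [mul_inv_cancel_right] using (h.Ker w).mul_mem (h.ker_of_fix hl hp q.o1 (Subgroup.mul_mem _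
      (Subgroup.mul_mem _ (Subgroup.subset_closure b3) ac) a3) (by rw [e7.eq, mul_inv_cancel_right]))
      ((h.Ker w).inv_mem ((h.Ker w).mul_mem w1 w2)))
  rw [e8, h.ri.sq c q.hc, one_mul] at e7
  have k6 := (h.Ker c).mul_mem k1 k2
  generalize m * (g' * m * g'⁻¹) = v at a3 e7 k6
  refine h.cent_both hw' hl.symm q.o2.symm (al_swap a3) (mul_inv_eq_iff_eq_mul.1
    (h.eq_of_ker q.hw' hl.symm q.o2.symm (h.mem_ec_of_ln hw'.symm q.hp q.o1 q.e4.symm
      (ln_swap (h.ln_conj hw' k6.1 (k6.2 _ hw') hw'.left))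
      ((e7.mul_left q.e4.symm).mul_left e7.inv_left)) (ec_self q.hw') ?_))
  simpa only [mul_assoc, h.ri.inv q.hw'] using (h.Ker c).mul_mem k6
    (h.ker_conj ((h.Ker c).inv_mem k6) q.e2.symm)

theorem comm_cent (hx : Col D x c) (hy : Col D y c) (ho : Od x y) (hl : l ∈ Al D x c) (hl' : l ∈ h.Ker c)
    (hn : n ∈ Al D y c) (hn' : n ∈ h.Ker c) : l * n * l⁻¹ * n⁻¹ ∈ Subgroup.centralizer (Ln D x c ∪ Ln D y c) :=
  h.cent_both hx hy ho (Subgroup.mul_mem _ (h.al_ker hy hl' hn) (Subgroup.inv_mem _ hn)) (h.al_ln hx (by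
    simpa only [mul_assoc] using Subgroup.mul_mem _ hl (h.al_ker hx hn' (Subgroup.inv_mem _ hl))) hx.left)

theorem claimB (q : Quad D c p w w') (hg : g ∈ Xg D c p) (h2 : T2 g) (e : g * c = c * g)
    (hgg : ∀ s ∈ Ln D c w, g * g * s = s * (g * g)) (hgg' : ∀ s ∈ Ln D c w', g * g * s = s * (g * g))
    (hn : n ∈ Al D w' c) (hk : n ∈ h.Ker c) :
    ∀ s ∈ Ln D w c, n * (g * n * g⁻¹) * s = s * (n * (g * n * g⁻¹)) := by
  have hw := (h.qcol q).symm
  have hw' := (h.qcol q.s2).symm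
  obtain ⟨f, hf, r, hr, h5, hr'⟩ := h.f5 q.hw q.hw' q.o2
  have rw' := hr' w (ec_self q.hw)
  have hrS := h.xg_ln q.s3 hr
  have k0 := h.xg_ker q.hc q.hp q.o1 hg e
  obtain ⟨l, l1, l2, n', n1, n2, e1⟩ := h.decomp hw hw' hrS hn hk
  have mA : Al D w c ≤ Subgroup.closure (Ln D w c ∪ Ln D w' c) := Subgroup.closure_mono Set.subset_union_left
  have mB : Al D w' c ≤ Subgroup.closure (Ln D w c ∪ Ln D w' c) := Subgroup.closure_mono Set.subset_union_right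
  have cen : ∀ {ζ v : G}, ζ ∈ Subgroup.centralizer (Ln D w c ∪ Ln D w' c) →
      v ∈ Subgroup.closure (Ln D w c ∪ Ln D w' c) → ζ * v = v * ζ :=
    fun hζ hv => comm_of_closure (fun s hs => (hζ s hs).symm) hv
  have a1 := al_swap (h.del_al q.s2 hg e (al_swap hn))
  have k1 := h.del_ker hw'.symm k0 (al_swap hn)
  have a2 := al_swap (h.del_al q.s2 hg e (al_swap n1))
  have k2 := h.del_ker hw'.symm k0 (al_swap n1)
  have a3 := al_swap (h.del_al q hg e (al_swap l1))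
  have gw := h.xg_comm q.hc hg q.hw q.e1 q.e3
  have a4 := h.al_conj' hw e gw l1
  have c4 := h.comm_cent hw hw' q.o2 (Subgroup.inv_mem _ a4) ((h.Ker c).inv_mem (h.ker_conj l2 e)) n1 n2
  have e2 : r * (n * (g * n * g⁻¹)) * r⁻¹ = l * (g * l * g⁻¹) *
      ((g * l * g⁻¹)⁻¹ * n' * (g * l * g⁻¹)⁻¹⁻¹ * n'⁻¹) * (n' * (g * n' * g⁻¹)) := by
    have c1 : Commute g r := h.xg_xg q hg hr
    calc _ = r * n * r⁻¹ * ((r * g) * n * (r * g)⁻¹) := by group
      _ = r * n * r⁻¹ * (g * (r * n * r⁻¹) * g⁻¹) := by rw [← c1.eq]; group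
      _ = _ := by rw [e1]; group
  have hb := h.ln_conj hw hk.1 (hk.2 w hw) hw.left
  have hx := h.ln_conj hw k1.1 (k1.2 w hw) hw.left
  have ox : Od (n * (g * n * g⁻¹) * w * (n * (g * n * g⁻¹))⁻¹) w' := by
    have := (od_conj (n * (g * n * g⁻¹))).2 q.o2
    rwa [h.al_ln hw' a1 hw'.left, mul_inv_cancel_right] at this
  have e3 : r * (n * (g * n * g⁻¹) * w * (n * (g * n * g⁻¹))⁻¹) * r⁻¹ =
      n * (g * n * g⁻¹) * w * (n * (g * n * g⁻¹))⁻¹ := by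
    have hb' := Subgroup.subset_closure (ln_swap hb)
    have a5 := al_swap (h.del_al q hg e hb')
    have c5 := h.comm_cent hw hw' q.o2 a5 (h.del_ker hw.symm k0 hb') hn hk
    have c6 := Set.union_comm _ _ ▸ h.claimA q hg h2 e hgg hr h5.two rw' hb'
    have e4 : n * (g * n * g⁻¹) * w * (n * (g * n * g⁻¹))⁻¹ =
        w * (n * (n * w * n⁻¹ * (g * (n * w * n⁻¹) * g⁻¹)) * n⁻¹) := by
      calc _ = n * g * n * (g⁻¹ * w * g) * n⁻¹ * g⁻¹ * n⁻¹ := by group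
        _ = w * (w * (n * n) * n⁻¹ * g * n * w * n⁻¹ * g⁻¹ * n⁻¹) := by
          rw [mul_assoc g⁻¹, ← gw, inv_mul_cancel_left, h.al_sq hw' hn, h.al_inv hw' hn]
          simp only [mul_assoc, h.ri.mm q.hw, mul_one]
        _ = _ := by rw [h.al_sq hw' hn, ← one_mul (w * 1), mul_one w, ← h.al_sq hw' hn]; group
    have hxD := hx.1
    have hxL := mA (Subgroup.subset_closure hx)
    generalize n * (g * n * g⁻¹) * w * (n * (g * n * g⁻¹))⁻¹ = x at e4 ox hxD hxL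
    generalize n * w * n⁻¹ * (g * (n * w * n⁻¹) * g⁻¹) = d at a5 c5 c6 e4
    have e5 : r * x * r⁻¹ = d * (r * d * r⁻¹) * x := by
      have e6 : x = w * d * (d * n * d⁻¹ * n⁻¹)⁻¹ := by
        rw [mul_assoc, ← cen (Subgroup.inv_mem _ c5) (mA a5), e4]; group
      rw [cen c6 hxL, e6, ← conj_mul, ← conj_mul, rw', mul_inv_cancel_right,
        ← cen (Subgroup.inv_mem _ c5) hrS, mul_inv_cancel_right, mul_assoc (w * d),
        cen (Subgroup.inv_mem _ c5) (mA (Subgroup.mul_mem _ a5 (h.al_conj' hw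
          (h.xg_comm q.hw hr q.hc q.e1.symm q.e2.symm) rw' a5)))]
      simp only [mul_assoc w, ← mul_assoc d, h.al_sq hw a5, one_mul]
    rw [e5, h.ri.ct hxD q.hw' ox (cen c6 hxL) (cen c6 (mB (Subgroup.subset_closure hw'.left)))
      (e5 ▸ h.conj hxD r), one_mul]
  have c7 := h.cent_both hw hw' q.o2 (Subgroup.mul_mem _ (Subgroup.inv_mem _ a1) a2) (by
    have h6 := mA (Subgroup.subset_closure (h.ln_conj hw k2.1 (k2.2 w hw) hw.left))
    have h7 := h.al_ln hw a3 (h.ln_conj hw k2.1 (k2.2 w hw) hw.left)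
    rw [← conj_mul, ← conj_mul, rw', mul_inv_cancel_right, ← conj_inv, e2] at e3
    generalize n * (g * n * g⁻¹) = u at *
    generalize n' * (g * n' * g⁻¹) = u' at *
    generalize (g * l * g⁻¹)⁻¹ * n' * (g * l * g⁻¹)⁻¹⁻¹ * n'⁻¹ = κ at *
    generalize l * (g * l * g⁻¹) = v at *
    have : u' * w * u'⁻¹ = u * w * u⁻¹ := by
      calc _ = v * (κ * (u' * w * u'⁻¹) * κ⁻¹) * v⁻¹ := by
            rw [cen c4 h6, mul_inv_cancel_right, h7, mul_inv_cancel_right]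
        _ = _ := by rw [← e3]; group
    calc _ = u⁻¹ * (u' * w * u'⁻¹) * u' := by group
      _ = _ := by rw [this]; group)
  have fL := h.ec_ln hw hf
  have hz := Subgroup.mul_mem _ (Subgroup.mul_mem _ hr hr) (ec_le_xg hf)
  have c8 := rho_aux hrS (mB a1) (mA a3) (h.xg_ln q.s3 hz) (mA (Subgroup.subset_closure fL)) (by
    have h6 := Subgroup.mul_mem _ c4 c7
    rw [e2, mul_assoc, mul_assoc, mul_inv_rev (l * _), ← mul_assoc (n' * _), h.al_cl hw' a2 (Subgroup.inv_mem _ a1),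
      ← mul_assoc _ _ (l * _)⁻¹, cen h6 (Subgroup.inv_mem _ (mA a3)), mul_inv_cancel_left]
    exact h6) (Set.union_comm _ _ ▸ h.claimA q hg h2 e hgg hr h5.two rw' (al_swap l1))
    (h.claimA q.s2 hg h2 e hgg' (h.xg_le q.hw' q.hw q.o2.symm hz) (h5.two_z (h.ri.sq f hf.1))
      (h5.cent (h.ri.sq f hf.1) (h.ri.sq w' q.hw')) (al_swap hn)) (h.al_sq hw' a1) (h.al_sq hw a3)
    (h.ri.mm' hf.1 _).symm
  refine h.cent_ln hw hw' q.o2 (fun _ => h.al_ln hw' a1) fL (fun e1 => hw.ne ⟨q.hw, hf.2.symm.trans e1.2⟩)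
    (mul_inv_eq_iff_eq_mul.1 (mul_inv_eq_one.1 (h.ri.ct hf.1 q.hw' (h.ec_od hf q.hw' q.o2)
      (cen c8 (mA (Subgroup.subset_closure fL))) (cen c8 (mB (Subgroup.subset_closure hw'.left))) ?_)))
  rw [inv_mul_cancel_right]
  exact h.conj hf.1 _

theorem lemmaK (k : ℕ) : ∀ g ∈ Xg D c p, g ^ 2 ^ k = 1 → g * c = c * g → ∀ w w', Quad D c p w w' →
    ∀ b ∈ Ln D c w, g * b = b * g := by
  induction k with
  | zero => intro g _ e; simp [show g = 1 by simpa using e]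
  | succ k ih =>
  intro g hg e1 e w w' q b hb
  have ih' := ih (g * g) (Subgroup.mul_mem _ hg hg) (by rw [← pow_two, ← pow_mul, ← pow_succ', e1])
    (Commute.mul_left e e)
  have hw := (h.qcol q).symm
  by_cases hn : b ∈ Ec D c
  · exact h.cent_ec hw.symm (h.qcol q.s1) q.o1 (h.xg_kh q hg) ⟨_, e1⟩ e hn
  obtain ⟨f, hf, hk⟩ := h.exists_ec hw q.hp q.o1 q.e3.symm (ln_swap hb) hn
  have fL := h.ec_ln hw hf
  obtain ⟨n, n1, n2, rfl⟩ := h.exists_n hw (h.qcol q.s2).symm q.o2 fL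
    (fun e1 => hw.ne ⟨q.hw, hf.2.symm.trans e1.2⟩) (ln_swap hb) hn hk
  have e2 := h.claimB q hg ⟨_, e1⟩ e (ih' w w' q) (ih' w' w q.s2) n1 n2 f fL
  have e3 := h.xg_comm q.hc hg hf.1 fL.2.2.symm (h.ec_cm hf q.hw q.hp q.e3.symm).symm
  rw [← mul_inv_eq_iff_eq_mul]
  calc _ = n⁻¹ * (n * (g * n * g⁻¹) * (g * f * g⁻¹)) * (n * (g * n * g⁻¹))⁻¹ * n := by group
    _ = _ := by rw [e3, mul_inv_cancel_right, e2, mul_assoc n⁻¹, mul_inv_cancel_right,
      h.al_inv (h.qcol q.s2).symm n1]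

theorem exists_quad : ∃ c p w w', Quad D c p w w' := by
  obtain ⟨c, _, hl⟩ := h.line
  obtain ⟨p, hp, ho⟩ := h.exists_od h.core hl.1
  obtain ⟨w, hw, e1, e2⟩ := h.diam' hl.1 hp
  have h1 := h.col_of hl.1 hw e1.symm hp ho e2
  obtain ⟨x, hx, e3, o1⟩ := h.exists_od_comm hl.1 hw h1.symm.ne
  have h2 := h.col_of hx hl.1 e3 hw o1.symm e1.symm
  obtain ⟨w', h3, e4⟩ := h.gq h2 hp
  exact ⟨c, p, w, w', hl.1, hp, hw, h3.1, ho, (h.od_of_ln h2 h1.symm o1.symm h3 fun e =>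
    h.ri.od_not_comm h3.1 hp (h.ec_od e hp ho) e4).symm, e1.symm, h3.2.2.symm, e2.symm, e4.symm⟩

theorem false : False := by
  obtain ⟨c, p, w, w', q⟩ := h.exists_quad
  have hl := h.qcol q
  have hp := h.qcol q.s1
  obtain ⟨s, hs, r, hr, h5, hr'⟩ := h.f5 q.hc q.hp q.o1
  obtain ⟨k, hk⟩ := h5.two
  have h1 := h.lemmaK k r hr hk (hr' c (ec_self q.hc)) w w' q
  have sL := h.ec_ln hl hs
  have h2 := h.cent_ln hp hl q.o1.symm (n := r * r * s) (fun b hb => Commute.mul_left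
    (Commute.mul_left (h1 b hb) (h1 b hb)) (h.ln_cl hl sL hb)) hp.left hp.ne
    (h5.cent (h.ri.sq s hs.1) (h.ri.sq p q.hp))
  obtain ⟨m, hm, h3, h4⟩ := h.third hl
  obtain ⟨f, hf, h6⟩ := h.exists_ec hl q.hw' q.o2 q.e2 hm h4
  have fL := h.ec_ln hl hf
  obtain ⟨n, n1, n2, rfl⟩ := h.exists_n hl hp q.o1 fL (fun e1 => hl.ne ⟨q.hc, hf.2.symm.trans e1.2⟩) hm h4 h6
  obtain ⟨l, l1, -, n', n3, -, e1⟩ := h.decomp hl hp (h.xg_ln q hr) n1 n2
  have h7 := h.cent_both hl hp q.o1 (Subgroup.mul_mem _ n3 (Subgroup.inv_mem _ n1)) (by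
    have h8 := h.ln_conj hl (inv_comm n2.1) (((h.Ker w).inv_mem n2).2 c hl) hl.left
    have c1 : Commute l c := h.al_ln hl l1 hl.left
    have c2 : Commute r c := h1 c hl.left
    have c3 : Commute r (n⁻¹ * c * n⁻¹⁻¹) := h1 _ h8
    calc _ = l⁻¹ * (l * n') * (n⁻¹ * c * n⁻¹⁻¹) * n⁻¹ := by group
      _ = l⁻¹ * r * n * (r⁻¹ * (n⁻¹ * c * n⁻¹⁻¹)) * n⁻¹ := by rw [← e1]; group
      _ = l⁻¹ * r * c * n * r⁻¹ * n⁻¹ := by rw [c3.inv_left.eq]; group
      _ = c * (l⁻¹ * (r * n * r⁻¹) * n⁻¹) := by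
        rw [mul_assoc l⁻¹, c2.eq, ← mul_assoc, c1.inv_left.eq]; group
      _ = _ := by rw [e1]; group)
  have h8 : r * n * r⁻¹ = l * (n' * n⁻¹) * n := by rw [e1]; group
  have c4 : Commute (n' * n⁻¹) r := comm_of_closure (fun s hs => (h7 s hs).symm) (h.xg_ln q hr)
  have c5 : Commute (n' * n⁻¹) l := comm_of_closure (fun s hs => (h7 s (Or.inl hs)).symm) l1
  have c6 : Commute (r * r) n := by
    rw [Commute, SemiconjBy, ← mul_inv_eq_iff_eq_mul]
    calc _ = r * (r * n * r⁻¹) * r⁻¹ := by group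
      _ = r * (l * (n' * n⁻¹)) * r⁻¹ * (r * n * r⁻¹) := by nth_rewrite 1 [h8]; group
      _ = _ := by
        rw [(Commute.mul_right (comm_of_closure h1 l1) c4.symm).eq, mul_inv_cancel_right, h8, ← mul_assoc,
          mul_assoc l, ← mul_assoc _ l, c5.eq, mul_assoc l (n' * n⁻¹), h.al_sq hp (Subgroup.mul_mem _ n3
          (Subgroup.inv_mem _ n1)), mul_one, h.al_sq hl l1, one_mul]
  have c7 : Commute s n := by
    simpa only [inv_mul_cancel_left] using c6.inv_left.mul_left (comm_of_closure h2 n1)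
  rw [h.cent_ln hl hp q.o1 (fun _ => h.al_ln hp n1) sL (fun e1 => hl.ne ⟨q.hc, hs.2.symm.trans e1.2⟩)
    c7.symm f fL, mul_inv_cancel_right] at h3
  exact h3 hf

end CX

theorem not_p5_aux (n : ℕ) : ∀ (G : Type u) [Group G] [Finite G] (D : Set G), Nat.card G = n → OG D →
    pCore 2 G = ⊥ → IsConnectedSet (CommAdj D) D → ¬ P5 D := by
  induction n using Nat.strong_induction_on with
  | _ n ih =>
  intro G _ _ D hn h hO hcon h5
  have ih' : IH5 G := fun X hX D' h' => ih _ (hn ▸ card_quot_lt hX _) _ D' rfl h' (Core.pCore_quotient_pCore 2 X)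
  exact CX.false ⟨h, hO, hcon, ih', fun a ha b hb => h.not_three hO hcon ih' h5 ha hb⟩

/-- With connected commuting graph all the groups `⟨E_c, p⟩` are linear. -/
theorem OG.isL2 [Finite G] (h : OG D) (hO : pCore 2 G = ⊥) (hcon : IsConnectedSet (CommAdj D) D) (hc : c ∈ D)
    (hp : p ∈ D) (ho : Od c p) : IsL2 (Xg D c p) ((Ec D c).ncard + 1) :=
  ((h.types asch hO hc hp ho).resolve_right fun ⟨s, hs, r, hr, h5, _⟩ => not_p5_aux _ G D rfl h hO hcon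
    ⟨s, hs.1, p, hp, r, by rwa [Xg, ec_eq hs], h5⟩).1

end CfsgLib.RootInv
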