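import Cfsg.Agent.Lib.RootInv.OddTr
import Cfsg.Agent.Lib.BCor.Dim
import Cfsg.Agent.Lib.Schur.Hopf
import Cfsg.Agent.Lib.Dickson.Subfield
import Cfsg.Agent.S0494
import Cfsg.Agent.S0892
import Cfsg.Agent.S2086
import Cfsg.Agent.S2111
import Cfsg.Agent.S2112

/-! Odd transpositions: identification of the group generated by `E_d` and an odd partner. -/

set_option autoImplicit false

namespace CfsgLib.RootInv

open Cfsg MulAction

universe u

variable {G : Type u} [Group G] {D : Set G} {a b c d e f g t x y z : G}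

/-- Linear with Sylow `2`-subgroup of order `n`. -/
def IsL2 (L : Type*) [Group L] (n : ℕ) : Prop :=
  ∃ (F : Type) (_ : Field F) (_ : Fintype F), CharP F 2 ∧ 4 ≤ Fintype.card F ∧ Fintype.card F = n ∧
    Nonempty (L ≃* Matrix.ProjectiveSpecialLinearGroup (Fin 2) F)

theorem BS.not_unitary [Finite G] {Ω : Type*} [MulAction G Ω] (h : BS D Ω) {ω : Ω}
    (hf : ∀ g : G, (∀ ω : Ω, g • ω = ω) → g = 1) (hi : ∀ g : G, orderOf g = 2 → g ∈ D) (hx : x ∈ D)
    (hg : Subgroup.closure (Blk D ω ∪ {x}) = ⊤) :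
    IsL2 G ((Blk D ω).ncard + 1) ∨
      (Lie.IsoSuzuki G ∧ ∃ S : Sylow 2 G, (S : Subgroup G) ≤ stabilizer G ω ∧
        ∃ p ∈ S, ∃ q ∈ S, p * q ≠ q * p) := by
  have := h.simple hf
  obtain ⟨S, hS⟩ := BCor.str_of_simple BenderRed.benderSimple h.not_comm (h.se_of_invol hi ω)
  obtain ⟨t, ht⟩ := hS.exists_setup
  have := Bender.faithful_of_simple ht
  have hs : stabilizer G ((1 : G) : G ⧸ stabilizer G ω) = stabilizer G ω := stabilizer_quotient _
  have h2 : Bender.Rank2 G := Bender.rank2_of_simple (by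
    by_contra hn
    push Not at hn
    exact h.not_comm ⟨⟨hn⟩⟩)
  have hZ : ∀ e, e ∈ Blk D ω ↔ e ∈ Bender.Zg (S : Subgroup G) ∧ e ≠ 1 := fun e => by
    rw [← Bender.mem_involutionsIn_iff_Zg ht, hs]
    exact ⟨fun he => ⟨he.2, h.ri.ne e he.1, h.ri.sq e he.1⟩,
      fun he => ⟨hi e (StrEmb.orderOf_eq_two he.2.2 he.2.1), he.1⟩⟩
  have e0 : Bender.Lg t (S : Subgroup G) ≃* G :=
    (MulEquiv.subgroupCongr (Bender.Lg_eq_top ht)).trans Subgroup.topEquiv
  rcases (Bender.concl ht h2).2 with hT | hT | hT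
  · obtain ⟨F, _, _, _, n, h1, h3, h4, ⟨φ⟩⟩ := Bender.iso_psl2 ht h2 hT
    refine Or.inl ⟨F, inferInstance, inferInstance, inferInstance,
      h3 ▸ Nat.pow_le_pow_right (show 0 < 2 by norm_num) h1, ?_, ⟨e0.symm.trans φ⟩⟩
    have e : Blk D ω = ((S : Subgroup G) : Set G) \ {1} := Set.ext fun e => by
      rw [hZ, Bender.mem_Zg_iff ht]
      exact ⟨fun he => ⟨he.1.1, he.2⟩, fun he => ⟨⟨he.1, hT e he.1⟩, he.2⟩⟩
    rw [e, Set.ncard_sdiff_singleton_add_one (S : Subgroup G).one_mem (Set.toFinite _), h3, ← h4]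
    rfl
  · obtain ⟨F, _, _, m, h1, h3, ⟨φ⟩⟩ := Bender.iso_sz Bender.ft ht h2 hT
    exact Or.inr ⟨⟨F, inferInstance, inferInstance, m, h1, h3, ⟨e0.symm.trans φ⟩⟩, S, hS.le_H, hT.2.1⟩
  · exfalso
    obtain ⟨-, -, w, -, ζ, hζ, -, -, -, -, hne, -⟩ := hT
    have hxω : x ∉ stabilizer G ω := fun hx' => by
      obtain ⟨Γ, hΓ⟩ := h.exists_ne ω
      obtain ⟨g, rfl⟩ := h.trans ω Γ
      exact hΓ ((Subgroup.closure_le (stabilizer G ω)).2 (fun p hp => hp.elim (·.2) fun hp => hp ▸ hx')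
        (hg ▸ Subgroup.mem_top g))
    obtain ⟨a, ha⟩ := h.blk_ne ω
    obtain ⟨Γ, hΓ⟩ := h.exists_blk hx
    obtain ⟨k, rfl, rfl⟩ := h.exists_conj ha hΓ
    obtain ⟨v, hv, e⟩ := hS.dc t k (hs ▸ ht.not_mem) fun hk => hxω (h.blk_conj' ha hk).2
    have hc : ∀ p ∈ Blk D ω, Commute ζ p := fun p hp => (hζ.2 p ((hZ p).1 hp).1).symm
    have hct : Commute ζ t := (Bender.mem_Vg.1 (Bender.Wg_le_Vg ht hζ)).2
    have hcen : v * ζ * v⁻¹ ∈ Subgroup.center G := Subgroup.mem_center_iff.2 fun g => by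
      refine Subgroup.mem_centralizer_singleton_iff.1 ((Subgroup.closure_le
        (Subgroup.centralizer {v * ζ * v⁻¹})).2 (fun p hp => Subgroup.mem_centralizer_singleton_iff.2 ?_)
        (hg ▸ Subgroup.mem_top g))
      rcases hp with hp | rfl
      · have := (hc _ (h.blk_conj' hp ((stabilizer G ω).inv_mem (hS.le_H hv)))).conj v
        simpa [mul_assoc] using this.symm.eq
      · have := ((hct.mul_right (hc _ (h.blk_conj' ha ((stabilizer G ω).inv_mem e)))).mul_right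
          hct.inv_right).conj v
        simpa [mul_assoc] using this.symm.eq
    rcases (inferInstance : (Subgroup.center G).Normal).eq_bot_or_eq_top with e1 | e1
    · rw [e1, Subgroup.mem_bot, mul_inv_eq_one, mul_eq_left] at hcen
      exact hne (by rw [hcen, mul_one, one_mul])
    · exact h.not_comm ⟨⟨fun p q => Subgroup.mem_center_iff.1 (e1 ▸ Subgroup.mem_top q) p⟩⟩

theorem eq_bot_of_mult [Finite G] {Z : Subgroup G} [Z.Normal] (hc : Z ≤ Subgroup.center G)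
    (hp : commutator G = ⊤) (ho : Odd (Nat.card Z)) {L : Type} [Group L] (e : G ⧸ Z ≃* L) {A : Type}
    [CommGroup A] (hA : HasSchurMultiplier L A) {n : ℕ} (hn : Nat.card A = 2 ^ n) : Z = ⊥ := by
  have hk : (e.toMonoidHom.comp (QuotientGroup.mk' Z)).ker = Z := by
    rw [← MonoidHom.comap_ker, (MonoidHom.ker_eq_bot_iff _).2 e.injective, MonoidHom.comap_bot,
      QuotientGroup.ker_mk']
  obtain ⟨f, hf⟩ := Schur.exists_surj_ker hA (σ := e.toMonoidHom.comp (QuotientGroup.mk' Z))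
    ⟨e.surjective.comp (QuotientGroup.mk'_surjective Z), hk.symm ▸ hc, hp ▸ le_top⟩
  have h1 := Subgroup.card_dvd_of_surjective f hf
  rw [hk, hn] at h1
  exact Subgroup.card_eq_one.1 (Nat.Coprime.eq_one_of_dvd (ho.coprime_two_right.pow_right n) h1)

theorem eq_bot_of_iso [Finite G] {Z : Subgroup G} [Z.Normal] [IsSimpleGroup (G ⧸ Z)]
    (hc : Z ≤ Subgroup.center G) (hp : commutator G = ⊤) (ho : Odd (Nat.card Z)) {n : ℕ}
    (h : IsL2 (G ⧸ Z) n ∨ Lie.IsoSuzuki (G ⧸ Z)) : Z = ⊥ := by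
  rcases h with ⟨F, _, _, h1, h2, -, ⟨φ⟩⟩ | ⟨F, _, _, m, h1, h2, ⟨φ⟩⟩
  · obtain ⟨k, -, hk⟩ := FiniteField.card F 2
    have hg : Nat.gcd 2 (Fintype.card F - 1) = 1 := by
      refine Nat.coprime_two_left.2 (Nat.Even.sub_odd (by omega) ?_ odd_one)
      rw [hk]
      exact (Nat.even_pow' k.ne_zero).2 even_two
    by_cases h4 : Fintype.card F = 4
    · have h60 := Dickson.card_psl (K := F)
      rw [Nat.card_eq_fintype_card (α := F), hg, h4, ← Nat.card_congr φ.toEquiv, one_mul] at h60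
      obtain ⟨ψ⟩ := Cfsg.Agent.S0494.result (G := G ⧸ Z) h60
      have h5 := Cfsg.Agent.S0892.result 5 (by decide) (by decide) (by decide) Z hc (hp ▸ le_top) ψ
      have h6 : 0 < Nat.card Z := Nat.card_pos
      obtain ⟨j, hj⟩ := ho
      exact Subgroup.card_eq_one.1 (by omega)
    · have h9 : Fintype.card F ≠ 9 := fun e => by rw [e] at hg; exact absurd hg (by decide)
      refine eq_bot_of_mult hc hp ho φ (Cfsg.Agent.S2086.result rfl 2 le_rfl (fun _ => h2)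
        (by simp [h4, h9])) (n := 0) ?_
      rw [hg]
      simp
  · by_cases hm : m = 1
    · subst hm
      exact eq_bot_of_mult hc hp ho φ (Cfsg.Agent.S2112.result h2) (n := 2) (by simp)
    · exact eq_bot_of_mult hc hp ho φ (Cfsg.Agent.S2111.result (by omega) h2) (n := 0) (by simp)

theorem twoZCore_le_center (hO : pCore 2 G = ⊥) : twoZCore G ≤ Subgroup.center G := fun g hg =>
  Subgroup.mem_center_iff.2 fun k => by
    have h1 := Subgroup.mem_center_iff.1 hg (QuotientGroup.mk' _ k)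
    rw [← map_mul, ← map_mul] at h1
    have h2 := QuotientGroup.eq.1 h1
    rw [hO, Subgroup.mem_bot, inv_mul_eq_one] at h2
    exact h2

theorem odd_card_of_le_center [Finite G] (hO : pCore 2 G = ⊥) {Z : Subgroup G}
    (hc : Z ≤ Subgroup.center G) : Odd (Nat.card Z) :=
  StrEmb.odd_card_of_forall fun w hw h2 => by
    have : (Subgroup.zpowers w).Normal := ⟨fun n hn g => by
      rwa [Subgroup.mem_center_iff.1 (Subgroup.zpowers_le.2 (hc hw) hn) g, mul_inv_cancel_right]⟩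
    have : Fact (Nat.Prime 2) := ⟨Nat.prime_two⟩
    have h3 := Core.le_pCore (IsPGroup.of_card (p := 2) (n := 1) (G := Subgroup.zpowers w)
      (by rw [Nat.card_zpowers, h2, pow_one])) (Subgroup.mem_zpowers w)
    rw [hO, Subgroup.mem_bot] at h3
    rw [h3, orderOf_one] at h2
    exact absurd h2 (by decide)

theorem BS.faithful_of_gen [Finite G] {Ω : Type*} [MulAction G Ω] (h : BS D Ω) (hA : AschStmt.{u})
    (hO : pCore 2 G = ⊥) {ω : Ω} (hx : x ∈ D) (hg : Subgroup.closure (Blk D ω ∪ {x}) = ⊤) :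
    twoZCore G = ⊥ := by
  letI := h.qact
  have := h.quot.simple h.quot_faithful
  obtain ⟨p, q, hl⟩ := h.line
  refine eq_bot_of_iso (twoZCore_le_center hO) (h.ri.perfect h.gen h.cl hl)
    (odd_card_of_le_center hO (twoZCore_le_center hO))
    ((h.quot.not_unitary (ω := ω) h.quot_faithful (h.quot_invol' hA) ⟨x, hx, rfl⟩ ?_).imp_right (·.1))
  rw [eq_top_iff, ← Subgroup.map_top_of_surjective _ (QuotientGroup.mk'_surjective (twoZCore G)),
    ← hg, MonoidHom.map_closure]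
  refine Subgroup.closure_mono ?_
  rintro _ ⟨a, ha | rfl, rfl⟩
  exacts [Or.inl ⟨⟨a, ha.1, rfl⟩, ha.2⟩, Or.inr rfl]

theorem OT.exists_bs' [Finite G] (h : OT D d x) (hA : AschStmt.{u}) (he : e ∈ Ec D d) (hne : d ≠ e) :
    ∃ (Ω : Type u) (_ : MulAction G Ω) (ω : Ω), BS D Ω ∧ Blk D ω = Ec D d ∧
      (∀ g : G, (∀ ω : Ω, g • ω = ω) → g = 1) ∧ ∀ g : G, orderOf g = 2 → g ∈ D := by
  obtain ⟨Ω, _, ω, hB, e1⟩ := h.exists_bs he hne
  have h1 := hB.faithful_of_gen hA h.core h.hx (e1 ▸ h.gen')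
  refine ⟨Ω, inferInstance, ω, hB, e1, fun g hg => Subgroup.mem_bot.1 (h1 ▸ hB.mem_twoZCore_iff.2 hg),
    fun g hg => ?_⟩
  have hi : Function.Injective (QuotientGroup.mk' (twoZCore G)) :=
    (MonoidHom.ker_eq_bot_iff _).1 (by rw [QuotientGroup.ker_mk', h1])
  obtain ⟨p, hp, e2⟩ := hB.quot_invol' hA (QuotientGroup.mk' _ g) (by rw [orderOf_injective _ hi, hg])
  exact hi e2 ▸ hp

/-- The image of the class of `d` in a subgroup modulo its largest normal `2`-subgroup. -/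
def Dq (D : Set G) (X : Subgroup G) (d : X) : Set (X ⧸ pCore 2 X) :=
  {y | ∃ g : X, y = QuotientGroup.mk' (pCore 2 X) (g * d * g⁻¹)}

namespace NF

variable [Finite G] (h : NF D) {X : Subgroup G} {p q r : X}
include h

omit [Finite G] in
theorem mk_ne (hq : (q : G) ∈ D) (ho : Od (p : G) q) :
    QuotientGroup.mk' (pCore 2 X) p ≠ QuotientGroup.mk' (pCore 2 X) q := fun e => by
  refine h.ri.not_od_of_sq_mem (Core.isPGroup_map_pCore (p := 2) X) hq
    (Subgroup.pow_mem _ (Subgroup.mem_map.2 ⟨p * q, (QuotientGroup.eq_one_iff _).1 ?_, rfl⟩) 2) ho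
  change QuotientGroup.mk' _ (p * q) = 1
  rw [map_mul, e, ← map_mul, show q * q = 1 from Subtype.ext (h.ri.sq _ hq), map_one]

omit [Finite G] in
theorem od_mk (hq : (q : G) ∈ D) (ho : Od (p : G) q) :
    Od (QuotientGroup.mk' (pCore 2 X) p) (QuotientGroup.mk' (pCore 2 X) q) :=
  ⟨h.mk_ne hq ho, by rw [← map_mul]; exact (od_coe.2 ho).2.of_dvd_nat (orderOf_map_dvd _ _)⟩

omit [Finite G] in
theorem nf_dq (hX : X ≤ Subgroup.closure D) (hp : (p : G) ∈ D) (hq : (q : G) ∈ D) (ho : Od (p : G) q) :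
    NF (Dq D X p) := by
  have hm : ∀ g : X, ((g * p * g⁻¹ : X) : G) ∈ D := fun g => h.ri.conj_mem hp (hX g.2)
  have hsq : ∀ y ∈ Dq D X p, y * y = 1 := by
    rintro _ ⟨g, rfl⟩
    rw [← map_mul, show g * p * g⁻¹ * (g * p * g⁻¹) = 1 from Subtype.ext (h.ri.sq _ (hm g)), map_one]
  have pair : ∀ a ∈ Dq D X p, ∀ b ∈ Dq D X p, a * b = b * a ∨ Od a b := by
    rintro _ ⟨g, rfl⟩ _ ⟨k, rfl⟩
    by_cases hc : ((g * p * g⁻¹ : X) : G) * (k * p * k⁻¹ : X) = (k * p * k⁻¹ : X) * (g * p * g⁻¹ : X)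
    · left
      rw [← map_mul, ← map_mul]
      exact congrArg _ (Subtype.ext hc)
    · exact Or.inr (h.od_mk (hm k) (h.od_of (hm g) (hm k) hc))
  have hri : RI (Dq D X p) := ⟨hsq, ?_, ?_, fun a ha b hb => (pair a ha b hb).imp_right Or.inl⟩
  · exact ⟨hri, fun a ha b hb hf => (pair a ha b hb).elim (hri.fo_not_comm ha hb hf) fun e => e.not_fo hf⟩
  · rintro _ ⟨g, rfl⟩ e
    rw [map_mul, map_mul, map_inv, mul_inv_eq_one, mul_eq_left] at e
    have := (h.od_mk hq ho).2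
    rw [e, one_mul] at this
    have h2 : QuotientGroup.mk' (pCore 2 X) q = 1 := eq_one_of_odd (n := 1) this (by
      rw [pow_one, pow_two, ← map_mul, show q * q = 1 from Subtype.ext (h.ri.sq _ hq), map_one])
    exact h.mk_ne hq ho (e.trans h2.symm)
  · rintro _ ⟨g, rfl⟩ y hy
    obtain ⟨k, rfl⟩ := QuotientGroup.mk'_surjective _ y
    exact ⟨k * g, by
      conv_lhs => rhs; rw [← inv_eq_of_mul_eq_one_right (hsq _ hy)]
      simp [mul_assoc]⟩

omit [Finite G] in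
theorem mem_dq (hp : (p : G) ∈ D) (hq : (q : G) ∈ D) (ho : Od (p : G) q) :
    QuotientGroup.mk' (pCore 2 X) q ∈ Dq D X p := by
  obtain ⟨v, hv, hvX, -, e⟩ := h.ri.exists_mid_mem hp hq ho p.2 q.2
  exact ⟨⟨v, hvX⟩, congrArg _ (Subtype.ext (by
    show (q : G) = v * p * v⁻¹
    rw [h.ri.inv hv, e]))⟩

omit [Finite G] in
theorem mem_dq' (hp : (p : G) ∈ D) (hq : (q : G) ∈ D) (hr : (r : G) ∈ D) (ho : Od (p : G) q)
    (ho' : Od (r : G) q) : QuotientGroup.mk' (pCore 2 X) r ∈ Dq D X p := by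
  obtain ⟨g, e⟩ := h.mem_dq hp hq ho
  obtain ⟨k, e'⟩ := h.mem_dq hq hr ho'.symm
  exact ⟨k * g, by rw [e', map_mul, map_mul, e]; simp [mul_assoc]⟩

omit [Finite G] in
theorem ec_dq (hX : X ≤ Subgroup.closure D) (hp : (p : G) ∈ D) (hq : (q : G) ∈ D) (ho : Od (p : G) q)
    (hr : (r : G) ∈ Ec D p) :
    QuotientGroup.mk' (pCore 2 X) r ∈ Ec (Dq D X p) (QuotientGroup.mk' (pCore 2 X) p) := by
  have h' := h.nf_dq hX hp hq ho
  have hr' := h.mem_dq' hp hq hr.1 ho (od_of_ao hr.2.symm hq ho)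
  have key : ∀ {p' : X}, (p' : G) ∈ D → QuotientGroup.mk' (pCore 2 X) p' ∈ Dq D X p → ∀ g : X,
      (QuotientGroup.mk' (pCore 2 X) p' * QuotientGroup.mk' (pCore 2 X) (g * p * g⁻¹) =
        QuotientGroup.mk' (pCore 2 X) (g * p * g⁻¹) * QuotientGroup.mk' (pCore 2 X) p' ↔
      (p' : G) * (g * p * g⁻¹ : X) = (g * p * g⁻¹ : X) * p') := fun {p'} h1 h2 g => by
    have hm : ((g * p * g⁻¹ : X) : G) ∈ D := h.ri.conj_mem hp (hX g.2)
    refine ⟨fun e => by_contra fun hn => h'.ri.od_not_comm h2 ⟨g, rfl⟩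
      (h.od_mk hm (h.od_of h1 hm hn)) e, fun e => ?_⟩
    rw [← map_mul, ← map_mul]
    exact congrArg _ (Subtype.ext e)
  refine ⟨hr', h'.ao_ext hr' ⟨1, by simp⟩ ?_⟩
  rintro _ ⟨g, rfl⟩
  have hm : ((g * p * g⁻¹ : X) : G) ∈ D := h.ri.conj_mem hp (hX g.2)
  rw [key hr.1 hr', key hp ⟨1, by simp⟩]
  exact ⟨h.same_comm hr.1 hp hr.2 hm, h.same_comm hp hr.1 hr.2.symm hm⟩

omit h [Finite G] in
theorem map_closure_eq_top {S : Set G} (hS : X = Subgroup.closure S) {T : Set (X ⧸ pCore 2 X)}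
    (hT : ∀ s : X, (s : G) ∈ S → QuotientGroup.mk' (pCore 2 X) s ∈ Subgroup.closure T) :
    Subgroup.closure T = ⊤ := by
  subst hS
  rw [eq_top_iff, ← Subgroup.map_top_of_surjective _ (QuotientGroup.mk'_surjective (pCore 2 _)),
    ← Subgroup.closure_closure_coe_preimage, MonoidHom.map_closure, Subgroup.closure_le]
  rintro _ ⟨s, hs, rfl⟩
  exact hT s hs

omit h [Finite G] in
theorem cl_dq (hg : Subgroup.closure (Dq D X p) = ⊤) : Cl (Dq D X p) := by
  rintro _ ⟨g, rfl⟩ _ ⟨k, rfl⟩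
  exact ⟨QuotientGroup.mk' _ (k * g⁻¹), hg ▸ Subgroup.mem_top _, by simp [mul_assoc]⟩

omit [Finite G] in
theorem ot_dq {S : Set G} (hS : X = Subgroup.closure (S ∪ {(q : G)})) (hp : (p : G) ∈ D)
    (hq : (q : G) ∈ D) (ho : Od (p : G) q) (hSD : S ⊆ D)
    (h1 : ∀ s : X, (s : G) ∈ S →
      QuotientGroup.mk' (pCore 2 X) s ∈ Ec (Dq D X p) (QuotientGroup.mk' (pCore 2 X) p)) :
    OT (Dq D X p) (QuotientGroup.mk' (pCore 2 X) p) (QuotientGroup.mk' (pCore 2 X) q) := by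
  have hX : X ≤ Subgroup.closure D := hS ▸ Subgroup.closure_mono
    (Set.union_subset hSD (Set.singleton_subset_iff.2 hq))
  have hg : Subgroup.closure (Ec (Dq D X p) (QuotientGroup.mk' (pCore 2 X) p) ∪
      {QuotientGroup.mk' (pCore 2 X) q}) = ⊤ := map_closure_eq_top hS fun s hs =>
    Subgroup.subset_closure (hs.imp (h1 s) fun e => congrArg _ (Subtype.ext e))
  exact ⟨h.nf_dq hX hp hq ho, cl_dq (eq_top_iff.2 (hg ▸ Subgroup.closure_mono (Set.union_subset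
    (fun _ he => he.1) (Set.singleton_subset_iff.2 (h.mem_dq hp hq ho))))), ⟨1, by simp⟩,
    h.mem_dq hp hq ho, h.od_mk hq ho, hg, Core.pCore_quotient_pCore 2 X⟩

end NF

theorem nf_of (hD : IsOddTranspositionSet D) : NF D := ⟨ri_of hD.1, hD.2⟩

theorem OT.concl [Finite G] (h : OT D d x) (hA : AschStmt.{u}) :
    IsL2 G ((Ec D d).ncard + 1) ∨ Lie.IsoSuzuki G ∨ ∃ n : ℕ, Nonempty (G ≃* DihedralGroup n) := by
  by_cases he : ∀ e ∈ Ec D d, e = d
  · exact Or.inr (Or.inr ⟨_, h.dihedral he⟩)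
  push Not at he
  obtain ⟨e, he, hne⟩ := he
  obtain ⟨Ω, _, ω, hB, e1, hf, hi⟩ := h.exists_bs' hA he hne.symm
  exact (hB.not_unitary hf hi h.hx (e1 ▸ h.gen')).imp (e1 ▸ id) fun e => Or.inl e.1

theorem NF.ot_ec [Finite G] (h : NF D) (hd : d ∈ D) (hx : x ∈ D) (ho : Od d x) :
    ∃ (p q : Subgroup.closure (Ec D d ∪ {x})), (p : G) = d ∧ (q : G) = x ∧
      OT (Dq D _ p) (QuotientGroup.mk' (pCore 2 _) p) (QuotientGroup.mk' (pCore 2 _) q) :=
  ⟨⟨d, Subgroup.subset_closure (Or.inl ⟨hd, rfl⟩)⟩, ⟨x, Subgroup.subset_closure (Or.inr rfl)⟩, rfl, rfl,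
    h.ot_dq rfl hd hx ho (fun _ he => he.1) fun _ hs => h.ec_dq
      (q := ⟨x, Subgroup.subset_closure (Or.inr rfl)⟩) (Subgroup.closure_mono (Set.union_subset (fun _ he => he.1) (Set.singleton_subset_iff.2 hx))) hd hx ho hs⟩

end CfsgLib.RootInv
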