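import Cfsg.Agent.Lib.RootInv.OddTr2

/-! Odd transpositions: the commuting graph has diameter at most two. -/

set_option autoImplicit false

namespace CfsgLib.RootInv

open Cfsg MulAction

universe u

variable {G : Type u} [Group G] {D : Set G} {a b c d e f g t x y z : G}

/-- The members swapping two points generate a generalized dihedral group. -/
theorem BS.kab [Finite G] {Ω : Type*} [MulAction G Ω] (h : BS D Ω)
    (hf : ∀ g : G, (∀ ω : Ω, g • ω = ω) → g = 1) (hi : ∀ g : G, orderOf g = 2 → g ∈ D) {Δ Γ : Ω}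
    (hne : Γ ≠ Δ) {s1 s2 s3 : G} (h1 : s1 ∈ D) (h2 : s2 ∈ D) (h3 : s3 ∈ D) (e1 : s1 • Δ = Γ)
    (e2 : s2 • Δ = Γ) (e3 : s3 • Δ = Γ) : s3 * (s1 * s2) * s3 = s2 * s1 := by
  have := h.simple hf
  obtain ⟨S, hS⟩ := BCor.str_of_simple BenderRed.benderSimple h.not_comm (h.se_of_invol hi Δ)
  obtain ⟨t, ht⟩ := hS.exists_setup
  have hs : stabilizer G ((1 : G) : G ⧸ stabilizer G Δ) = stabilizer G Δ := stabilizer_quotient _
  have hti := inv_eq_of_mul_eq_one_right ht.mul_self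
  obtain ⟨v, hv, e⟩ := hS.dc s3 t (fun e => hne (e3.symm.trans e)) (hs ▸ ht.not_mem)
  have hvΔ : v⁻¹ • Δ = Δ := (stabilizer G Δ).inv_mem (hS.le_H hv)
  have hΓ : v • Γ = t • Δ := by
    rw [← e3, ← mul_smul, ← inv_smul_eq_iff, ← mul_smul]
    exact e
  have key : ∀ s ∈ D, s • Δ = Γ →
      t * (v * s * v⁻¹) ∈ Bender.Kg ((1 : G) : G ⧸ stabilizer G Δ) t := by
    intro s hsD e
    have h4 : (v * s * v⁻¹) • Δ = t • Δ := by rw [mul_smul, mul_smul, hvΔ, e, hΓ]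
    have h5 := inv_eq_of_mul_eq_one_right (h.ri.sq _ (h.conj hsD v))
    generalize v * s * v⁻¹ = s at h4 h5
    have h6 : t * s ∈ stabilizer G ((1 : G) : G ⧸ stabilizer G Δ) := by
      rw [hs, mem_stabilizer_iff, mul_smul, h4, h.smul_smul2 ht.mul_self]
    refine Bender.mem_Kg_of ⟨⟨h6, mem_stabilizer_iff.2 ?_⟩, ?_⟩
    · have := Subgroup.inv_mem _ h6
      rw [mul_inv_rev, h5, hti] at this
      rw [mul_smul, ← mul_smul s, this]
    · rw [← mul_assoc, ht.mul_self, one_mul, mul_inv_rev, h5]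
  have k1 := key s1 h1 e1
  have k2 := key s2 h2 e2
  have k3 := key s3 h3 e3
  have i1 := inv_eq_of_mul_eq_one_right (h.ri.sq _ (h.conj h1 v))
  have i2 := inv_eq_of_mul_eq_one_right (h.ri.sq _ (h.conj h2 v))
  have q3 := h.ri.sq _ (h.conj h3 v)
  refine (MulAut.conj v).injective ?_
  simp only [map_mul, MulAut.conj_apply]
  generalize v * s1 * v⁻¹ = p at k1 i1
  generalize v * s2 * v⁻¹ = q at k2 i2
  generalize v * s3 * v⁻¹ = r at k3 q3
  have k4 := Subgroup.mul_mem _ (Subgroup.inv_mem _ k1) k2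
  rw [mul_inv_rev, mul_assoc, inv_mul_cancel_left, i1] at k4
  have k5 := ((Bender.mem_Kg_iff Bender.ft ht).1 k4).2
  have k6 := Bender.K_comm Bender.ft ht k3 k4
  rw [mul_inv_rev, i1, i2, hti] at k5
  rw [mul_assoc, ← eq_inv_mul_iff_mul_eq, hti] at k6
  rw [k6, ← k5]
  simp only [mul_assoc, q3, mul_one]

theorem exists_inverts [Finite G] {Q : Subgroup G} [Q.Normal] (hQ : IsPGroup 2 Q) {p : ℕ}
    (hp : p.Prime) (hp2 : Odd p) {k v : G} (hk : orderOf k = p) (hv : v * v = 1)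
    (ho : ¬ Commute v (k * v * k⁻¹) → Odd (orderOf (v * (k * v * k⁻¹)))) (h1 : v * k * v * k ∈ Q) :
    ∃ n ∈ Q, n⁻¹ * v * n * k * (n⁻¹ * v * n) = k⁻¹ := by
  have := Fact.mk hp
  have := Fact.mk Nat.prime_two
  have hm : ∀ {g : G}, Odd (orderOf g) → g ∈ Q → g = 1 := fun ho hg => by
    obtain ⟨n, hn⟩ := hQ ⟨_, hg⟩
    exact eq_one_of_odd ho (congrArg Subtype.val hn)
  obtain ⟨w, hw⟩ : ∃ w, v * (k * v * k⁻¹) = w := ⟨_, rfl⟩
  have h2 : w * k * k ∈ Q := by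
    rw [← hw, mul_assoc v, inv_mul_cancel_right, ← mul_assoc]
    exact h1
  have h3 : v * w * v = w⁻¹ := by
    rw [← hw, ← mul_assoc, hv, one_mul, mul_inv_rev, conj_inv, inv_eq_of_mul_eq_one_right hv]
  have h4 : QuotientGroup.mk' Q w = (QuotientGroup.mk' Q k ^ 2)⁻¹ := by
    rw [eq_inv_iff_mul_eq_one, ← map_pow, ← map_mul, pow_two, ← mul_assoc]
    exact (QuotientGroup.eq_one_iff _).2 h2
  replace ho := hw ▸ ho fun hc => by
    have h5 : w ^ 2 = 1 := by rw [← hw, hc.mul_pow, conj_pow, pow_two, hv]; simp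
    have h6 : (k ^ 2) ^ 2 = 1 := hm ((hk ▸ hp2).of_dvd_nat ((orderOf_pow_dvd 2).trans
      (orderOf_pow_dvd 2))) ((QuotientGroup.eq_one_iff _).1 (by
        change QuotientGroup.mk' Q _ = 1
        rw [map_pow, map_pow, ← inv_eq_one, ← inv_pow, ← h4, ← map_pow, h5, map_one]))
    rw [← pow_mul] at h6
    rw [eq_one_of_odd (n := 2) (hk ▸ hp2) h6, orderOf_one] at hk
    exact hp.ne_one hk.symm
  have hP : IsPGroup p (Subgroup.zpowers w) := by
    have : w ^ p = 1 := hm (ho.of_dvd_nat (orderOf_pow_dvd p)) ((QuotientGroup.eq_one_iff _).1 (by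
      change QuotientGroup.mk' Q _ = 1
      rw [map_pow, h4, inv_pow, ← pow_mul, mul_comm, pow_mul, ← map_pow, ← hk, pow_orderOf_eq_one,
        map_one, one_pow, inv_one]))
    rintro ⟨_, n, rfl⟩
    refine ⟨1, Subtype.ext ?_⟩
    show (w ^ n) ^ p ^ 1 = 1
    rw [pow_one, ← zpow_natCast, ← zpow_mul, mul_comm, zpow_mul, zpow_natCast, this, one_zpow]
  obtain ⟨m, hm2⟩ := ncard_orbit hQ k
  obtain ⟨_, ⟨n, hn, rfl⟩, h5⟩ := exists_fixed hP (X := {x | ∃ s ∈ Q, x = s * k * s⁻¹}) (by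
    rintro _ ⟨j, rfl⟩ _ ⟨s, hs, rfl⟩
    refine ⟨w ^ j * s * (k ^ 2) ^ j, (QuotientGroup.eq_one_iff _).1 ?_, by group⟩
    change QuotientGroup.mk' Q _ = 1
    rw [map_mul, map_mul, map_zpow, map_zpow, map_pow, h4,
      show QuotientGroup.mk' Q s = 1 from (QuotientGroup.eq_one_iff _).2 hs]
    simp) (by
      rw [hm2]
      intro e
      rw [(Nat.prime_dvd_prime_iff_eq hp Nat.prime_two).1 (hp.dvd_of_dvd_pow e)] at hp2
      exact absurd hp2 (by decide))
  have h6 : Commute w (n * k * n⁻¹) := mul_inv_eq_iff_eq_mul.1 (h5 w (Subgroup.mem_zpowers w))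
  have h7 : Odd (orderOf (n * k * n⁻¹)) := by rw [Invol.orderOf_conj, hk]; exact hp2
  have h8 : w * (n * k * n⁻¹) ^ 2 = 1 := hm (((ho.mul h7).of_dvd_nat
    ((h6.pow_right 2).orderOf_mul_dvd_mul_orderOf.trans (Nat.mul_dvd_mul_left _ (orderOf_pow_dvd 2)))))
    ((QuotientGroup.eq_one_iff _).1 (by
      change QuotientGroup.mk' Q _ = 1
      rw [map_mul, map_pow, map_mul, map_mul, map_inv, h4,
        show QuotientGroup.mk' Q n = 1 from (QuotientGroup.eq_one_iff _).2 hn]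
      simp))
  have h9 : v * (n * k * n⁻¹) * v⁻¹ = (n * k * n⁻¹)⁻¹ := eq_of_sq_eq (by rwa [Invol.orderOf_conj])
    (by rwa [orderOf_inv]) (by
      rw [conj_mul, ← mul_inv_rev, ← pow_two, eq_inv_of_mul_eq_one_right h8, ← conj_inv,
        inv_eq_of_mul_eq_one_right hv, h3])
  refine ⟨n, hn, ?_⟩
  rw [inv_eq_of_mul_eq_one_right hv] at h9
  calc _ = n⁻¹ * (v * (n * k * n⁻¹) * v) * n := by simp only [mul_assoc]
    _ = _ := by rw [h9]; simp [mul_assoc]

namespace NF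

variable [Finite G] (h : NF D) {X : Subgroup G} {p p' q r : X}
include h

omit [Finite G] in
theorem ln_dq (hX : X ≤ Subgroup.closure D) (hl : ProdAdj D (p : G) p') (hq : (q : G) ∈ D)
    (ho : Od (p : G) q) :
    ProdAdj (Dq D X p) (QuotientGroup.mk' (pCore 2 X) p) (QuotientGroup.mk' (pCore 2 X) p') := by
  have h' := h.nf_dq hX hl.1 hq ho
  have h1 := h.mem_dq' (r := p') hl.1 hq hl.2.1 ho (od_of_ao (h.ao_ln hl) hq ho)
  have h2 := h.mem_dq' (r := p * p') hl.1 hq hl.2.2.2.2 ho (od_of_ao (h.ao_ln (h.ri.ln_mul hl)) hq ho)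
  rw [map_mul] at h2
  refine ⟨⟨1, by simp⟩, h1, fun e => h'.ri.ne _ h2 (by rw [e, h'.ri.sq _ h1]), ?_, h2⟩
  rw [← map_mul, ← map_mul]
  exact congrArg _ (Subtype.ext hl.2.2.2.1)

omit [Finite G] in
/-- Members commuting with a line together with an odd partner. -/
theorem ot_of_comm {S : Set G} (hS : X = Subgroup.closure (S ∪ {(q : G)})) (hl : ProdAdj D (p : G) p')
    (hq : (q : G) ∈ D) (ho : Od (p : G) q) (hr : (r : G) ∈ D) (hc : (p : G) * r = r * p)
    (ho' : Od (r : G) q) (h1 : ∀ s ∈ S, s ∈ Ec D p ∨ s = r) :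
    QuotientGroup.mk' (pCore 2 X) r ∈ Ec (Dq D X p) (QuotientGroup.mk' (pCore 2 X) p) ∧
      OT (Dq D X p) (QuotientGroup.mk' (pCore 2 X) p) (QuotientGroup.mk' (pCore 2 X) q) := by
  have hSD : S ⊆ D := fun s hs => (h1 s hs).elim (·.1) fun e => e ▸ hr
  have hX : X ≤ Subgroup.closure D := hS ▸ Subgroup.closure_mono
    (Set.union_subset hSD (Set.singleton_subset_iff.2 hq))
  have h' := h.nf_dq hX hl.1 hq ho
  have hec : QuotientGroup.mk' (pCore 2 X) r ∈ Ec (Dq D X p) (QuotientGroup.mk' (pCore 2 X) p) := by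
    refine h'.mem_ec (h.ln_dq hX hl hq ho) (h.mem_dq' hl.1 hq hr ho ho') ?_ (h.mem_dq hl.1 hq ho)
      (h.od_mk hq ho) fun w hw h2 h3 h4 => eq_one_of_gen (Core.pCore_quotient_pCore 2 X)
        (map_closure_eq_top hS (T := {s | w * s = s * w}) fun s hs => Subgroup.subset_closure ?_) hw
        fun _ hs => hs
    · rw [← map_mul, ← map_mul]
      exact congrArg _ (Subtype.ext hc)
    · rcases hs with hs | hs
      · rcases h1 s hs with hs | hs
        · exact h2 _ (h.ec_dq hX hl.1 hq ho hs)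
        · exact Subtype.ext hs ▸ h3
      · exact (Subtype.ext hs : s = q) ▸ h4
  exact ⟨hec, h.ot_dq hS hl.1 hq ho hSD fun s hs => (h1 s hs).elim (h.ec_dq hX hl.1 hq ho)
    fun e => Subtype.ext e ▸ hec⟩

theorem step' (hA : AschStmt.{u}) (hS : X = Subgroup.closure ({(p : G), (p' : G), (r : G)} ∪ {(q : G)}))
    (hl : ProdAdj D (p : G) p') (hq : (q : G) ∈ D) (ho : Od (p : G) q) (hr : (r : G) ∈ D)
    (hc : (p : G) * r = r * p) (ho' : Od (r : G) q) (hb : b ∈ D) (h1 : (q : G) * b = b * q)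
    (h2 : (p : G) * b = b * p) : ∃ e ∈ D, e * q = q * e ∧ e * r = r * e := by
  have hp' : (p' : G) ∈ Ec D p := ⟨hl.2.1, (h.ao_ln hl).symm⟩
  obtain ⟨hec, hT⟩ := h.ot_of_comm hS hl hq ho hr hc ho' (by
    rintro s (rfl | rfl | rfl)
    exacts [Or.inl ⟨hl.1, rfl⟩, Or.inl hp', Or.inr rfl])
  have hX : X ≤ Subgroup.closure D := hS ▸ Subgroup.closure_mono (by
    rintro s ((rfl | rfl | rfl) | rfl)
    exacts [hl.1, hl.2.1, hr, hq])
  have hl' := h.ln_dq hX hl hq ho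
  have hec' := h.ec_dq hX hl.1 hq ho hp'
  obtain ⟨Ω, _, ω, hB, e1, hf, hi⟩ := hT.exists_bs' hA hec' hl'.2.2.1
  obtain ⟨Δ, hΔ⟩ := hB.exists_blk hT.hx
  have hne : ω ≠ Δ := fun e => (hT.od_ec (e1 ▸ e ▸ hΔ)).1 rfl
  have hm : ∀ s : X, (s : G) ∈ D → Od (q : G) s → QuotientGroup.mk' (pCore 2 X) s ∈ Dq D X p :=
    fun s hs ho1 => h.mem_dq' hl.1 hq hs ho ho1.symm
  have mid : ∀ (y : X) (K : Subgroup G), (y : G) ∈ D → Od (y : G) q → (q : G) ∈ K → (y : G) ∈ K →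
      QuotientGroup.mk' (pCore 2 X) y ∈ Ec (Dq D X p) (QuotientGroup.mk' (pCore 2 X) p) →
      ∃ s : X, (s : G) ∈ D ∧ (s : G) ∈ K ∧ Od (q : G) s ∧ s * q * s = y ∧
        QuotientGroup.mk' (pCore 2 X) s • Δ = ω := fun y K hy ho1 h3 h4 h5 => by
    obtain ⟨s, hs, h6, h7, h8⟩ := h.ri.exists_mid_mem (K := X ⊓ K) hq hy ho1.symm ⟨q.2, h3⟩ ⟨y.2, h4⟩
    have h9 : (⟨s, h6.1⟩ : X) * q * ⟨s, h6.1⟩ = y := Subtype.ext h8
    refine ⟨⟨s, h6.1⟩, hs, h6.2, h7, h9, hB.smul_eq_of_conj2 hΔ (hT.ri.sq _ (hm _ hs h7)) ?_⟩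
    rwa [← map_mul, ← map_mul, h9, e1]
  have hK : ∀ {g : G}, g * b = b * g → g ∈ Subgroup.centralizer {b} :=
    Subgroup.mem_centralizer_singleton_iff.2
  obtain ⟨s, hs, hsb, hos, es, fs⟩ := mid p _ hl.1 ho (hK h1) (hK h2) ⟨hT.hd, rfl⟩
  obtain ⟨s', hs', hsb', hos', es', fs'⟩ := mid p' _ hl.2.1 (od_of_ao (h.ao_ln hl) hq ho) (hK h1)
    (hK (h.same_comm hl.1 hl.2.1 (h.ao_ln hl) hb h2)) hec'
  obtain ⟨v, hv, -, hov, ev, fv⟩ := mid r ⊤ hr ho' trivial trivial hec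
  have hkab := hB.kab hf hi hne (hm s hs hos) (hm s' hs' hos') (hm v hv hov) fs fs' fv
  have hss : Od s s' := od_coe.2 (h.od_of hs hs' fun e => by
    have hc : Commute (QuotientGroup.mk' (pCore 2 X) s) (QuotientGroup.mk' (pCore 2 X) s') :=
      (show Commute s s' from Subtype.ext e).map _
    have h3 := hT.ri.sq _ (hm s hs hos)
    have h4 := hT.ri.sq _ (hm s' hs' hos')
    refine hne (fs.symm.trans (hB.same_comm (ω := Δ) ⟨hi _ (StrEmb.orderOf_eq_two (by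
      rw [← pow_two, hc.mul_pow, pow_two, pow_two, h3, h4, mul_one]) fun e => hl'.2.2.1 (by
        rw [← es, ← es', map_mul, map_mul, map_mul, map_mul,
          hT.ri.eq_of_mul_eq_one (hm s' hs' hos') e])), by rw [mul_smul, fs', ← fs, hB.smul_smul2 h3]⟩
      (hm s hs hos) (Commute.mul_left (Commute.refl _) hc.symm)).2))
  obtain ⟨l, hlp, hl2⟩ := Nat.exists_prime_and_dvd (n := orderOf (s * s')) (fun e => h.ri.od_ne_one hs' (od_coe.1 hss)
    (congrArg Subtype.val (orderOf_eq_one_iff.1 e)))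
  have hk := orderOf_pow_orderOf_div (orderOf_pos (s * s')).ne' hl2
  have hkb : (((s * s') ^ (orderOf (s * s') / l) : X) : G) ∈ Subgroup.centralizer {b} :=
    Subgroup.pow_mem _ (Subgroup.mul_mem _ hsb hsb') _
  have hv2 : v * v = 1 := Subtype.ext (h.ri.sq _ hv)
  obtain ⟨n, hn, en⟩ := exists_inverts (Core.isPGroup_pCore 2 X) hlp (hss.2.of_dvd_nat hl2) hk hv2
    (fun hc => (od_coe.2 (h.od_of hv (h.ri.conj_mem hv (hX (Subtype.prop _)))
      fun e => hc (Subtype.ext e))).2) ((QuotientGroup.eq_one_iff _).1 (by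
      change QuotientGroup.mk' _ _ = 1
      simp only [map_mul, map_pow]
      rw [mul_eq_one_iff_eq_inv, ← inv_pow, mul_inv_rev, hT.ri.inv (hm s hs hos),
        hT.ri.inv (hm s' hs' hos'), ← hkab, ← congrArg (_ * ·) (hT.ri.inv (hm v hv hov)), ← conj_pow,
        hT.ri.inv (hm v hv hov)]))
  generalize (s * s') ^ (orderOf (s * s') / l) = k at hk hkb en
  have hs1 : ((n⁻¹ * v * n : X) : G) ∈ D := by
    simpa using h.ri.conj_mem hv (hX (n⁻¹).2)
  have hb1 := h.ck (k := k) hb hs1 (by rw [Subgroup.orderOf_coe, hk]; exact hss.2.of_dvd_nat hl2)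
    (fun e => hlp.ne_one (by rw [← hk, show k = 1 from Subtype.ext e, orderOf_one]))
    (Subgroup.mem_centralizer_singleton_iff.1 hkb).symm (congrArg Subtype.val en)
  have hs2 : QuotientGroup.mk' (pCore 2 X) (n⁻¹ * v * n) = QuotientGroup.mk' (pCore 2 X) v := by
    rw [map_mul, map_mul, map_inv,
      show QuotientGroup.mk' (pCore 2 X) n = 1 from (QuotientGroup.eq_one_iff _).2 hn]
    simp
  generalize n⁻¹ * v * n = u at hs1 hb1 hs2
  have hov' := (h.od_mk hv hov).symm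
  have hqv : ((q * v * q : X) : G) ∈ D := h.ri.conj _ hv _ hq
  obtain ⟨w, hw, hwX, how, ew⟩ := h.ri.exists_mid_mem (K := X) hs1 hqv (h.od_of hs1 hqv fun e => by
    refine hT.ri.od_not_comm (hm v hv hov) (hT.ri.conj _ (hm v hv hov) _ hT.hx)
      (hT.ri.od_conj_self (hm v hv hov) hT.hx hov') ?_
    have := congrArg (QuotientGroup.mk' (pCore 2 X)) (show u * (q * v * q) = q * v * q * u from
      Subtype.ext e)
    simpa only [map_mul, hs2] using this) u.2 (q * v * q).2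
  have hwq : w * q = q * w := by_contra fun e => h.mk_ne (p := ⟨w, hwX⟩) hq (h.od_of hw hq e)
    (hT.ri.mid_uniq (hm v hv hov) (hs2 ▸ h.od_mk (q := ⟨w, hwX⟩) hw how) hov' (by
      have := congrArg (QuotientGroup.mk' (pCore 2 X)) (show ⟨w, hwX⟩ * u * ⟨w, hwX⟩ = q * v * q from
        Subtype.ext ew)
      simpa only [map_mul, hs2] using this))
  have c1 : Commute (q * w * b * (q * w)⁻¹) (q : G) := by
    have := (show Commute b q from h1.symm).conj (q * w)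
    rwa [(Commute.mul_left (Commute.refl (q : G)) hwq).eq, mul_inv_cancel_right] at this
  have c2 : Commute (q * w * b * (q * w)⁻¹) (v : G) := by
    have := (show Commute b u from hb1).conj (q * w)
    have e : q * w * u * (q * w)⁻¹ = v := by
      rw [mul_inv_rev, h.ri.inv hw, h.ri.inv hq, mul_assoc (q : G), mul_assoc (q : G), ← mul_assoc _ w, ew]
      simp only [Subgroup.coe_mul, mul_assoc, h.ri.sq _ hq, mul_one, h.ri.mm hq]
    rwa [e] at this
  exact ⟨_, h.ri.conj_mem hb (Subgroup.mul_mem _ (Subgroup.subset_closure hq)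
    (Subgroup.subset_closure hw)), c1, ev ▸ (c2.mul_right c1).mul_right c2⟩

theorem step (hA : AschStmt.{u}) {c' : G} (hl : ProdAdj D c c') (ha : a ∈ D) (hb : b ∈ D) (hd : d ∈ D)
    (h1 : b * a = a * b) (h2 : b * c = c * b) (h3 : c * d = d * c) :
    ∃ e ∈ D, e * a = a * e ∧ e * d = d * e := by
  by_cases e1 : c * a = a * c
  · exact ⟨c, hl.1, e1, h3⟩
  by_cases e2 : d * a = a * d
  · exact ⟨d, hd, e2, rfl⟩
  exact h.step' (X := Subgroup.closure ({c, c', d} ∪ {a})) (p := ⟨c, Subgroup.subset_closure (by simp)⟩)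
    (p' := ⟨c', Subgroup.subset_closure (by simp)⟩) (r := ⟨d, Subgroup.subset_closure (by simp)⟩)
    (q := ⟨a, Subgroup.subset_closure (by simp)⟩) hA rfl hl ha (h.od_of hl.1 ha e1) hd h3
    (h.od_of hd ha e2) hb h1.symm h2.symm

theorem diam (hA : AschStmt.{u}) (hcl : Cl D) (hl : ProdAdj D x y) (hc : IsConnectedSet (CommAdj D) D)
    (ha : a ∈ D) (hd : d ∈ D) : ∃ e ∈ D, e * a = a * e ∧ e * d = d * e := by
  have hp := hc a ha d hd
  induction hp with
  | refl => exact ⟨a, ha, rfl, rfl⟩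
  | tail _ h2 ih =>
    obtain ⟨e, he, h3, h4⟩ := ih h2.1
    obtain ⟨c', hl'⟩ := h.ri.exists_ln hcl hl h2.1
    exact h.step hA hl' ha he hd h3 h4 h2.2.2.2

end NF

end CfsgLib.RootInv
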