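import Cfsg.Agent.Lib.RootInv.RTDefs

/-! Root involution theorem, A1: the square of the product depends only on the points. -/

set_option autoImplicit false

namespace CfsgLib.RootInv

open Cfsg

universe u

variable {G : Type u} [Group G] {D : Set G} {a b c d e f g k m p q r s t u v w x y z : G}

namespace ND

variable [Finite G] (h : ND D)
include h

theorem l5 (hl : ProdAdj D y v) (hd : d ∈ D) (f1 : Fo d y) (f2 : Fo v (cm d y)) : Od d v := by
  have hy := hl.1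
  have hv := hl.2.1
  have la := h.ri.fo_ln' hd hy f1
  have ha := la.2.1
  have hz := ((h.nb_conj hl la).resolve_left (h.ri.fo_not_comm hv ha f2)).2
  have hzD := h.ri.fo_mem hv ha f2
  by_contra ho
  have f3 := h.ri.fo_of hd hv (fun c => h.ri.fo_not_comm hv ha f2 (cm_commute (Commute.symm c) (lnc hl).symm)) ho
  have f4 : Fo d (cm v (cm d y)) := h.sm_fo' ⟨hy, hzD, hz.symm⟩ hd f1
  have hdy := h.ri.conj_eq' hd hy f1
  have hva := h.ri.conj_eq' hv ha f2
  have cda : Commute (cm d y) d := h.ri.cm_comm hd hy f1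
  have cza : Commute (cm v (cm d y)) (cm d y) := h.ri.cm_comm' hv ha f2
  have cdc : Commute (cm d v) d := h.ri.cm_comm hd hv f3
  have lc := h.ri.fo_ln hd hv f3
  have lda := h.ri.fo_ln hd hy f1
  have hcs := h.ri.cm_symm hd hv f3
  generalize cm d y = a at *
  generalize hzz : cm v a = z at *
  have e1 : cm d v * y * cm d v = y * (d * z * d) := by
    calc cm d v * y * cm d v = d * (v * (d * (v * y * v) * d) * v) * d := by
          nth_rewrite 2 [← hcs]; simp only [cm, mul_assoc]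
      _ = d * (y * (a * z)) * d := by
          rw [h.ri.cj_of hv (lnc hl).symm, hdy, h.ri.cj hv, h.ri.cj_of hv (lnc hl).symm, hva]
      _ = y * (d * z * d) := by
          rw [h.ri.cj hd, h.ri.cj hd, hdy, h.ri.cj_of hd cda.symm, ← mul_assoc, h.ri.mm' ha]
  have e2 : cm d v * (y * a) * cm d v = y * a * z := by
    calc cm d v * (y * a) * cm d v = d * (cm d v * y * cm d v) * d := by
          rw [← hdy, h.ri.cj hd, h.ri.cj hd, h.ri.cj_of hd cdc.symm]
      _ = y * a * z := by rw [e1, h.ri.cj hd, hdy, h.ri.cj_cj hd]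
  have e3 : cm (cm d v) a = cm d z := by
    rw [h.ri.cj lc.2.1, e1, mul_assoc, mul_assoc y a, mul_left_cancel_iff] at e2
    have e4 : cm d v * a * cm d v = d * z * d * (a * z) := by
      rw [← e2, h.ri.mm (h.ri.conj z hzD d hd)]
    rw [cm, e4, ← cza.eq, cm, ← mul_assoc, h.ri.mm' ha]
  rcases h.nb_conj lc lda with c | c
  · exact h.ri.ne _ (h.ri.fo_mem hd hzD f4) (e3 ▸ h.ri.cm_eq_one lc.2.1 ha c)
  · exact h.ao_cm_ne hd hzD f4 (e3 ▸ c.2)

theorem k2a (e1 : Sm D d e) (f1 : Fo d y) (hl : ProdAdj D y v) (c2 : Commute v (cm e y)) :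
    Commute v (cm d y) := by
  have hy := hl.1
  have f2 := h.sm_fo e1 hy f1
  refine (h.nb_conj hl (h.ri.fo_ln' e1.1 hy f1)).resolve_right fun c => ?_
  have := h.ri.l2 (h.ri.ln_symm hl) e1.2.1 (e1.od hl.2.1 (h.l5 hl e1.1 f1 c.1)).symm f2.symm
  rw [h.ri.cm_symm e1.2.1 hy f2] at this
  exact h.ri.fo_not_comm hl.2.1 (h.ri.fo_mem e1.2.1 hy f2) this c2

theorem k2 (e1 : Sm D d e) (hy : y ∈ D) (f1 : Fo d y) (hv : v ∈ D) (c1 : Commute v y) (c2 : Commute v (cm e y)) :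
    Commute v (cm d y) := by
  have f2 := h.sm_fo e1 hy f1
  have la := h.ri.fo_ln' e1.1 hy f1
  have la' := h.ri.fo_ln' e1.2.1 hy f2
  by_contra hn
  have f3 := h.ri.fo_of hv la.2.1 hn fun o => h.ri.not_od (h.ri.ln_symm la) hv c1.symm o.symm
  obtain ⟨w, hw, f4, e4⟩ := h.exists_cm' hv la.2.1 f3
  have hk := h.ri.fo_mem hv la.2.1 f3
  have e5 := h.ri.cm_symm hv la.2.1 f3
  have h3 := h.ri.l3 la.2.1 hv hw f3.symm (e5 ▸ f4.symm) (by rw [e5, h.ri.cm_symm hw hk f4, e4])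
  have o1 : Od (cm d y) w := od_three (h.ri.sq w hw) h3
  have lw : ProdAdj D w v := e4 ▸ h.ri.fo_ln hw hk f4
  have f5 : Fo y w := (h.ri.l0' (h.ri.ln_symm la) hw o1).resolve_left fun o => h.ri.not_od lw hy c1 o.symm
  have f6 := h.ri.l2 (h.ri.ln_symm la) hw o1 f5
  have lb := h.ri.fo_ln hy hw f5
  have f7 := ((h.nb_conj lb la').resolve_left fun c =>
    h.ri.fo_not_comm la.2.1 lb.2.1 f6 (h.k2a e1 f1 lb c).symm).1
  exact h.ri.not_od lw la'.2.1 c2 (h.l5 la' hw f5.symm (h.ri.cm_symm hy hw f5 ▸ f7.symm))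

/-- A neighbour of `r` normalizes the common centralizer of `r` and another neighbour. -/
theorem nrm (h1 : ProdAdj D r p) (h2 : ProdAdj D r v) (hk : k ∈ D) (c1 : Commute k p) (c2 : Commute k r) :
    Commute (v * k * v) p := by
  have hv := h2.2.1
  have : Commute k (v * p * v) := by
    rcases h.nb_conj h1 h2 with c | c
    · rwa [h.ri.cj_of hv c.symm]
    · rw [h.ri.conj_eq h1.2.1]
      exact c1.mul_right (h.sm_comm ⟨h1.1, h.ri.fo_mem h1.2.1 hv c.1, c.2.symm⟩ hk c2)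
  simpa only [h.ri.cj_cj hv] using h.ri.cj_commute hv this

theorem claim1 (e1 : Sm D d e) (hy : y ∈ D) (f1 : Fo d y) : Sm D (cm d y) (cm e y) := by
  have hd := e1.1
  have he := e1.2.1
  have f2 := h.sm_fo e1 hy f1
  have la := h.ri.fo_ln' hd hy f1
  have la' := h.ri.fo_ln' he hy f2
  have lda := h.ri.fo_ln hd hy f1
  have lea := h.ri.fo_ln he hy f2
  have hdy := h.ri.conj_eq (b := y) hd
  have hey := h.ri.conj_eq (b := y) he
  have hK : ∀ {y'}, y' ∈ D → Fo d y' → cm d y' = cm d y → cm e y' = cm e y → ∀ v ∈ D, Commute v y' →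
      Commute v (cm e y) → Commute v (cm d y) := fun hy' f e2 e3 v hv c1 c2 => e2 ▸ h.k2 e1 hy' f hv c1 (e3 ▸ c2)
  have hK0 := hK hy f1 rfl rfl
  have hKa := fun v (hl : ProdAdj D y v) => h.k2a e1 f1 hl
  have hsm := h.sm_cj e1 (h.ri.sq y hy)
  have hcd : ∀ {g}, Commute g d → Commute g e → Commute g (cm d y) → Commute g (cm e y) →
      cm d (g * y * g⁻¹) = cm d y ∧ cm e (g * y * g⁻¹) = cm e y := fun {g} c1 c2 c3 c4 => by
    have h1 := cm_conj g d y
    have h2 := cm_conj g e y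
    rw [c1.eq, c3.eq, mul_inv_cancel_right, mul_inv_cancel_right] at h1
    rw [c2.eq, c4.eq, mul_inv_cancel_right, mul_inv_cancel_right] at h2
    exact ⟨h1, h2⟩
  obtain ⟨z, hz, fz, ez⟩ := h.exists_cm' he hy f2
  have z3 := h.ri.l3 hy he hz f2.symm (h.ri.cm_symm he hy f2 ▸ fz.symm)
    (by rw [h.ri.cm_symm he hy f2, h.ri.cm_symm hz la'.2.1 fz, ez])
  rw [hdy, hey] at hsm
  generalize cm d y = a at *
  generalize cm e y = a' at *
  have ha := la.2.1
  have ha' := la'.2.1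
  refine ⟨ha, ha', h.ri.ao_eq_of_subset h.cl ha ha' fun w hw => ⟨hw.1, ?_⟩⟩
  obtain ⟨hw, ow⟩ := hw
  by_contra now
  -- the set `K`
  have K1 : ∀ k ∈ D, Commute k d → Commute k a → Commute k e ∧ Commute k a' := fun k hk c1 c2 => by
    have c3 := h.sm_comm e1 hk c1
    have c4 := c3.mul_right (h.sm_comm hsm hk (c1.mul_right c2))
    exact ⟨c3, by rwa [h.ri.mm he] at c4⟩
  have K2 : ∀ k ∈ D, Commute k e → Commute k a' → Commute k d ∧ Commute k a := fun k hk c1 c2 => by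
    have c3 := h.sm_comm e1.symm hk c1
    have c4 := c3.mul_right (h.sm_comm hsm.symm hk (c1.mul_right c2))
    exact ⟨c3, by rwa [h.ri.mm hd] at c4⟩
  obtain ⟨S, hS⟩ : ∃ S : G → Prop, ∀ s, S s ↔ ∀ k ∈ D, Commute k d → Commute k a → Commute k s := ⟨_, fun _ => Iff.rfl⟩
  have Sd : S d := (hS d).2 fun _ _ c _ => c
  have Sa : S a := (hS a).2 fun _ _ _ c => c
  have Se : S e := (hS e).2 fun k hk c1 c2 => (K1 k hk c1 c2).1
  have Sa' : S a' := (hS a').2 fun k hk c1 c2 => (K1 k hk c1 c2).2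
  have Ssm : ∀ {s t}, S s → Sm D s t → S t := fun hs e2 => (hS _).2 fun k hk c1 c2 => h.sm_comm e2 hk ((hS _).1 hs k hk c1 c2)
  have Sc : ∀ {s t}, s ∈ D → S s → S t → Commute s t := fun hs h1 h2 =>
    (hS _).1 h2 _ hs ((hS _).1 h1 d hd rfl (lnc lda)).symm ((hS _).1 h1 a ha (lnc lda).symm rfl).symm
  have Smul : ∀ {s t}, S s → S t → S (s * t) := fun h1 h2 => (hS _).2 fun k hk c1 c2 =>
    ((hS _).1 h1 k hk c1 c2).mul_right ((hS _).1 h2 k hk c1 c2)
  have Scj : ∀ {v s}, v ∈ D → (∀ k ∈ D, Commute k d → Commute k a → Commute (v * k * v) d ∧ Commute (v * k * v) a) →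
      S s → S (v * s * v) := fun {v s} hv hn hs => (hS _).2 fun k hk c1 c2 => by
    simpa only [h.ri.cj_cj hv] using h.ri.cj_commute hv
      ((hS _).1 hs _ (h.ri.conj k hk v hv) (hn k hk c1 c2).1 (hn k hk c1 c2).2)
  have Sn : ∀ {v s}, ProdAdj D a v → S s → S (v * s * v) := fun {v s} hl => Scj hl.2.1 fun k hk c1 c2 =>
    ⟨h.nrm (h.ri.ln_symm lda) hl hk c1 c2, by
      simpa only [h.ri.cj_of hl.2.1 (lnc hl).symm] using h.ri.cj_commute hl.2.1 c2⟩
  have Sn' : ∀ {v s}, ProdAdj D a' v → S s → S (v * s * v) := fun {v s} hl => Scj hl.2.1 fun k hk c1 c2 =>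
    K2 _ (h.ri.conj k hk v hl.2.1) (h.nrm (h.ri.ln_symm lea) hl hk (K1 k hk c1 c2).1 (K1 k hk c1 c2).2) (by
      simpa only [h.ri.cj_of hl.2.1 (lnc hl).symm] using h.ri.cj_commute hl.2.1 (K1 k hk c1 c2).2)
  have caa : Commute a a' := Sc ha Sa Sa'
  -- the element `b`
  have fw : Fo a' w := h.ri.fo_of ha' hw (fun c => by
    have f5 : Fo y w := (h.ri.l0' (h.ri.ln_symm la) hw ow).resolve_left (h.ri.not_od la' hw c)
    have lb := h.ri.fo_ln hy hw f5
    exact h.ri.fo_not_comm ha lb.2.1 (h.ri.l2 (h.ri.ln_symm la) hw ow f5)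
      (hKa _ lb (cm_commute (lnc la').symm c).symm).symm) now
  have lb := h.ri.fo_ln ha' hw fw
  have lwb := h.ri.fo_ln' ha' hw fw
  generalize cm a' w = b at *
  have hb := lb.2.1
  have nab : ¬ Commute b a := h.ri.l0 lwb ha ow.symm
  have fab : Fo a b := h.ri.fo_of ha hb (fun c => nab (Commute.symm c)) fun o =>
    h.ri.not_od (h.ri.ln_symm lb) ha caa.symm o.symm
  have fyb := (h.nb_conj (h.ri.ln_symm la') lb).resolve_left fun c =>
    nab (hK0 b hb c.symm (lnc lb).symm)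
  have h3D := h.ri.fo_mem hy hb fyb.1
  have s3 : Sm D a' (cm y b) := ⟨ha', h3D, fyb.2.symm⟩
  have S3 := Ssm Sa' s3
  have hyb := h.ri.conj_eq (b := b) hy
  have hab := h.ri.conj_eq (b := b) ha
  have Sbd := Sn' lb Sd
  have hbd := h.ri.conj d hd b hb
  have e6 : y * (b * d * b) * y = b * d * b * (a * cm a b) := by
    have e7 : b * (y * d * y) * b = b * d * b * (a * cm a b) := by rw [hdy, h.ri.cj hb, hab]
    rw [h.ri.cj hb, h.ri.cj hb, hyb] at e7
    rw [← e7]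
    nth_rewrite 2 [(lnc (h.ri.fo_ln hy hb fyb.1)).eq]
    rw [← h.ri.cj_of h3D (Sc h3D S3 Sbd)]
    nth_rewrite 2 [h.ri.cj_of h3D (Sc h3D S3 Sbd)]
    simp only [mul_assoc]
  have h1D := h.ri.fo_mem ha hb fab
  have fdb : Fo d b := h.ri.fo_of hd hb (fun c => by
    rw [h.ri.cj_of hb (Commute.symm c), hdy, mul_left_cancel_iff, left_eq_mul] at e6
    exact h.ri.ne _ h1D e6) fun o => h.ri.not_od lea hb (lnc lb) (e1.od hb o)
  have hd1 := h.ri.fo_mem hd hb fdb
  have e8 : cm (cm d b) y = cm a b := by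
    have e9 : cm d b = d * (b * d * b) := by simp only [cm, mul_assoc]
    have e10 : y * cm d b * y = cm d b * cm a b := by
      rw [e9, h.ri.cj hy, hdy, e6, mul_assoc, ← mul_assoc a, (Sc ha Sa Sbd).eq, mul_assoc _ a, h.ri.mm ha, mul_assoc d]
    rw [cm, mul_assoc, mul_assoc, ← mul_assoc y, e10, h.ri.mm hd1]
  have fd1 : Fo (cm d b) y := h.ri.fo_of_cm hd1 hy (e8 ▸ h.ri.ne _ h1D) (e8 ▸ h.ri.sq _ h1D)
  have s1 : Sm D (cm a b) (cm y b) := ⟨h1D, h3D, h.ao_eq_of_common fyb.1 (e8 ▸ h.ri.fo_ln' hd1 hy fd1)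
    (h.ri.fo_ln' ha hb fab)⟩
  obtain ⟨u, hu, fu, eu⟩ := h.exists_cm' ha hb fab
  have u3 := h.ri.l3 hb ha hu fab.symm (h.ri.cm_symm ha hb fab ▸ fu.symm)
    (by rw [h.ri.cm_symm ha hb fab, h.ri.cm_symm hu h1D fu, eu])
  have lau : ProdAdj D a u := h.ri.ln_symm (eu ▸ h.ri.fo_ln hu h1D fu)
  have fu3 : Fo (cm y b) u := h.sm_fo s1 hu fu.symm
  have fz3 : Fo (cm y b) z := h.sm_fo s3 hz fz.symm
  have tz := h.ri.tb hz z3 (h.ri.fo_ln hy hb fyb.1) fz3
  have tu := h.ri.tb hu u3 (h.ri.fo_ln' hy hb fyb.1) fu3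
  have hf := h.ri.fo_mem h3D hz fz3
  have hq := h.ri.fo_mem h3D hu fu3
  have Sf : S (cm (cm y b) z) := (hS _).2 fun k hk c1 c2 => by
    have c3 := K1 k hk c1 c2
    have c4 := h.sm_comm s3 hk c3.2
    have s4 := h.sm_cj s3 (h.ri.sq z hz)
    rw [h.ri.conj_eq ha', h.ri.conj_eq h3D, h.ri.cm_symm hz ha' fz, ez] at s4
    have c5 := c4.mul_right (h.sm_comm s4 hk (c3.2.mul_right c3.1))
    rwa [h.ri.mm h3D] at c5
  have hqb := h.ri.conj_eq (b := b) hq
  have hfy := h.ri.conj_eq' hf hy tz.1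
  have h3u := h.ri.conj_eq (b := u) h3D
  rw [tu.2] at hqb
  rw [tz.2] at hfy
  have Sq : S (cm (cm y b) u) := by
    have := Smul S3 (Sn lau S3)
    rwa [h3u, h.ri.mm h3D] at this
  have c3b : Commute (cm y b) b := h.ri.cm_comm' hy hb fyb.1
  generalize cm y b = c at *
  generalize cm c z = f at *
  generalize cm c u = q at *
  have Suf := Sn lau Sf
  have huf := h.ri.conj f hf u hu
  have e11 : u * f * u * y * (u * f * u) = y * (c * q) := by
    have e12 : u * (f * y * f) * u = u * y * u * (c * q) := by rw [hfy, h.ri.cj hu, h3u]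
    rw [h.ri.cj hu, h.ri.cj hu] at e12
    rcases h.nb_conj (h.ri.ln_symm la) lau with c' | c'
    · rwa [h.ri.cj_of hu c'.symm] at e12
    · have hm := h.ri.fo_mem hy hu c'.1
      have Sm' := Ssm Sa ⟨ha, hm, c'.2.symm⟩
      rw [h.ri.conj_eq hy, h.ri.cj huf, h.ri.cj_of huf (Sc huf Suf Sm'), mul_assoc y, (Sc hm Sm' (Smul S3 Sq)).eq,
        ← mul_assoc y, mul_right_cancel_iff] at e12
      exact e12
  have e13 : f * (u * f * u) * y * (f * (u * f * u))⁻¹ = y * q := by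
    rw [mul_inv_rev, h.ri.inv hf, h.ri.inv huf, ← mul_assoc, mul_assoc f, mul_assoc f, e11, h.ri.cj hf, hfy,
      h.ri.cj_of hf (Sc hf Sf (Smul S3 Sq)), mul_assoc, h.ri.mm h3D]
  have Sg := Smul Sf Suf
  have cg : ∀ {s}, s ∈ D → S s → Commute (f * (u * f * u)) s := fun hs h1 => (Sc hs h1 Sg).symm
  have e14 := hcd (cg hd Sd) (cg he Se) (cg ha Sa) (cg ha' Sa')
  have f15 := (fo_conj (f * (u * f * u))).2 f1
  have hyq := h.conj hy (f * (u * f * u))
  rw [(cg hd Sd).eq, mul_inv_cancel_right] at f15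
  rw [e13] at e14 f15 hyq
  refine nab (hK hyq f15 e14.1 e14.2 b hb (h.ri.commute_of_cj hb ?_) (lnc lb).symm)
  rw [h.ri.cj hb, hyb, hqb, mul_assoc, ← mul_assoc c, (Sc h3D S3 Sq).eq, h.ri.mm' h3D]

end ND

end CfsgLib.RootInv
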