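import Cfsg.Agent.Lib.RootInv.RTA1

/-! Root involution theorem, A2: collinear points. -/

set_option autoImplicit false

namespace CfsgLib.RootInv

open Cfsg

universe u

variable {G : Type u} [Group G] {D : Set G} {a b c d e f g k m p q r s t u v w x y z : G}

namespace ND

variable [Finite G] (h : ND D)
include h

theorem sm_cm (e1 : Sm D a c) (e2 : Sm D b d) (hf : Fo a b) : Sm D (cm a b) (cm c d) := by
  have f1 := h.sm_fo e1 e2.1 hf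
  have k := h.claim1 e2 e1.2.1 f1.symm
  rw [h.ri.cm_symm e1.2.1 e2.1 f1, h.ri.cm_symm e1.2.1 e2.2.1 (h.sm_fo' e2 e1.2.1 f1)] at k
  exact (h.claim1 e1 e2.1 hf).trans k

theorem cn_exists (hc : Cn D a b) : ∃ u ∈ D, Fo a u ∧ Sm D (cm a u) b := by
  obtain ⟨c, l, e⟩ := hc.2
  obtain ⟨u, hu, f, k⟩ := h.ri.exists_cm h.cl l fun e1 => hc.1 (Sm.trans ⟨l.1, l.2.1, e1⟩ e)
  exact ⟨u, hu, f.symm, by rwa [h.ri.cm_symm hu l.1 f, k]⟩

theorem cn_left (hc : Cn D a b) (e : Sm D a c) : Cn D c b := by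
  obtain ⟨u, hu, f, k⟩ := h.cn_exists hc
  have f1 := h.sm_fo e hu f
  exact ⟨fun e1 => hc.1 (e.trans e1), _, h.ri.fo_ln e.2.1 hu f1, (h.claim1 e.symm hu f1).trans k⟩

theorem cn_symm (hc : Cn D a b) : Cn D b a := by
  obtain ⟨c, l, e⟩ := hc.2
  exact h.cn_left (cn_of_adj (h.ri.ln_symm l) fun e1 => hc.1 (e1.symm.trans e)) e

theorem cn_nb (h1 : Cn D d a) (h2 : Cn D d b) : Commute a b ∨ (Fo a b ∧ Sm D (cm a b) d) := by
  obtain ⟨a', l1, e1⟩ := h1.2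
  obtain ⟨b', l2, e2⟩ := h2.2
  refine (h.nb_conj l1 l2).imp (fun c => h.sm_comm e2 e1.2.1 (h.sm_comm' e1 e2.1 c)) fun ⟨f, k⟩ => ?_
  exact ⟨h.sm_fo' e2 e1.2.1 (h.sm_fo e1 e2.1 f), (h.sm_cm e1 e2 f).symm.trans ⟨h.ri.fo_mem e1.1 e2.1 f, l1.1, k⟩⟩

theorem cn_common (hf : Fo a b) (h1 : Cn D d a) (h2 : Cn D d b) : Sm D (cm a b) d := by
  exact ((h.cn_nb h1 h2).resolve_left (h.ri.fo_not_comm h1.mem' h2.mem' hf)).2

theorem cn_not_od (hc : Cn D a d) (hb : b ∈ D) (e : Commute d b) : ¬ Od a b := by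
  obtain ⟨d', l, e1⟩ := hc.2
  exact h.ri.not_od l hb (h.sm_comm' e1.symm hb e)

theorem cn_l0 (hc : Cn D a b) (hx : x ∈ D) (ho : Od a x) : ¬ Commute b x := by
  exact fun e => h.cn_not_od hc hx e ho

theorem cn_l2 (hc : Cn D a b) (hx : x ∈ D) (ho : Od a x) (hf : Fo b x) : Fo a (cm b x) := by
  obtain ⟨b', l, e⟩ := hc.2
  have f1 := h.sm_fo e.symm hx hf
  exact h.sm_fo' (h.claim1 e hx f1) l.1 (h.ri.l2 l hx ho f1)

theorem cn_l5 (hc : Cn D b w) (hu : u ∈ D) (f1 : Fo u b) (f2 : Fo w (cm u b)) : Od u w := by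
  obtain ⟨w', l, e⟩ := hc.2
  exact e.od' hu (h.l5 l hu f1 (h.sm_fo e.symm (h.ri.fo_mem hu l.1 f1) f2))

theorem exists_fo_cn (hc : Cn D d a) : ∃ b, Cn D d b ∧ Fo a b := by
  obtain ⟨a', l, e⟩ := hc.2
  obtain ⟨u, hu, f, k⟩ := h.ri.exists_cm h.cl (h.ri.ln_symm l) fun e1 => hc.1 (Sm.trans ⟨l.1, l.2.1, e1.symm⟩ e)
  exact ⟨u, h.cn_symm (k ▸ h.cn_cm hu e.1 f), h.sm_fo e hu f.symm⟩

theorem exists_cn (hd : d ∈ D) : ∃ a, Cn D d a := by
  obtain ⟨x, hx, f⟩ := h.exists_fo hd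
  exact ⟨_, h.cn_cm hd hx f⟩

theorem pa_od (hp : Pa D a b c d) : Od a d := by
  exact h.cn_l5 hp.c3 hp.c1.mem hp.f1
    (h.sm_fo' (h.cn_common hp.f1 (h.cn_symm hp.c1) hp.c2).symm hp.c3.mem' hp.f2.symm)

theorem pa_rev (hp : Pa D a b c d) : Pa D d c b a := by
  exact ⟨h.cn_symm hp.c3, h.cn_symm hp.c2, h.cn_symm hp.c1, hp.f2.symm, hp.f1.symm⟩

theorem pa_congr {a' b' c' d' : G} (hp : Pa D a b c d) (e1 : Sm D a a') (e2 : Sm D b b') (e3 : Sm D c c')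
    (e4 : Sm D d d') : Pa D a' b' c' d' := by
  exact ⟨(h.cn_left hp.c1 e1).of_right e2, (h.cn_left hp.c2 e2).of_right e3, (h.cn_left hp.c3 e3).of_right e4,
    h.sm_fo' e3 e1.2.1 (h.sm_fo e1 e3.1 hp.f1), h.sm_fo' e4 e2.2.1 (h.sm_fo e2 e4.1 hp.f2)⟩

theorem pa_of_od (hc : Cn D a b) (hx : x ∈ D) (ho : Od a x) (hf : Fo b x) : Pa D a b (cm b x) x := by
  exact ⟨hc, h.cn_cm hc.mem' hx hf, h.cn_symm (h.cn_cm' hc.mem' hx hf), h.cn_l2 hc hx ho hf, hf⟩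

theorem pa_ext (h1 : Cn D a b) (h2 : Cn D b c) (hf : Fo a c) : ∃ d, Pa D a b c d := by
  obtain ⟨d, c, f⟩ := h.exists_fo_cn (h.cn_symm h2)
  exact ⟨d, h1, h2, c, hf, f⟩

/-- A product in `D` of two members near `d` is near `d`. -/
theorem lf (h1 : Sm D a d ∨ Cn D d a) (h2 : Sm D b d ∨ Cn D d b) (hab : a * b ∈ D) :
    Sm D (a * b) d ∨ Cn D d (a * b) := by
  have hd : d ∈ D := h1.elim (·.2.1) (·.mem)
  have wd : ∀ {a}, Sm D a d ∨ Cn D d a → a ∈ Wd D d := fun h1 => by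
    rcases h1 with h1 | h1
    · exact ⟨⟨h1.1, h.sm_commute h1⟩, fun x hx ho =>
        h.ri.od_not_comm h1.1 hx.1 ho (h.sm_comm h1.symm hx.1 hx.2).symm⟩
    · exact ⟨⟨h1.mem', (h.cn_comm h1).symm⟩, fun x hx => h.cn_not_od (h.cn_symm h1) hx.1 hx.2.symm⟩
  have ha := wd h1
  have hb := wd h2
  have hp := h.ri.wd_of_mem hab (mul_mem (Subgroup.subset_closure ha) (Subgroup.subset_closure hb))
  refine or_iff_not_imp_left.2 fun hn => ?_
  obtain ⟨x, hx, ho, f⟩ := h.exists_wit hd hp fun e => hn ⟨hab, hd, e⟩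
  have f1 := h.lam_fo hd hp hx ho f (Sm.rfl' hd).ec
  have c := h.cn_cm hd hx f
  generalize cm d x = r at f1 c
  have zc : ∀ {a}, Sm D a d ∨ Cn D d a → cm r a ∈ Zc D d := fun {a} h1 => by
    have k : Commute r a → cm r a ∈ Zc D d := fun k => by
      rw [h.ri.cm_eq_one c.mem' (Wd.mem (wd h1)) k]; exact one_mem _
    rcases h1 with h1 | h1
    · exact k (h.sm_comm h1.symm c.mem' (h.cn_comm c).symm)
    · exact (h.cn_nb c h1).elim k fun k => h.zc_of_sm k.2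
  have e : cm r (a * b) = cm r a * cm r b := by
    rw [← h.ri.cj_of (Wd.mem ha) (mem_zc.1 (zc h2) a (Wd.mem ha) (Wd.cmm ha))]
    simp only [cm, mul_assoc, h.ri.mm (Wd.mem ha), h.ri.mm c.mem',
      (h.ri.commute_of_mem (Wd.mem ha) (Wd.mem hb) (h.ri.sq _ hab)).symm.eq]
  exact h.cn_symm ⟨hn, _, h.ri.fo_ln' c.mem' hab f1,
    h.sm_of_zc hd (h.ri.fo_mem c.mem' hab f1) (e ▸ mul_mem (zc h1) (zc h2))⟩

/-- An element of `⟨y, C_D(d)⟩` carrying `d` to `cm d y`. -/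
theorem exists_swap (hd : d ∈ D) (hy : y ∈ D) (hf : Fo d y) :
    ∃ z ∈ D, Commute z d ∧ z * y * z * d * (z * y * z)⁻¹ = cm d y := by
  obtain ⟨z, hz, f, e⟩ := h.exists_cm' hd hy hf
  have ha := h.ri.fo_mem hd hy hf
  have c : Commute z d := e ▸ (h.ri.cm_comm hz ha f).symm
  refine ⟨z, hz, c, ?_⟩
  have e1 := h.ri.conj_eq (b := z) ha
  rw [h.ri.cm_symm hz ha f, e] at e1
  calc _ = z * (y * (z * d * z) * y) * z := by
        rw [h.ri.inv (h.ri.conj y hy z hz)]; simp only [mul_assoc]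
    _ = d * (z * cm d y * z) := by rw [h.ri.cj_of hz c, h.ri.conj_eq hd, ← mul_assoc, c.eq]; simp only [mul_assoc]
    _ = _ := by rw [e1, h.ri.cm_comm hd hy hf, h.ri.mm hd]

theorem ci (hd : d ∈ D) (hy : y ∈ D) (hf : Fo d y) (ht : t ∈ Zc D d) (hc : Commute y t) : t ∈ Zc D (cm d y) := by
  obtain ⟨z, hz, c, e⟩ := h.exists_swap hd hy hf
  have k := mem_zc.1 ht z hz c
  have := h.zc_conj ht (z * y * z)
  rwa [e, ((k.mul_left hc).mul_left k).eq, mul_inv_cancel_right] at this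

theorem ci_tt (hd : d ∈ Tt D t) (hy : y ∈ D) (hf : Fo d y) (hc : Commute y t) : cm d y ∈ Tt D t := by
  obtain ⟨z, hz, c, e⟩ := h.exists_swap hd.2.1 hy hf
  have k := h.tt_comm hd hz c
  have := h.tt_conj hd (z * y * z)
  rwa [e, ((k.mul_left hc).mul_left k).eq, mul_inv_cancel_right] at this

end ND

end CfsgLib.RootInv
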