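import Cfsg.Agent.Lib.RootInv.RTA2

/-! Root involution theorem, A3: the points of a line. -/

set_option autoImplicit false

namespace CfsgLib.RootInv

open Cfsg

universe u

variable {G : Type u} [Group G] {D : Set G} {a b c d e f g k m p q r s t u v w x y z : G}

namespace ND

variable [Finite G] (h : ND D)
include h

omit [Finite G] h in
theorem pts_symm (d a : G) : Pts D d a = Pts D a d := by
  have k : ∀ d a : G, Pts D d a ⊆ Pts D a d := by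
    rintro d a _ ⟨d', a', e1, e2, ⟨l1, l2, l3, l4, l5⟩, rfl⟩
    exact ⟨a', d', e2, e1, ⟨l2, l1, l3.symm, l4.symm, l4 ▸ l5⟩, by rw [l4]⟩
  exact (k d a).antisymm (k a d)

theorem pts_rep (hc : Cn D d a) {P : Set G} (hP : P ∈ Pts D d a) (e1 : Sm D c a) :
    ∃ e, Sm D e d ∧ ProdAdj D c e ∧ P = Ao D (c * e) := by
  obtain ⟨d', a', s1, s2, l, rfl⟩ := hP
  obtain ⟨u, hu, f, k⟩ := h.ri.exists_cm h.cl (h.ri.ln_symm l) fun e =>
    hc.1 (s1.symm.trans (Sm.trans ⟨s1.1, s2.1, e.symm⟩ s2))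
  have s3 := e1.trans s2.symm
  have f1 := h.sm_fo' s3.symm hu f
  refine ⟨cm u c, (k ▸ h.sm_cm (Sm.rfl' hu) s3 f1).trans s1, h.ri.fo_ln' hu e1.1 f1, ?_⟩
  have := (h.sm_cj s3 (h.ri.sq u hu)).2.2
  rw [h.ri.conj_eq e1.1, h.ri.conj_eq s2.1, h.ri.cm_symm hu e1.1 f1, h.ri.cm_symm hu s2.1 f, k] at this
  rw [this, l.2.2.2.1]

theorem pts_inj (hd : d ∈ D) (hf : Fo d y) (e1 : Sm D c (cm d y)) (s1 : Sm D u y) (s2 : Sm D v y)
    (l1 : ProdAdj D c u) (l2 : ProdAdj D c v) (e2 : Sm D (u * d * u) (v * d * v)) : Sm D (c * u) (c * v) := by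
  have hy := s1.2.1
  have hu := s1.1
  have hv := s2.1
  obtain ⟨k, hk, f, e⟩ := h.ri.exists_cm h.cl l1 fun e =>
    h.not_sm_cm' hd hy hf (s1.symm.trans (Sm.trans ⟨hu, e1.1, e.symm⟩ e1))
  have ku : Commute k u := e ▸ (h.ri.cm_comm hk e1.1 f).symm
  have kv := h.sm_comm (s1.trans s2.symm) hk ku
  have kc : k * c * k = c * u := by rw [h.ri.conj_eq e1.1, h.ri.cm_symm hk e1.1 f, e]
  have e3 : k * (c * v) * k = c * (u * v) := by rw [h.ri.cj hk, kc, h.ri.cj_of hk kv, mul_assoc]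
  have hp : c * (u * v) ∈ D := e3 ▸ h.ri.conj _ l2.2.2.2.2 k hk
  have cd : Commute c d := (h.sm_comm e1.symm hd (h.ri.cm_comm hd hy hf).symm).symm
  have fx : Fx D (u * v) d := by
    have := (h.sm_cj e2 (h.ri.sq u hu)).symm
    rw [h.ri.cj_cj hu] at this
    rw [Fx, mul_inv_rev, h.ri.inv hu, h.ri.inv hv]
    simpa only [mul_assoc] using this
  have c1 := h.comm_of_fx hp (h.fx_mul (fx_of_comm hd cd) fx)
  have c2 : Commute d (u * v) := by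
    have := (cd.mul_left c1).symm
    rwa [h.ri.mm e1.1] at this
  have z := h.ci hy hd hf.symm (mul_mem (h.zc_of_sm s1) (h.zc_of_sm s2)) c2
  rw [h.ri.cm_symm hd hy hf] at z
  have := h.sm_cj (h.sm_of_zc e1.1 hp (mul_mem (h.zc_of_sm (Sm.rfl' e1.1)) (h.zc_congr e1.symm z))) (h.ri.sq k hk)
  rw [kc, ← e3, h.ri.cj_cj hk] at this
  exact this.symm

theorem f1_key (hd : d ∈ D) (hy : y ∈ D) (hf : Fo d y) (e1 : Sm D c (cm d y)) :
    (Pts D y c).ncard ≤ ((fun u => Ao D (u * d * u)) '' {u | Sm D u y ∧ ProdAdj D c u}).ncard ∧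
      (fun u => Ao D (u * d * u)) '' {u | Sm D u y ∧ ProdAdj D c u} ⊆ Pts D d c := by
  constructor
  · choose! u s l e using fun P (hP : P ∈ Pts D y c) =>
      h.pts_rep ((h.cn_cm' hd hy hf).of_right e1.symm) hP (Sm.rfl' e1.1)
    refine Set.ncard_le_ncard_of_injOn (fun P => Ao D (u P * d * u P)) (fun P hP => ⟨u P, ⟨s P hP, l P hP⟩, rfl⟩)
      fun P hP Q hQ k => ?_
    rw [e P hP, e Q hQ]
    exact (h.pts_inj hd hf e1 (s P hP) (s Q hQ) (l P hP) (l Q hQ)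
      ⟨h.ri.conj d hd _ (s P hP).1, h.ri.conj d hd _ (s Q hQ).1, k⟩).2.2
  · rintro _ ⟨u, ⟨s, -⟩, rfl⟩
    have f := h.sm_fo' s.symm hd hf
    exact ⟨d, cm d u, Sm.rfl' hd, (h.sm_cm (Sm.rfl' hd) s f).trans e1.symm, h.ri.fo_ln hd s.1 f,
      by beta_reduce; rw [h.ri.conj_eq hd]⟩

theorem f1 (hd : d ∈ D) (hy : y ∈ D) (hf : Fo d y) (e1 : Sm D c (cm d y)) {P : Set G} (hP : P ∈ Pts D d c) :
    ∃ u, Sm D u y ∧ ProdAdj D c u ∧ Ao D (u * d * u) = P := by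
  obtain ⟨k1, k2⟩ := h.f1_key hd hy hf e1
  obtain ⟨k3, k4⟩ := h.f1_key hy hd hf.symm (h.ri.cm_symm hd hy hf ▸ e1)
  rw [← Set.eq_of_subset_of_ncard_le k2 (k3.trans ((Set.ncard_le_ncard k4).trans k1))] at hP
  obtain ⟨u, hu, e⟩ := hP
  exact ⟨u, hu.1, hu.2, e⟩

/-- A version of `f1`: the conjugate of `d` under `x` is reached by a member of the point of `y`. -/
theorem f1' (hd : d ∈ D) (hy : y ∈ D) (hf : Fo d y) (hx : x ∈ D) (hf' : Fo d x) (e0 : Sm D (cm d x) (cm d y))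
    (e1 : Sm D c (cm d y)) : ∃ u, Sm D u y ∧ ProdAdj D c u ∧ Sm D (u * d * u) (x * d * x) := by
  obtain ⟨u, s, l, e⟩ := h.f1 hd hy hf e1
    ⟨d, cm d x, Sm.rfl' hd, e0.trans e1.symm, h.ri.fo_ln hd hx hf', rfl⟩
  exact ⟨u, s, l, h.ri.conj d hd u s.1, h.ri.conj d hd x hx, by rw [e, h.ri.conj_eq hd]⟩

theorem three_of (ha : a ∈ D) (hy : y ∈ D) (ho : Od c y) (h1 : Cn D c d) (c1 : Commute y a)
    (e1 : Sm D (c * a * c) (y * d * y)) : orderOf (c * y) = 3 := by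
  have hc := h1.mem
  have hd := h1.mem'
  have cd := h.cn_comm h1
  have hg := h.ri.conj y hy _ (h.ri.conj y hy c hc)
  have c2 := h.ri.sq c hc
  have y2 := h.ri.sq y hy
  have k1 := h.sm_cj (h.sm_cj e1.symm c2) y2
  rw [h.ri.cj_cj hc, h.ri.cj_of hy c1] at k1
  have k2 := h.sm_cj (h.sm_cj ((h.sm_cj k1 c2).trans e1) y2) c2
  rw [h.ri.cj_cj hy, h.ri.cj_of hc cd] at k2
  have fx : Fx D (c * y * c * y * (c * y * c)) d := by
    rw [fx_iff (h.ri.sq _ hg)]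
    conv_lhs => rw [← h.ri.cj_of hc cd]
    simpa only [mul_assoc, h.ri.mm hc] using k2
  have e : c * (c * y * c * y * (c * y * c)) = (y * c) ^ 3 := by
    simp only [pow_succ, pow_zero, one_mul, mul_assoc, h.ri.mm hc]
  have e3 : c = c * y * c * y * (c * y * c) := by
    by_contra hn
    refine h.cn_not_od h1 hg (h.comm_of_fx hg fx).symm ⟨hn, ?_⟩
    rw [e]
    exact ho.symm.2.of_dvd_nat (orderOf_pow_dvd 3)
  rw [← e3, c2] at e
  have : Fact (Nat.Prime 3) := ⟨Nat.prime_three⟩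
  rw [orderOf_mul_swap]
  exact orderOf_eq_prime e.symm (h.ri.od_ne_one hc ho.symm)

theorem t3 (hp : Pa D c d a y) : ∃ u, Sm D u y ∧ orderOf (c * u) = 3 := by
  have hc := hp.c1.mem
  have hd := hp.c2.mem
  have ha := hp.c3.mem
  have hy := hp.c3.mem'
  have s1 := h.cn_common hp.f2 (h.cn_symm hp.c2) hp.c3
  have s2 := h.cn_common hp.f1.symm hp.c2 (h.cn_symm hp.c1)
  obtain ⟨u, s, l, e⟩ := h.f1 hd hy hp.f2 s1.symm (P := Ao D (a * cm a c))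
    (pts_symm a d ▸ ⟨a, cm a c, Sm.rfl' ha, s2, h.ri.fo_ln ha hc hp.f1.symm, rfl⟩)
  exact ⟨u, s, h.three_of ha s.1 (s.symm.od' hc (h.pa_od hp)) hp.c1 (lnc l).symm
    ⟨h.ri.conj a ha c hc, h.ri.conj d hd u s.1, by rw [e, h.ri.conj_eq ha]⟩⟩

end ND

end CfsgLib.RootInv
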