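import Cfsg.Agent.Lib.RootInv.RTA3

/-! Root involution theorem, A4: involutions in the intersection of two root groups. -/

set_option autoImplicit false

namespace CfsgLib.RootInv

open Cfsg

universe u

variable {G : Type u} [Group G] {D : Set G} {a b c d e f g k m p q r s t u v w x y z : G}

namespace ND

variable [Finite G] (h : ND D)
include h

theorem a4_s (he : e ∈ Tt D t) (hy : y ∈ D) (hf : Fo e y) :
    t * y * t * y = cm (t * e) y * cm e y ∧ Sm D (cm (t * e) y) (cm e y) := by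
  have f1 := h.sm_fo (Sm.symm he) hy hf
  refine ⟨?_, h.claim1 he hy f1⟩
  have c : Commute (cm (t * e) y) e := h.sm_comm he (h.ri.fo_mem he.1 hy f1) (h.ri.cm_comm he.1 hy f1)
  have e1 : y * t * y = t * (cm (t * e) y * cm e y) := by
    conv_lhs => rw [h.tt_eq he, h.ri.cj hy, h.ri.conj_eq he.1, h.ri.conj_eq he.2.1, mul_assoc, c.left_comm,
      ← mul_assoc, ← h.tt_eq he]
  rw [mul_assoc t, mul_assoc t, e1, ← mul_assoc, h.tt_sq he, one_mul]

omit [Finite G] in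
theorem a4_braid (hb : b ∈ D) (hy : y ∈ D) (h3 : orderOf (b * y) = 3) : b * y * b = y * b * y := by
  have := pow_orderOf_eq_one (b * y)
  rw [h3] at this
  rw [← h.ri.inv (h.ri.conj b hb y hy), eq_inv_iff_mul_eq_one, ← this]
  simp only [pow_succ, pow_zero, one_mul, mul_assoc]

omit [Finite G] in
theorem a4_g (hb : b ∈ D) (hy : y ∈ D) (h3 : orderOf (b * y) = 3) : b * y * b * (b * y)⁻¹ = y := by
  rw [h.a4_braid hb hy h3, mul_assoc y, mul_inv_cancel_right]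

theorem a4_core (he : e ∈ Tt D t) (hp : Pa D b e a y) (h3 : orderOf (b * y) = 3) (cb : Commute b t)
    (hs : s = t * y * t * y) : s * s = 1 ∧ Commute t s ∧ Commute s (b * s * b) ∧
      Commute (t * s * (b * s * b)) b ∧ Commute (t * s * (b * s * b)) y ∧ b * y * t * y * b = t * (b * s * b) := by
  have hb := hp.c1.mem
  have ha := hp.c3.mem
  have hy := hp.c3.mem'
  obtain ⟨e1, s1⟩ := h.a4_s he hy hp.f2
  have s2 := h.cn_common hp.f2 (h.cn_symm hp.c2) hp.c3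
  replace s1 := s1.trans s2
  rw [← hs] at e1
  generalize cm (t * e) y = a₁ at e1 s1
  generalize cm e y = a₂ at e1 s2
  have z : s ∈ Zc D a := e1 ▸ mul_mem (h.zc_of_sm s1) (h.zc_of_sm s2)
  have k1 : s * s = 1 := by
    rw [e1, mul_assoc, (h.sm_commute (s2.trans s1.symm)).left_comm, h.ri.mm s1.1, h.ri.sq _ s2.1]
  have ct : ∀ {c}, Sm D c a → Commute c t := fun s =>
    h.tt_comm he s.1 (h.sm_comm s.symm he.2.1 (h.cn_comm hp.c2)).symm
  have k2 : Commute t s := e1 ▸ ((ct s1).mul_left (ct s2)).symm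
  have cs : ∀ {c}, Sm D c a → Commute (b * c * b) s := fun {c} s => mem_zc.1 z _ (h.ri.conj c s.1 b hb) (by
    have f := h.sm_fo s.symm hb hp.f1.symm
    rw [h.ri.conj_eq s.1]
    exact (h.sm_commute s).mul_left (h.sm_comm (h.cn_common f (hp.c2.of_right s.symm) (h.cn_symm hp.c1)).symm ha
      (h.cn_comm hp.c2).symm).symm)
  have k3 : Commute s (b * s * b) := by
    have := (cs s1).mul_left (cs s2)
    rw [← h.ri.cj hb, ← e1] at this
    exact this.symm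
  have k4 : y * t * y = t * s := by rw [hs, ← mul_assoc, ← mul_assoc, ← mul_assoc, h.tt_sq he, one_mul]
  have k6 : b * y * t * y * b = t * (b * s * b) := by
    rw [mul_assoc b, mul_assoc b, k4, h.ri.cj hb, h.ri.cj_of hb cb]
  refine ⟨k1, k2, k3, (h.ri.commute_of_cj hb ?_).symm, ?_, k6⟩
  · rw [h.ri.cj hb, h.ri.cj hb, h.ri.cj_cj hb, h.ri.cj_of hb cb, mul_assoc t, ← k3.eq, mul_assoc t]
  · rw [k2.eq, mul_assoc s, ← k6]
    refine (mem_zc.1 z y hy (h.cn_comm hp.c3).symm).symm.mul_left (h.ri.commute_of_cj hy ?_).symm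
    calc _ = y * b * y * t * (y * b * y) := by simp only [mul_assoc]
      _ = b * y * (b * t * b) * y * b := by rw [← h.a4_braid hb hy h3]; simp only [mul_assoc]
      _ = _ := by rw [h.ri.cj_of hb cb]

theorem sf0 (hb : b ∈ Tt D t) (he : e ∈ Tt D t) (hp : Pa D b e a y) (h3 : orderOf (b * y) = 3) :
    t * y * t * y = b * y * t * y * b ∧ t = t * y * t * y * (b * (t * y * t * y) * b) := by
  have cb := h.tt_comm hb hb.2.1 (Commute.refl b)
  obtain ⟨k1, k2, k3, k4, k5, k6⟩ := h.a4_core he hp h3 cb rfl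
  generalize t * y * t * y = s at k1 k2 k3 k4 k5 k6 ⊢
  have hB := hb.2.1
  have j := h.ri.ct hB hp.c3.mem' (h.pa_od hp) k4 k5 (by
    have := h.conj hb.1 s
    rwa [inv_eq_of_sq k1, ← mul_assoc, ← k2.eq, ← h.ri.mm' hB (t * s * b * s), mul_assoc (t * s),
      mul_assoc (t * s)] at this)
  rw [mul_assoc, mul_eq_one_iff_eq_inv', inv_eq_of_sq (h.tt_sq hb)] at j
  refine ⟨?_, j.symm⟩
  rw [k6, ← j, mul_assoc s, ← h.ri.cj hB, k1, mul_one, h.ri.sq b hB, mul_one]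

theorem sf (hb : b ∈ Tt D t) (he : e ∈ Tt D t) (hp : Pa D b e a y) : Fx D t y := by
  obtain ⟨u, s, h3⟩ := h.t3 hp
  have k := (h.sf0 hb he (h.pa_congr hp (Sm.rfl' hp.c1.mem) (Sm.rfl' hp.c2.mem) (Sm.rfl' hp.c3.mem) s.symm) h3).1
  have := h.tt_conj hb (b * u)
  rw [h.a4_g hb.2.1 s.1 h3, mul_inv_rev, h.ri.inv s.1, h.ri.inv hb.2.1, ← mul_assoc, ← k] at this
  refine h.fx_congr s ((fx_iff (h.tt_sq hb)).2 ?_)
  rwa [← h.ri.mm' s.1 (t * u * t)]

theorem up (hZ : Subgroup.center G = ⊥) (hb : b ∈ Tt D t) (he : e ∈ Tt D t) (hc : Cn D b e) (e1 : Sm D c b) :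
    c ∈ Tt D t := by
  obtain ⟨a, c1, f⟩ := h.exists_fo_cn (h.cn_symm hc)
  obtain ⟨y, hp⟩ := h.pa_ext hc c1 f
  have hp' := h.pa_congr hp e1.symm (Sm.rfl' c1.mem) (Sm.rfl' c1.mem') (Sm.rfl' hp.c3.mem')
  obtain ⟨u, s1, h3⟩ := h.t3 hp'
  replace hp' := h.pa_congr hp' (Sm.rfl' e1.1) (Sm.rfl' c1.mem) (Sm.rfl' c1.mem') s1.symm
  have z := mul_mem (h.zc_of_sm ((fx_iff (h.tt_sq hb)).1 (h.fx_congr s1.symm (h.sf hb he hp))))
    (h.zc_of_sm (Sm.rfl' s1.1))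
  have zt := h.zc_congr e1.symm (h.tt_zc hb)
  obtain ⟨k1, k2, k3, k4, k5, k6⟩ := h.a4_core he hp' h3 (mem_zc.1 zt c e1.1 (Commute.refl c)) rfl
  have z1 := h.zc_conj zt (c * u)
  rw [h.a4_g e1.1 s1.1 h3, mul_inv_rev, h.ri.inv s1.1, h.ri.inv e1.1, ← mul_assoc, k6] at z1
  generalize t * u * t * u = s at k1 k2 k3 k4 k5 k6 z z1
  have z2 := mul_mem z1 z
  rw [mul_assoc, ← k3.eq, ← mul_assoc] at z2
  have j : t * s * (c * s * c) = 1 := Subgroup.mem_bot.1 (hZ ▸ Subgroup.mem_center_iff.2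
    (h.central_of_zc s1.1 e1.1 (h.pa_od hp').symm z2 k4.symm))
  rw [mul_assoc, mul_eq_one_iff_eq_inv', inv_eq_of_sq (h.tt_sq hb)] at j
  refine h.tt_of_zc e1.1 ?_ zt
  have := h.conj e1.1 s
  rwa [inv_eq_of_sq k1, ← h.ri.mm' e1.1 (s * c * s), mul_assoc s, mul_assoc s, j] at this

theorem ind1 (hZ : Subgroup.center G = ⊥) (he : e ∈ Tt D t) (hy : y ∈ D) (f1 : Fo e y) (hx : x ∈ D) (f2 : Fo e x)
    (f3 : Fo (cm e y) (cm e x)) (h1 : Fx D t y) : Fx D t x := by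
  have hE := he.2.1
  obtain ⟨e1, s1⟩ := h.a4_s he hy f1
  have ha := s1.2.1
  have t1 : y ∈ Tt D (t * y * t * y) := by
    change Sm D _ _
    rw [h.ri.mm' hy]
    exact (fx_iff (h.tt_sq he)).1 h1
  have t2 : cm e y ∈ Tt D (t * y * t * y) := by
    change Sm D _ _
    rwa [e1, h.ri.mm' ha]
  have ca := h.cn_cm hE hy f1
  have cb := h.cn_cm hE hx f2
  have hp : Pa D y (cm e y) e (cm e x) := ⟨h.cn_cm' hE hy f1, h.cn_symm ca, cb, f1.symm, f3⟩
  obtain ⟨u, s2, h3⟩ := h.t3 hp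
  replace hp := h.pa_congr hp (Sm.rfl' hy) (Sm.rfl' ha) (Sm.rfl' hE) s2.symm
  obtain ⟨k1, k2⟩ := h.sf0 t1 t2 hp h3
  have ct : Commute (t * y * t * y) t := by
    rw [e1]
    have c := h.ri.cm_comm hE hy f1
    exact (h.tt_comm he s1.1 (h.sm_comm' s1.symm hE c)).mul_left (h.tt_comm he ha c)
  have k4 : y * t * y = t * (t * y * t * y) := by rw [← mul_assoc, ← mul_assoc, ← mul_assoc, h.tt_sq he, one_mul]
  generalize t * y * t * y = s at t1 t2 k1 k2 ct k4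
  have ut := h.tt_comm he s2.1 (h.cn_comm hp.c3).symm
  have c1 : Commute (s * u * s * u) t := ((ct.mul_left ut).mul_left ct).mul_left ut
  have e2 : y * u * s * (y * u)⁻¹ = s * u * s * u := by
    rw [k1, mul_inv_rev, h.ri.inv s2.1, h.ri.inv hy, ← mul_assoc]
  have t3 := h.tt_conj t1 (y * u)
  have t4 := h.tt_conj t2 (y * u)
  obtain ⟨f4, e3⟩ := h.ri.tb s2.1 h3 (h.ri.fo_ln' hE hy f1) hp.f2
  have hc := h.ri.fo_mem ha s2.1 hp.f2
  have e4 : y * u * cm e y * (y * u)⁻¹ = cm (cm e y) u := by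
    rw [mul_inv_rev, h.ri.inv s2.1, h.ri.inv hy, ← mul_assoc, mul_assoc y, mul_assoc y, h.ri.conj_eq ha, h.ri.cj hy,
      h.ri.conj_eq hc, e3, h.ri.cj_of hy (h.ri.cm_comm' hE hy f1).symm, h.ri.cm_comm ha s2.1 hp.f2, h.ri.mm ha]
  rw [e2, h.a4_g hy s2.1 h3] at t3
  rw [e2, e4] at t4
  have t5 := h.up hZ t4 t3 (h.cn_symm (h.cn_cm' ha s2.1 hp.f2))
    (Sm.trans he (h.cn_common hp.f2 ca hp.c3).symm)
  generalize s * u * s * u = w at k2 c1 t3 t5
  have w2 := h.tt_sq t3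
  have cy : Commute y (t * w) := h.ri.commute_of_cj hy (by
    rw [h.ri.cj hy, k4, k2, mul_assoc t, mul_assoc w, ← h.ri.cj hy, w2, mul_one, h.ri.sq y hy, mul_one])
  have t6 : e ∈ Tt D (t * w) := by
    change Sm D _ _
    rw [← c1.eq, mul_assoc]
    exact Sm.trans t5 he
  have fx := h.sf (h.ci_tt t6 hy f1 cy) t6 ⟨h.cn_symm ca, cb, h.cn_symm (h.cn_cm' hE hx f2), f3, f2⟩
  have := h.fx_mul fx (fx_of_comm hx (mem_zc.1 (h.zc_congr s2 (h.tt_zc t3)) x hx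
    (h.ri.cm_comm' hE hx f2).symm).symm)
  rwa [mul_assoc, w2, mul_one] at this

end ND

end CfsgLib.RootInv
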