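import Cfsg.Agent.Lib.RootInv.RTA2

/-! Root involution theorem, A5: the graph of non-commuting neighbours of a point is connected. -/

set_option autoImplicit false
set_option Elab.async false

namespace CfsgLib.RootInv

open Cfsg

universe u

variable {G : Type u} [Group G] {D : Set G} {a b c d e f g k m p q r s t u v w x y z : G}

/-- Joined in the graph of non-commuting neighbours. -/
abbrev A5C (D : Set G) (d a b : G) : Prop :=
  Relation.ReflTransGen (fun p q => Cn D d p ∧ Cn D d q ∧ Fo p q) a b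

theorem A5C.symm (h : A5C D d a b) : A5C D d b a := by
  induction h with
  | refl => exact .refl
  | tail _ k ih => exact .head ⟨k.2.1, k.1, k.2.2.symm⟩ ih

theorem a5_fo_cj (hu : u * u = 1) (hf : Fo a b) : Fo (u * a * u) (u * b * u) := by
  simpa [inv_eq_of_sq hu] using (fo_conj u).2 hf

theorem a5_cm_cj (hu : u * u = 1) (a b : G) : cm (u * a * u) (u * b * u) = u * cm a b * u := by
  simpa [inv_eq_of_sq hu] using cm_conj u a b

theorem a5_comm_cj (hu : u * u = 1) (hc : Commute a b) : Commute (u * a * u) (u * b * u) := by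
  simpa [inv_eq_of_sq hu] using commute_conj hc u

theorem a5_cm_eq (a b : G) : cm a b = a * (b * a * b) := by simp only [cm, mul_assoc]

namespace ND

variable [Finite G] (h : ND D)
include h

theorem a5_cn_cj (hu : u * u = 1) (hc : Cn D a b) : Cn D (u * a * u) (u * b * u) := by
  simpa [inv_eq_of_sq hu] using h.cn_conj hc u

theorem a5_nfo (ha : a ∈ D) (hb : b ∈ D) (hf : Fo a b) : ¬ Commute a b := h.ri.fo_not_comm ha hb hf

theorem a5_comm (h1 : Cn D d a) (h2 : Cn D d b) (n : ¬ A5C D d a b) : Commute a b :=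
  (h.cn_nb h1 h2).resolve_right fun k => n (.single ⟨h1, h2, k.1⟩)

theorem a5_sm (h1 : Cn D d a) (e : Sm D a b) : A5C D d a b := by
  obtain ⟨c, h2, hf⟩ := h.exists_fo_cn h1
  exact .tail (.single ⟨h1, h2, hf⟩) ⟨h2, h1.of_right e, (h.sm_fo e h2.mem' hf).symm⟩

theorem a5_cj (hu : u ∈ D) (hc : Commute u d) (k : A5C D d a b) : A5C D d (u * a * u) (u * b * u) := by
  have u2 := h.ri.sq u hu
  have : ∀ {p}, Cn D d p → Cn D d (u * p * u) := fun hp => h.ri.cj_of hu hc ▸ h.a5_cn_cj u2 hp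
  exact k.lift (fun p => u * p * u) fun _ _ k => ⟨this k.1, this k.2.1, a5_fo_cj u2 k.2.2⟩

theorem a5_x (h1 : Cn D d a) (h2 : Cn D d c) (n : ¬ A5C D d a c) : ¬ Cn D c a := fun ⟨_, a', l, e⟩ => by
  obtain ⟨b, hb, fb⟩ := h.exists_fo_cn h1
  obtain ⟨c', hc', fc⟩ := h.exists_fo_cn h2
  have h1' := h1.of_right e.symm
  have cb : Commute c b := h.a5_comm h2 hb fun k => n (.trans (.single ⟨h1, hb, fb⟩) k.symm)
  have f1 := h.ri.fo_mul (h.ri.ln_symm l) hb.mem' (h.sm_fo e.symm hb.mem' fb) cb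
  rw [← (lnc l).eq] at f1
  have k := (h.lf (.inr h2) (.inr h1') l.2.2.2.2).resolve_left fun k =>
    h.a5_nfo h1.mem hb.mem' (h.sm_fo k hb.mem' f1) (h.cn_comm hb)
  have n' : ¬ A5C D d a c' := fun k => n (k.tail ⟨hc', h2, fc.symm⟩)
  have f2 := h.ri.fo_mul l hc'.mem' fc (h.a5_comm h1' hc' fun k => n' ((h.a5_sm h1 e.symm).trans k))
  exact n' (.tail (.tail (.single ⟨h1, hb, fb⟩) ⟨hb, k, f1.symm⟩) ⟨k, hc', f2⟩)

section
variable (h1 : Cn D d a) (h2 : Cn D d b) (hf : Fo a b) (hw : w ∈ D) (w1 : w * a * w = d)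
  (w2 : w * d * w = a) (hy : y ∈ D) (fy : Fo y d) (w3 : w * b * w = y)
include h1 hw w1 w2

theorem a5_y1 (hu : Cn D d u) (nu : ¬ A5C D d a u) (hv : Cn D d v) (nv : ¬ A5C D d a v) :
    Cn D a (w * v * w) ∧ Commute (w * v * w) d ∧ Cn D d (w * v * w * u * (w * v * w)) ∧
      ∀ p, Cn D d p → A5C D d a p → Commute p (cm u (w * v * w)) := by
  have s := h.ri.sq w hw
  have k1 : Cn D a (w * v * w) := w2 ▸ h.a5_cn_cj s hv
  have k2 : Commute (w * v * w) d := w1 ▸ a5_comm_cj s (h.a5_comm h1 hv nv).symm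
  generalize w * v * w = v' at k1 k2
  have k3 : Cn D d (v' * u * v') := h.ri.cj_of k1.mem' k2 ▸ h.a5_cn_cj (h.ri.sq _ k1.mem') hu
  refine ⟨k1, k2, k3, fun p hp cp => ?_⟩
  rw [a5_cm_eq]
  refine (h.a5_comm hp hu fun k => nu (cp.trans k)).mul_right (h.a5_comm hp k3 fun k => nu ?_)
  have := h.a5_cj k1.mem' k2 (cp.trans k)
  rwa [h.ri.cj_of k1.mem' (h.cn_comm k1).symm, h.ri.cj_cj k1.mem'] at this

include h2 hf hy fy w3

theorem a5_y (hu : Cn D d u) (nu : ¬ A5C D d a u) (hv : Cn D d v) (nv : ¬ A5C D d a v) :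
    Commute u (w * v * w) := by
  have s := h.ri.sq w hw
  obtain ⟨k1, k2, k3, k4⟩ := h.a5_y1 h1 hw w1 w2 hu nu hv nv
  obtain ⟨l1, -, -, l4⟩ := h.a5_y1 h1 hw w1 w2 hv nv hu nu
  by_contra n
  have f := h.ri.fo_of hu.mem' k1.mem' n (h.cn_not_od (h.cn_symm hu) k1.mem' k2.symm)
  have ab : A5C D d a b := .single ⟨h1, h2, hf⟩
  have cy : Commute y (cm u (w * v * w)) := by
    have f' := a5_fo_cj s f
    rw [h.ri.cj_cj hw] at f'
    have := a5_comm_cj s (l4 b h2 ab)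
    rwa [w3, h.ri.cm_symm l1.mem' hv.mem' f', ← a5_cm_cj s, h.ri.cj_cj hw] at this
  have cD := h.ri.fo_mem hu.mem' k1.mem' f
  have n1 : Cn D d (cm u (w * v * w)) := by
    rw [a5_cm_eq] at cD cy ⊢
    exact (h.lf (.inr hu) (.inr k3) cD).resolve_left fun k => h.a5_nfo hy h1.mem fy (h.sm_comm k hy cy)
  have n2 : Cn D a (cm u (w * v * w)) := by
    have cb := k4 b h2 ab
    have k5 : Cn D a (u * (w * v * w) * u) :=
      h.ri.cj_of hu.mem' (h.a5_comm h1 hu nu).symm ▸ h.a5_cn_cj (h.ri.sq _ hu.mem') k1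
    rw [← h.ri.cm_symm hu.mem' k1.mem' f, a5_cm_eq] at cD cb ⊢
    exact (h.lf (.inr k1) (.inr k5) cD).resolve_left fun k =>
      h.a5_nfo h2.mem' h1.mem' hf.symm (h.sm_comm k h2.mem' cb)
  refine h.a5_x h1 n1 (fun k => ?_) (h.cn_symm n2)
  obtain ⟨c, hc, fc⟩ := h.exists_fo_cn n1
  exact h.a5_nfo hc.mem' cD fc.symm (k4 c hc (k.tail ⟨n1, hc, fc⟩))

end

theorem a5_main (h1 : Cn D d a) (h2 : Cn D d b) (hf : Fo a b) (ed : cm a b = d) (hu : Cn D d u) :
    A5C D d a u := by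
  by_contra nu
  have ha := h1.mem'
  have hb := h2.mem'
  have hd := h1.mem
  obtain ⟨y, hy, fy, ey⟩ := h.exists_cm' ha hb hf
  rw [ed] at fy ey
  have ed' : cm b a = d := by rw [h.ri.cm_symm ha hb hf, ed]
  have o3 := h.ri.l3 hb ha hy hf.symm (ed' ▸ fy.symm) (by rw [ed', h.ri.cm_symm hy hd fy, ey])
  have br : b * y * b = y * b * y := by
    have := pow_orderOf_eq_one (b * y)
    rw [o3] at this
    calc _ = y * b * y * (y * (b * (y * (b * y * b)))) := by
          simp only [mul_assoc, h.ri.mm hy, h.ri.mm hb]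
      _ = y * b * y * (b * ((b * y) ^ 3 * b)) := by simp only [pow_succ, pow_zero, one_mul, mul_assoc, h.ri.mm hb]
      _ = _ := by rw [this, one_mul, h.ri.sq b hb, mul_one]
  have hw := h.ri.conj y hy b hb
  have ya : Commute y a := ey ▸ (h.ri.cm_comm hy hd fy).symm
  have w1 : b * y * b * a * (b * y * b) = d := by
    calc _ = b * (y * (b * a * b) * y) * b := by simp only [mul_assoc]
      _ = _ := by
        rw [h.ri.conj_eq ha, ed, h.ri.cj hy, h.ri.cj_of hy ya, h.ri.conj_eq hd, h.ri.cm_symm hy hd fy, ey,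
          (h.cn_comm h1).eq, h.ri.mm ha, h.ri.cj_of hb (h.cn_comm h2).symm]
  have w2 : b * y * b * d * (b * y * b) = a := by rw [← w1, h.ri.cj_cj hw]
  have w3 : b * y * b * b * (b * y * b) = y := by
    rw [h.ri.mm' hb, mul_assoc b y, ← mul_assoc y, ← mul_assoc y, ← br]
    simp only [mul_assoc, h.ri.mm hb, h.ri.sq b hb, mul_one]
  have w4 : b * y * b * y * (b * y * b) = b := by
    have := h.ri.cj_cj hw (p := b)
    rwa [w3] at this
  obtain ⟨v, hv, fv⟩ := h.exists_fo_cn hu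
  have nv : ¬ A5C D d a v := fun k => nu (k.tail ⟨hv, hu, fv.symm⟩)
  have ab : A5C D d a b := .single ⟨h1, h2, hf⟩
  have Y := fun {u v} => h.a5_y (u := u) (v := v) h1 h2 hf hw w1 w2 hy fy w3
  have cb : ∀ {p}, Cn D d p → ¬ A5C D d a p → Commute b p := fun hp np =>
    h.a5_comm h2 hp fun k => np (ab.trans k)
  have e1 : ∀ {p}, Commute b p → b * (b * y * b * p * (b * y * b)) * b = y * p * y := fun {p} c => by
    conv_rhs => rw [← h.ri.cj_of hb c]
    simp only [mul_assoc, h.ri.mm hb, h.ri.sq b hb, mul_one]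
  have e2 : ∀ {p}, Commute b p → y * (b * y * b * p * (b * y * b)) * y = b * y * b * p * (b * y * b) :=
    fun {p} c => by
      conv_lhs => rw [br]
      conv_rhs => rw [mul_assoc (b * y), mul_assoc (b * y), mul_assoc b y b, ← mul_assoc (b * p), h.ri.cj_of hb c]
      simp only [mul_assoc, h.ri.mm hy, h.ri.sq y hy, mul_one]
  have bu := cb hu nu
  have bv := cb hv nv
  have u02 := h.ri.cj_commute hb (Y hu nu hu nu)
  have u21 := h.ri.cj_commute hy (Y hu nu hu nu)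
  have v21 := h.ri.cj_commute hy (Y hu nu hv nv)
  have v01 := Y hv nv hu nu
  rw [h.ri.cj_of hb bu, e1 bu] at u02
  rw [e2 bu] at u21
  rw [e2 bv] at v21
  have e3 := e1 bu
  generalize b * y * b = w at *
  have s := h.ri.sq w hw
  have uD := hu.mem'
  have fu : Fo u y := h.ri.fo_of uD hy (fun c => by
    rw [h.ri.cj_of hy (Commute.symm c)] at e3
    rw [← h.ri.cj_cj hb (p := w * u * w), e3, h.ri.cj_of hb bu] at v01
    exact h.a5_nfo uD hv.mem' fv v01.symm) fun o =>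
      h.ri.od_not_comm uD (h.ri.conj u uD y hy) (h.ri.od_conj_self uD hy o) u02
  have f1 := a5_fo_cj s fu
  rw [w4] at f1
  have u1 := h.ri.conj u uD w hw
  have v1 := h.ri.conj v hv.mem' w hw
  have u2 := h.ri.conj u uD y hy
  have ek : cm (w * u * w) b = w * u * w * (y * u * y) := by rw [a5_cm_eq, e3]
  have kD := h.ri.fo_mem u1 hb f1
  have f2 : Fo (cm (w * u * w) b) (w * v * w) :=
    ek ▸ h.ri.fo_mul (h.ri.ln_of u1 u2 (ek ▸ kD)) v1 (a5_fo_cj s fv) v21
  have k1 := h.cn_cm kD v1 f2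
  rw [ek, h.ri.cm_mul v1 u2 u21 v21, ← ek, a5_cm_cj s] at k1
  have k2 := h.cn_common hf (k1.of_right (w2 ▸ h.sm_cj (h.cn_common fv hu hv) s))
    (h.cn_symm (h.cn_cm' u1 hb f1))
  have k3 := h.sm_cj k2 s
  rw [ed, w2, ← a5_cm_cj s, h.ri.cj_cj hw, w3] at k3
  exact h.a5_x h1 hu nu ((h.cn_cm uD hy fu).of_right k3.symm)

theorem conn (h1 : Cn D d a) (h2 : Cn D d b) :
    Relation.ReflTransGen (fun p q => Cn D d p ∧ Cn D d q ∧ Fo p q) a b := by
  obtain ⟨c, hc, hf⟩ := h.exists_fo_cn h1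
  have e := h.cn_common hf h1 hc
  exact (h.a5_main (h.cn_left h1 e.symm) (h.cn_left hc e.symm) hf rfl (h.cn_left h2 e.symm)).lift id
    fun _ _ k => ⟨h.cn_left k.1 e, h.cn_left k.2.1 e, k.2.2⟩

end ND

end CfsgLib.RootInv
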