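import Cfsg.Agent.Lib.RootInv.RTA4
import Cfsg.Agent.Lib.RootInv.RTA5

/-! Root involution theorem, A6: independence, transfer, planes. -/

set_option autoImplicit false

namespace CfsgLib.RootInv

open Cfsg

universe u

variable {G : Type u} [Group G] {D : Set G} {a b c d e f g k m p q r s t u v w x y z : G}

namespace ND

variable [Finite G] (h : ND D)
include h

theorem a6_fx (ha : a ∈ D) (hb : b ∈ D) : Fx D (a * b) p ↔ Sm D (b * p * b) (a * p * a) := by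
  have e : a * b * p * (a * b)⁻¹ = a * (b * p * b) * a := by
    rw [mul_inv_rev, h.ri.inv ha, h.ri.inv hb]; simp only [mul_assoc]
  rw [Fx, e]
  refine ⟨fun k => ?_, fun k => ?_⟩ <;> have := h.sm_cj k (h.ri.sq a ha) <;> rwa [h.ri.cj_cj ha] at this

theorem ind (hZ : Subgroup.center G = ⊥) (he : e ∈ Tt D t) (hy : y ∈ D) (f1 : Fo e y) (hx : x ∈ D) (f2 : Fo e x)
    (h1 : Fx D t y) : Fx D t x := by
  have hE := he.2.1
  have step : ∀ p q, (∃ v ∈ D, Fo e v ∧ Sm D (cm e v) p ∧ Fx D t v) → Fo p q →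
      ∀ v ∈ D, Fo e v → Sm D (cm e v) q → Fx D t v := fun p q ⟨w, hw, f, s, k⟩ f' v hv f3 s' =>
    h.ind1 hZ he hw f hv f3 (h.sm_fo' s'.symm s.1 (h.sm_fo s.symm s'.2.1 f')) k
  obtain ⟨q, c, f⟩ := h.exists_fo_cn (h.cn_cm hE hx f2)
  refine step q _ ?_ f.symm x hx f2 (Sm.rfl' (h.ri.fo_mem hE hx f2))
  have := h.conn (h.cn_cm hE hy f1) c
  clear c f
  induction this with
  | refl => exact ⟨y, hy, f1, Sm.rfl' (h.ri.fo_mem hE hy f1), h1⟩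
  | tail _ k ih =>
    obtain ⟨v, hv, f, s⟩ := h.cn_exists k.2.1
    exact ⟨v, hv, f, s, step _ _ ih k.2.2 v hv f s⟩

theorem good_fx (he : e ∈ Tt D t) (hV : ∀ v ∈ D, Fo e v → Fx D t v) (hp : Pa D e c a x) : Fx D t x := by
  have hE := he.2.1
  obtain ⟨u, s, h3⟩ := h.t3 hp
  obtain ⟨a', l, s1⟩ := (h.cn_symm (hp.c3.of_right s.symm)).2
  have f := h.sm_fo s1.symm hE hp.f1.symm
  obtain ⟨-, e1⟩ := h.ri.tb hE (orderOf_mul_swap e u ▸ h3) l f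
  have c : Commute e t := h.tt_comm he hE (Commute.refl e)
  have k := (fx_iff (h.tt_sq he)).1 (hV _ (h.ri.conj a' s1.1 e hE) (by
    have := (fo_conj e).2 f.symm
    rwa [mul_inv_cancel_right, h.ri.inv hE] at this))
  have h4 := h.three_of s1.1 s.1 ((Sm.symm he).od s.1 (od_three (h.ri.sq u s.1) h3))
    (h.cn_left (h.cn_cm' s1.1 hE f) (Sm.symm he)) (lnc l) (by
      rw [h.ri.conj_eq (h.ri.fo_mem s1.1 hE f), e1, h.ri.cm_comm s1.1 hE f, ← h.ri.conj_eq s1.1]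
      nth_rw 2 [← c.eq]
      simpa only [mul_assoc] using k)
  refine h.fx_congr s ((fx_iff (h.tt_sq he)).2 ?_)
  have := h.sm_conj he (e * u)
  rw [h.a4_g hE s.1 h3, mul_inv_rev, h.ri.inv hE, h.ri.inv s.1, mul_assoc e, mul_assoc e, ← mul_assoc _ u,
    ← h.a4_braid he.1 s.1 h4, mul_assoc _ _ e, h.ri.mm' hE, ← c.eq] at this
  simpa only [mul_assoc, h.ri.mm hE] using this

theorem tr (hZ : Subgroup.center G = ⊥) (hc : Cn D u a) (e1 : Sm D b a) :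
    ∃ c, Sm D c a ∧ ProdAdj D u c ∧ ∀ v ∈ D, Fo a v → Fx D (b * c) v := by
  obtain ⟨d, hd, f, s⟩ := h.cn_exists (h.cn_symm hc)
  have f1 := h.sm_fo e1.symm hd f
  obtain ⟨c, s1, l, s2⟩ := h.f1' hd e1.2.1 f.symm e1.1 f1.symm (h.sm_cm (Sm.rfl' hd) e1 f1.symm)
    (h.ri.cm_symm e1.2.1 hd f ▸ s.symm)
  exact ⟨c, s1, l, fun v hv f2 => h.ind hZ (h.tt_of_sm (e1.trans s1.symm)) hd f1 hv (h.sm_fo e1.symm hv f2)
    ((h.a6_fx e1.1 s1.1).2 s2)⟩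

theorem pl (hZ : Subgroup.center G = ⊥) (h1 : Cn D v c) (h2 : Cn D v y) (h3 : Cn D v x) (h4 : Cn D c y)
    (f1 : Fo c x) (f2 : Fo y x) : ∃ u, Sm D u y ∧ ProdAdj D c u ∧ Commute (c * u) x := by
  have s := h.cn_common f2.symm h3 h2
  obtain ⟨w, s1, -, s2⟩ := h.f1' h3.mem' h2.mem' f2.symm h1.mem' f1.symm
    ((h.cn_common f1.symm h3 h1).trans s.symm) (Sm.rfl' s.1)
  obtain ⟨u, s3, l, k⟩ := h.tr hZ h4 s1
  exact ⟨u, s3, l, h.comm_of_fx l.2.2.2.2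
    ((h.a6_fx l.1 s3.1).2 (((h.a6_fx s1.1 s3.1).1 (k x h3.mem' f2)).trans s2))⟩

end ND

end CfsgLib.RootInv
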