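import Cfsg.Agent.Lib.RootInv.RTA6

/-! Root involution theorem, A7: a bad pair forces rank two. -/

set_option autoImplicit false
set_option Elab.async false

namespace CfsgLib.RootInv

open Cfsg

universe u

variable {G : Type u} [Group G] {D : Set G} {a b c d e f g k m p q r s t u v w x y z : G}

namespace ND

variable [Finite G] (h : ND D)
include h

theorem bad_symm (hb : Bad D d x) : Bad D x d := by
  obtain ⟨hd, hx, ho, hb⟩ := hb
  refine ⟨hx, hd, ho.symm, fun c hc => by_contra fun n => ?_⟩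
  have f := h.ri.fo_of hc.mem' hd (h.cn_l0 hc hd ho.symm) n
  obtain ⟨c', l, e1⟩ := hc.2
  obtain ⟨e, l', f', -⟩ := h.ri.l4 hd ho.symm l (h.sm_fo e1.symm hd f)
  exact (hb e (cn_of_adj l' fun k => (k.od hx ho).not_fo f')).not_fo f'

theorem bad_conj (hb : Bad D d x) (g : G) : Bad D (g * d * g⁻¹) (g * x * g⁻¹) := by
  refine ⟨h.conj hb.1 g, h.conj hb.2.1 g, (od_conj g).2 hb.2.2.1, fun c hc => ?_⟩
  have := (od_conj g).2 (hb.2.2.2 (g⁻¹ * c * g) (by simpa [mul_assoc] using h.cn_conj hc g⁻¹))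
  simpa [mul_assoc] using this

theorem bad_congr (hb : Bad D d x) (e1 : Sm D d e) (e2 : Sm D x y) : Bad D e y := by
  exact ⟨e1.2.1, e2.2.1, e2.od' e1.2.1 (e1.od hb.2.1 hb.2.2.1), fun c hc =>
    e2.od' hc.mem' (hb.2.2.2 c (h.cn_left hc e1.symm))⟩

theorem good_or_bad (hd : d ∈ D) (hx : x ∈ D) (ho : Od d x) : (∃ c a, Pa D d c a x) ∨ Bad D d x := by
  refine or_iff_not_imp_left.2 fun n => ⟨hd, hx, ho, fun c hc => by_contra fun k => n ⟨c, _,
    h.pa_of_od hc hx ho (h.ri.fo_of hc.mem' hx (h.cn_l0 hc hx ho) k)⟩⟩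

theorem a7_adj (hb : Bad D d x) (l : ProdAdj D k c) (kd : Commute k d) (kx : Commute k x) : ¬ Fo c d := fun f => by
  have hd := hb.1
  have hx := hb.2.1
  have hc := l.2.1
  have o := hb.2.2.2 _ (h.cn_cm' hc hd f)
  have n1 := h.cn_cm hc hd f
  have f' := h.ri.fo_of hc hx (fun m => h.cn_not_od (h.cn_symm n1) hx m o) (h.ri.not_od (h.ri.ln_symm l) hx kx)
  have n2 := h.cn_cm hc hx f'
  have nc : ¬ Commute (cm c d) (cm c x) := fun m => h.cn_l0 (h.cn_cm' hc hx f') n1.mem' o.symm m.symm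
  obtain ⟨-, s⟩ := (h.cn_nb n1 n2).resolve_left nc
  have l1 := h.ri.ln_conj l (h.mem_gen d)
  have l2 := h.ri.ln_conj l (h.mem_gen x)
  rw [h.ri.inv hd, h.ri.cj_of hd kd.symm, h.ri.conj_eq hc] at l1
  rw [h.ri.inv hx, h.ri.cj_of hx kx.symm, h.ri.conj_eq hc] at l2
  have c1 := h.cn_comm n1
  have c2 := h.cn_comm n2
  have e1 : c * cm c d * (c * cm c x) = cm c d * cm c x := by rw [c1.eq, mul_assoc, h.ri.mm hc]
  have e2 : c * cm c x * (c * cm c d) = cm c x * cm c d := by rw [c2.eq, mul_assoc, h.ri.mm hc]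
  rcases h.nb_conj l1 l2 with m | ⟨-, m⟩
  · exact nc (e1.symm.trans (m.eq.trans e2))
  · rw [cm_eq_sq, e1, ← cm_eq_sq] at m
    exact h.a5_nfo hd hc f.symm (h.sm_comm ⟨l.1, hc, m.symm.trans s.2.2⟩ hd kd.symm)

theorem bad_comm (hb : Bad D d x) (hk : k ∈ D) (hc : Commute k d) : Od k x := by
  by_contra n
  have hd := hb.1
  have hx := hb.2.1
  by_cases c : Commute k x
  · have : ∀ p, Lp D k p → p ∈ D ∧ Commute p d ∧ Commute p x := fun p hp => by
      induction hp with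
      | refl => exact ⟨hk, hc, c⟩
      | tail _ l ih =>
        have l' := h.ri.ln_symm l
        exact ⟨l.2.1, by_contra fun k => h.a7_adj hb l ih.2.1 ih.2.2
          (h.ri.fo_of l.2.1 hd k (h.ri.not_od l' hd ih.2.1)), by_contra fun k =>
          h.a7_adj (h.bad_symm hb) l ih.2.2 ih.2.1 (h.ri.fo_of l.2.1 hx k (h.ri.not_od l' hx ih.2.2))⟩
    exact h.ri.od_not_comm hd hx hb.2.2.1 (this d (h.lp asch hk hd)).2.2
  · have f := h.ri.fo_of hk hx c n
    exact h.cn_not_od (h.cn_symm (h.cn_cm hk hx f)) hd hc ((h.bad_symm hb).2.2.2 _ (h.cn_cm' hk hx f))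

theorem config (hb : Bad D d x) : ∃ c a g y, Pa D d c a g ∧ Pa D c a g y ∧ Bad D d y := by
  have : ∀ p, Lp D x p → Bad D d p ∨ ∃ c a g y, Pa D d c a g ∧ Pa D c a g y ∧ Bad D d y := fun p hp => by
    induction hp with
    | refl => exact .inl hb
    | @tail y g _ l ih =>
      refine ih.elim (fun k => or_iff_not_imp_left.2 fun n => ?_) .inr
      have hc : Cn D y g := cn_of_adj l fun e => n (h.bad_congr k (Sm.rfl' k.1) e)
      obtain ⟨c, a, hp⟩ := (h.good_or_bad k.1 l.2.1 ((h.bad_symm k).2.2.2 g hc).symm).resolve_right n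
      exact ⟨c, a, g, y, hp, ⟨hp.c2, hp.c3, h.cn_symm hc, hp.f2, ((h.cn_nb (h.cn_symm hp.c3)
        (h.cn_symm hc)).resolve_left (h.cn_l0 hp.c2 l.1 (k.2.2.2 c hp.c1))).1⟩, k⟩
  exact (this d (h.lp asch hb.2.1 hb.1)).resolve_left fun k => k.2.2.1.1 rfl

theorem lemA (hZ : Subgroup.center G = ⊥) (hp : Pa D a b c d) (h0 : ∀ k ∈ D, Commute k a → ¬ Commute k d)
    (hu : Cn D c u) (c1 : Commute u b) (c2 : Commute u a) : Sm D u b := by
  have ha := hp.c1.mem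
  have hd := hp.c3.mem'
  have uD := hu.mem'
  obtain ⟨f, e1⟩ := (h.cn_nb hu hp.c3).resolve_left (h0 u uD c2)
  have c' := e1.1
  have n1 : Cn D b (cm u d) := hp.c2.of_right e1.symm
  have f1 : Fo (cm u d) a := (h.sm_fo' e1.symm ha hp.f1).symm
  have e2 := h.cn_common f1 n1 (h.cn_symm hp.c1)
  have m1 := h.ri.conj u uD d hd
  have m2 := h.ri.conj _ m1 a ha
  rw [h.ri.conj_eq uD] at m1 m2
  rw [h.ri.cj ha, h.ri.cj_of ha c2.symm, h.ri.conj_eq c', ← mul_assoc] at m2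
  have l := h.ri.ln_symm (h.ri.ln_of m1 e2.1 m2)
  have n2 : Sm D (u * cm u d) b ∨ Cn D b (u * cm u d) := or_iff_not_imp_left.2 fun n =>
    h.cn_left (cn_of_adj l fun k => n (k.symm.trans e2)) e2
  have n3 := h.lf n2 (.inr n1) (by rwa [h.ri.mm' c'])
  rw [h.ri.mm' c'] at n3
  refine n3.resolve_right fun k => ?_
  obtain ⟨b', s, l', c3⟩ := h.pl hZ hu (h.cn_symm hp.c2) hp.c3 (h.cn_symm k) f hp.f2
  exact h0 _ l'.2.2.2.2 (c2.mul_left (h.sm_comm s.symm ha (h.cn_comm hp.c1)).symm) c3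

theorem key2 (hZ : Subgroup.center G = ⊥) (h1 : Pa D e a b c) (h2 : Pa D a b c d)
    (h3 : ∀ k ∈ D, Commute k e → ¬ Commute k c) (h4 : ∀ k ∈ D, Commute k a → ¬ Commute k d) : Isol D c b := by
  intro u hu ub
  have ha := h2.c1.mem
  have hc := hu.mem
  have uD := hu.mem'
  by_cases ua : Commute u a
  · exact .inl (h.lemA hZ h2 h4 hu ub ua)
  have f := h.ri.fo_of ha uD (fun k => ua (Commute.symm k)) (h.cn_not_od h2.c1 uD ub.symm)
  have fD := h.ri.fo_mem ha uD f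
  have ba := h.cn_symm h2.c1
  have n1 : Sm D (cm a u) b ∨ Cn D b (cm a u) := by
    rw [a5_cm_eq] at fD ⊢
    exact h.lf (.inr ba) (.inr (h.ri.cj_of uD ub ▸ h.a5_cn_cj (h.ri.sq u uD) ba)) fD
  rcases n1 with k | k
  · obtain ⟨c', s, l, c3⟩ := h.pl hZ (h.cn_symm ((h.cn_cm' ha uD f).of_right k)) h2.c2 ba (h.cn_symm hu) f.symm
      h2.f1.symm
    have l' := h.ri.ln_mul (h.ri.ln_symm l)
    rw [← (lnc l).eq] at l'
    refine .inr ⟨c', s, l, h.lemA hZ h2 h4 (h.cn_left (cn_of_adj l' fun k => ?_) s)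
      (ub.mul_left (h.sm_comm s.symm ba.mem (h.cn_comm h2.c2)).symm) c3⟩
    exact h.a5_nfo ha hc h2.f1 (h.sm_comm (k.symm.trans s) ha c3.symm)
  · have s := h.cn_common h2.f1 ba h2.c2
    have fc : Commute c (cm a u) := h.ri.commute_of_cj hc (by
      rw [← a5_cm_cj (h.ri.sq c hc), h.ri.cj_of hc (h.cn_comm hu), h.ri.conj_eq ha,
        h.ri.cm_mul uD s.1 (h.ri.cm_comm ha hc h2.f1) (h.sm_comm s.symm uD ub).symm])
    exact absurd (h.lemA hZ (h.pa_rev h1) (fun k hk c1 c2 => h3 k hk c2 c1) (h.cn_cm ha uD f)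
      (h.cn_comm k).symm fc.symm).symm k.1

theorem isol_conj (hi : Isol D p u) (g : G) : Isol D (g * p * g⁻¹) (g * u * g⁻¹) := by
  intro v hv hc
  rcases hi (g⁻¹ * v * g) (by simpa [mul_assoc] using h.cn_conj hv g⁻¹)
    (by simpa [mul_assoc] using commute_conj hc g⁻¹) with k | ⟨p', k1, k2, k3⟩
  · exact .inl (by simpa [mul_assoc] using h.sm_conj k g)
  · exact .inr ⟨_, h.sm_conj k1 g, by simpa [mul_assoc] using h.ri.ln_conj k2 (h.mem_gen g),
      by simpa [mul_assoc] using h.sm_conj k3 g⟩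

theorem isol_congr (hi : Isol D p u) (e1 : Sm D p q) (e2 : Sm D u v) : Isol D q v := by
  intro w hw hc
  exact (hi w (h.cn_left hw e1.symm) (h.sm_comm e2.symm hw.mem' hc)).imp (·.trans e2)
    fun ⟨p', k1, k2, k3⟩ => ⟨p', k1.trans e1, k2, k3.trans e2⟩

theorem a7_swap (hp : Pa D a b c d) : ∃ w : G, Sm D (w * a * w⁻¹) d ∧ Sm D (w * d * w⁻¹) a ∧
    Sm D (w * b * w⁻¹) c ∧ Sm D (w * c * w⁻¹) b := by
  obtain ⟨d', s, o3⟩ := h.t3 hp
  obtain ⟨b', l, s'⟩ := hp.c1.2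
  have ha := l.1
  have f := h.sm_fo s'.symm s.1 (h.sm_fo' s.symm s'.2.1 hp.f2)
  have s2 := h.cn_common f ((h.cn_symm hp.c2).of_right s'.symm) (hp.c3.of_right s.symm)
  obtain ⟨-, e⟩ := h.ri.tb s.1 o3 l f
  have hw := h.ri.conj d' s.1 a ha
  have w2 := h.ri.sq _ hw
  have e1 : a * d' * a * a * (a * d' * a) = d' := by
    have := pow_orderOf_eq_one (a * d')
    rw [o3] at this
    calc _ = (a * d') ^ 3 * d' := by
          simp only [pow_succ, pow_zero, one_mul, mul_assoc, h.ri.mm ha, h.ri.sq d' s.1, mul_one]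
      _ = _ := by rw [this, one_mul]
  have e2 : a * d' * a * b' * (a * d' * a) = cm b' d' := by
    calc _ = a * (d' * (a * b' * a) * d') * a := by simp only [mul_assoc]
      _ = _ := by
        rw [h.ri.cj_of ha (lnc l), h.ri.conj_eq l.2.1, h.ri.cj ha, h.ri.cj_of ha (lnc l), h.ri.conj_eq s2.1, e,
          h.ri.cm_comm l.2.1 s.1 f, h.ri.mm l.2.1]
  have k1 : Sm D (a * d' * a * a * (a * d' * a)) d := e1.symm ▸ s
  have k2 : Sm D (a * d' * a * b * (a * d' * a)) c := (h.sm_cj s' w2).symm.trans (e2.symm ▸ s2)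
  have k3 := h.sm_cj k1 w2
  have k4 := h.sm_cj k2 w2
  rw [h.ri.cj_cj hw] at k3 k4
  exact ⟨a * d' * a, by rw [h.ri.inv hw]; exact ⟨k1, k3.symm, k2, k4.symm⟩⟩

theorem np (hZ : Subgroup.center G = ⊥) (hb : Bad D d x) (hc : Cn D p u) : Isol D p u := by
  obtain ⟨c, a, g, y, p1, p2, hb⟩ := h.config hb
  obtain ⟨k, rfl⟩ := h.exists_conj p1.c3.mem' hc.mem
  replace p1 := h.pa_conj p1 k
  replace p2 := h.pa_conj p2 k
  replace hb := h.bad_conj hb k
  generalize k * d * k⁻¹ = d, k * c * k⁻¹ = c, k * a * k⁻¹ = a, k * g * k⁻¹ = g, k * y * k⁻¹ = y at *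
  have h3 : ∀ k ∈ D, Commute k d → ¬ Commute k g := fun k hk c1 c2 =>
    h.cn_not_od (h.cn_symm p2.c3) hk c2.symm (h.bad_comm hb hk c1).symm
  have h4 : ∀ k ∈ D, Commute k c → ¬ Commute k y := fun k hk c1 c2 =>
    h.cn_not_od p1.c1 hk c1.symm (h.bad_comm (h.bad_symm hb) hk c2).symm
  have i1 := h.key2 hZ p1 p2 h3 h4
  have i2 := h.key2 hZ (h.pa_rev p2) (h.pa_rev p1) (fun k hk c1 c2 => h4 k hk c2 c1)
    fun k hk c1 c2 => h3 k hk c2 c1
  have ga := h.cn_symm p1.c3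
  rcases h.cn_nb hc ga with ua | ⟨ua, -⟩
  · rcases i1 u hc ua with s | ⟨g', k1, k2, k3⟩
    · exact h.isol_congr i1 (Sm.rfl' hc.mem) s.symm
    have l := h.ri.ln_mul (h.ri.ln_symm k2)
    rw [← (lnc k2).eq] at l
    obtain ⟨y', -, l', e⟩ := h.f1 ga.mem' hb.2.1 p2.f2 (h.cn_common p2.f2 ga p2.c3).symm
      ⟨_, _, k3, k1, h.ri.ln_symm l, rfl⟩
    rw [h.ri.mm' k1.1] at e
    have := h.isol_conj i1 y'
    rw [h.ri.inv l'.2.1, h.ri.cj_of l'.2.1 (lnc l').symm] at this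
    exact h.isol_congr this (Sm.rfl' hc.mem) ⟨h.ri.conj a ga.mem' y' l'.2.1, hc.mem', e⟩
  · obtain ⟨w, -, -, s1, s2⟩ := h.a7_swap p1
    obtain ⟨w', -, s3, -, s4⟩ := h.a7_swap ⟨h.cn_symm hc, ga, h.cn_symm p1.c2, ua, p1.f2.symm⟩
    exact h.isol_congr (h.isol_conj (h.isol_congr (h.isol_conj i2 w) s1 s2) w') s4 s3

theorem rk2_of_isol (hi : ∀ p u, Cn D p u → Isol D p u) : Rk2 D := by
  have L0 : ∀ {k f d}, Cn D f k → Cn D f d → Commute k d → ¬ Sm D k d → Cn D k d :=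
    fun h1 h2 c n => ⟨n, ((hi _ _ h2 _ h1 c).resolve_left n).elim fun _ k => ⟨_, h.ri.ln_mul k.2.1, k.2.2⟩⟩
  have L : ∀ {k c d}, k ∈ D → Commute k d → ¬ Sm D k d → Fo c k → Cn D d c → Cn D k d :=
    fun {k c d} hk kd n f hc => by
      have fD := h.ri.fo_mem hc.mem' hk f
      have k1 := h.cn_cm' hc.mem' hk f
      rw [a5_cm_eq] at fD k1
      exact (h.lf (.inr hc) (.inr (h.ri.cj_of hk kd ▸ h.a5_cn_cj (h.ri.sq k hk) hc)) fD).elim k1.of_right
        fun k2 => L0 (h.cn_symm k1) (h.cn_symm k2) kd n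
  refine ⟨hi, fun a ha k hk c => by_contra fun n => ?_⟩
  have : ∀ p, Lp D a p → Commute p k ∧ ¬ Sm D p k ∧ ¬ Cn D p k := fun p hp => by
    induction hp with
    | refl => exact ⟨c, not_or.1 n⟩
    | @tail p q _ l ih =>
      obtain ⟨i1, i2, i3⟩ := ih
      by_cases s : Sm D p q
      · exact ⟨h.sm_comm' s hk i1, fun e => i2 (s.trans e), fun e => i3 (h.cn_left e s.symm)⟩
      have hc := cn_of_adj l s
      have i4 : ¬ Sm D k p := fun e => i2 e.symm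
      exact ⟨by_contra fun m => i3 (h.cn_symm (L hk i1.symm i4
        (h.ri.fo_of l.2.1 hk m (h.cn_not_od (h.cn_symm hc) hk i1)) hc)), fun e => i3 (hc.of_right e),
        fun e => i3 (h.cn_symm (L0 e (h.cn_symm hc) i1.symm i4))⟩
  exact (this k (h.lp asch ha hk)).2.1 (Sm.rfl' hk)

theorem rk2 (hZ : Subgroup.center G = ⊥) (hb : Bad D d x) : Rk2 D :=
  h.rk2_of_isol fun _ _ hc => h.np hZ hb hc

end ND

end CfsgLib.RootInv
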