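import Cfsg.Agent.Lib.RootInv.RTA7

/-! Root involution theorem, A8: the points are groups. -/

set_option autoImplicit false

namespace CfsgLib.RootInv

open Cfsg

universe u

variable {G : Type u} [Group G] {D : Set G} {a b c d e f g k m p q r s t u v w x y z : G}

namespace ND

variable [Finite G] (h : ND D)
include h

theorem a8_one (hZ : Subgroup.center G = ⊥) (hb : b ∈ Tt D t) (hx : x ∈ D) (ho : Od b x) (hc : Commute x t) :
    t = 1 :=
  Subgroup.mem_bot.1 (hZ ▸ Subgroup.mem_center_iff.2 (h.central_of_zc hb.2.1 hx ho (h.tt_zc hb) hc))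

theorem not_od_t (hZ : Subgroup.center G = ⊥) (h2 : Rk2 D) (hb : b ∈ Tt D t) (he : e ∈ Tt D t) (hc : Cn D b e)
    (hu : u ∈ D) : ¬ Od u (t * u * t) := by
  intro ho
  have t2 := h.tt_sq hb
  obtain ⟨m, hm, -, e1, e2⟩ := h.ri.exists_mid_inv t2 hu (h.mem_gen t) ho
  have mt : Commute m t := e2.symm
  have nc : ¬ Commute u (t * u * t) :=
    h.ri.od_not_comm hu (by simpa only [inv_eq_of_sq t2] using h.conj hu t) ho
  have k : ∀ {b}, b ∈ Tt D t → (∃ c ∈ Tt D t, ProdAdj D m c) ∨ Sm D m b ∨ Cn D m b := fun {b} hb => by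
    rcases h.ri.pair b hb.2.1 m hm with k | k | k
    · exact Or.inr (h2.comm m hm b hb.2.1 k.symm)
    · rw [h.a8_one hZ hb hm k mt, one_mul, mul_one] at nc
      exact absurd (Commute.refl u) nc
    · exact Or.inl ⟨_, h.ci_tt hb hm k.1 mt, h.ri.fo_ln' hb.2.1 hm k.1⟩
  obtain ⟨c, tc, l⟩ : ∃ c ∈ Tt D t, ProdAdj D m c := by
    rcases k hb with k1 | k1 | ⟨-, c, l, s⟩
    · exact k1
    · rcases k he with k2 | k2 | ⟨-, c, l, s⟩
      · exact k2
      · exact absurd (k1.symm.trans k2) hc.1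
      · exact ⟨c, h.up hZ he hb (h.cn_symm hc) s, l⟩
    · exact ⟨c, h.up hZ hb he hc s, l⟩
  have hC := tc.2.1
  have oc : Od c u := by
    rcases h.ri.pair c hC u hu with k | k | k
    · refine absurd ?_ nc
      have := h.tt_comm tc hu k.symm
      exact (this.mul_right (Commute.refl u)).mul_right this
    · exact k
    · refine absurd ?_ nc
      have c1 : Commute (cm (t * c) u) u := h.ri.cm_comm' tc.1 hu (h.sm_fo (Sm.symm tc) hu k.1)
      have := (c1.mul_left (h.ri.cm_comm' hC hu k.1)).mul_left (Commute.refl u)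
      rw [← (h.a4_s tc hu k.1).1, h.ri.mm' hu] at this
      exact this.symm
  have ct := h.tt_comm tc hC (Commute.refl c)
  have e3 := h.ri.ct (z := m * t) tc.1 hu ((Sm.symm tc).od hu oc)
    ((mt.mul_right (lnc l)).mul_left ((Commute.refl t).mul_right ct.symm))
    (by
      have : m * t * u * (m * t)⁻¹ = u := by
        rw [mul_inv_rev, inv_eq_of_sq t2, h.ri.inv hm, ← mul_assoc, mul_assoc m, mul_assoc m, ← e1, h.ri.cj_cj hm]
      exact mul_inv_eq_iff_eq_mul.1 this)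
    (by rw [mul_assoc, ← mul_assoc t, t2, one_mul]; exact l.2.2.2.2)
  rw [mul_eq_one_iff_eq_inv, inv_eq_of_sq t2] at e3
  subst e3
  exact hc.1 ((h.sm_of_zc hb.2.1 hm (h.tt_zc hb)).symm.trans (h.sm_of_zc he.2.1 hm (h.tt_zc he)))

theorem fix_all (hZ : Subgroup.center G = ⊥) (hb : b ∈ Tt D t) (he : e ∈ Tt D t) (hc : Cn D b e) (hw : w ∈ D) :
    Fx D t w := by
  have hB := hb.2.1
  have t2 := h.tt_sq hb
  have V : ∀ v ∈ D, Fo b v → Fx D t v := fun v hv f => by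
    obtain ⟨a, c, f1⟩ := h.exists_fo_cn hc
    obtain ⟨y, hp⟩ := h.pa_ext (h.cn_symm hc) c f1
    exact h.ind hZ hb hp.c3.mem' hp.f2 hv f (h.sf he hb hp)
  rcases h.ri.pair b hB w hw with k | k | k
  · exact fx_of_comm hw (h.tt_comm hb hw k.symm).symm
  swap
  · exact V w hw k.1
  rcases h.good_or_bad hB hw k with ⟨c, a, hp⟩ | bad
  · exact h.good_fx hb V hp
  have r2 := h.rk2 hZ bad
  have tt : ∀ x, t * (t * x * t⁻¹) * t⁻¹ = x := fun x => by
    rw [← mul_assoc, ← mul_assoc, t2, one_mul, mul_assoc, ← mul_inv_rev, t2, inv_one, mul_one]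
  have hw' := h.conj hw t
  have no : ∀ u ∈ D, ¬ Od u (t * u * t⁻¹) := fun u hu => by
    rw [inv_eq_of_sq t2]; exact h.not_od_t hZ r2 hb he hc hu
  rcases h.ri.pair w hw _ hw' with k | k | k
  · rcases r2.comm w hw _ hw' k with k | k
    · exact k.symm
    obtain ⟨u, c, f⟩ := h.exists_fo_cn k
    exact absurd (h.pa_od ⟨h.cn_symm c, k, h.cn_conj c t, f.symm, tt w ▸ (fo_conj t).2 f⟩) (no u c.mem')
  · exact absurd k (no w hw)
  · have := cm_conj t w (t * w * t⁻¹)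
    rw [tt, h.ri.cm_symm hw hw' k.1, eq_comm, mul_inv_eq_iff_eq_mul] at this
    rw [h.a8_one hZ hb k.2 ((h.bad_symm bad).2.2.2 _ (h.cn_cm hw hw' k.1)).symm this.symm]
    exact fx_one hw

theorem eq_one_of_fix (hO : pCore 2 G = ⊥) (hZ : Subgroup.center G = ⊥) (hg : ∀ w ∈ D, Fx D g w) : g = 1 := by
  let N : Subgroup G :=
    { carrier := {g | ∀ w ∈ D, Fx D g w}
      mul_mem' := fun h1 h2 w hw => h.fx_mul (h1 w hw) (h2 w hw)
      one_mem' := fun w hw => fx_one hw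
      inv_mem' := fun h1 w hw => h.fx_inv (h1 w hw) }
  have : N.Normal := ⟨fun n hn k w hw => by
    simpa [mul_assoc] using h.fx_conj (hn _ (h.conj hw k⁻¹)) k⟩
  have k : Subgroup.closure D ≤ Subgroup.centralizer {g} := (Subgroup.closure_le _).2 fun a ha => by
    obtain ⟨b, -, c, l, -⟩ := h.exists_cn ha
    have := h.ri.comm_mem_pCore h.gen (N := N) (fun d hd hn => by
      obtain ⟨x, hx, o⟩ := h.exists_od hd
      exact h.ri.od_not_comm hd hx o (h.comm_of_fx hd (hn x hx))) l hg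
    rw [hO, Subgroup.mem_bot, mul_eq_one_iff_eq_inv', h.ri.inv ha, mul_inv_eq_iff_eq_mul] at this
    exact Subgroup.mem_centralizer_singleton_iff.2 this.symm
  exact Subgroup.mem_bot.1 (hZ ▸ Subgroup.mem_center_iff.2 fun x =>
    Subgroup.mem_centralizer_singleton_iff.1 (k (h.mem_gen x)))

theorem cm_inj (hO : pCore 2 G = ⊥) (hZ : Subgroup.center G = ⊥) (e1 : Sm D e f) (hy : y ∈ D) (hf : Fo e y)
    (e2 : cm e y = cm f y) : e = f := by
  have t1 := h.tt_of_sm e1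
  exact h.ri.eq_of_mul_eq_one e1.2.1 (h.eq_one_of_fix hO hZ fun w hw => h.fix_all hZ t1
    (h.ci_tt t1 hy hf (h.ri.comm_of_cm_eq e1.1 e1.2.1 hy (h.sm_fo e1 hy hf) e2)) (h.cn_cm e1.1 hy hf) hw)

theorem cm_surj (hO : pCore 2 G = ⊥) (hZ : Subgroup.center G = ⊥) (he : e ∈ D) (hy : y ∈ D) (hf : Fo e y)
    (e1 : Sm D a (cm e y)) : ∃ f, Sm D f e ∧ cm f y = a := by
  obtain ⟨g, hg⟩ := h.exists_conj e1.2.1 he
  have : (fun f => cm f y) '' {f | Sm D f e} = {a | Sm D a (cm e y)} := by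
    refine Set.eq_of_subset_of_ncard_le ?_ ?_
    · rintro _ ⟨f, s, rfl⟩
      exact h.claim1 s hy (h.sm_fo s.symm hy hf)
    · rw [Set.InjOn.ncard_image fun f s f' s' k => h.cm_inj hO hZ (s.trans s'.symm) hy (h.sm_fo s.symm hy hf) k]
      exact Set.ncard_le_ncard_of_injOn (fun x => g * x * g⁻¹) (fun x s => hg ▸ h.sm_conj s g)
        fun x _ x' _ k => by simpa using k
  exact (this ▸ e1 : a ∈ (fun f => cm f y) '' {f | Sm D f e})

theorem adj_of_cn (hO : pCore 2 G = ⊥) (hZ : Subgroup.center G = ⊥) (hc : Cn D a b) : ProdAdj D a b := by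
  obtain ⟨u, hu, f, s⟩ := h.cn_exists hc
  obtain ⟨v, s1, e⟩ := h.cm_surj hO hZ hu hc.mem f.symm (h.ri.cm_symm hc.mem hu f ▸ s.symm)
  exact e ▸ h.ri.fo_ln' s1.1 hc.mem (h.sm_fo s1.symm hc.mem f.symm)

theorem rs (hO : pCore 2 G = ⊥) (hZ : Subgroup.center G = ⊥) : RS D := by
  refine ⟨h, fun e he f hf e1 hne => ?_⟩
  have s : Sm D e f := ⟨he, hf, e1⟩
  obtain ⟨c, hc, u, hu, f1, e2⟩ := h.exists_eq_cm he
  obtain ⟨c', s1, e3⟩ := h.cm_surj hO hZ hc hu f1 (e2 ▸ s.symm)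
  have l := e2 ▸ h.ri.fo_ln hc hu f1
  have e4 : u * c * u = c * e := e2 ▸ h.ri.conj_eq hc
  have l1 := h.adj_of_cn hO hZ ((h.cn_symm (cn_of_adj (h.ri.ln_mul l) fun k => h.ri.fo_not_comm hc hu f1
    (h.comm_of_fx hu ((fx_iff (h.ri.sq u hu)).2 (e4 ▸ k.symm))).symm)).of_right s1.symm)
  have c1 := h.sm_commute s1
  have c2 := h.sm_comm' s1.symm he (lnc l)
  have e5 : cm (c * e * c') u = e * f := by
    have : u * (c * e * c') * u = c * c' * f := by
      rw [h.ri.cj hu, h.ri.cj hu, e4, h.ri.cj_of hu (e2 ▸ (h.ri.cm_comm' hc hu f1).symm), h.ri.mm' he,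
        h.ri.conj_eq s1.1, e3, mul_assoc]
    rw [cm, mul_assoc _ u, mul_assoc _ (u * _), this, (lnc l).eq]
    simp only [mul_assoc, c1.left_comm, h.ri.mm hc, h.ri.mm s1.1]
  have hm : e * f ∈ D := e5 ▸ h.ri.fo_mem l1.2.2.2.2 hu (h.ri.fo_of_cm l1.2.2.2.2 hu
    (e5 ▸ fun k => hne (h.ri.eq_of_mul_eq_one hf k))
    (by rw [e5, mul_assoc, (h.sm_commute s.symm).left_comm, h.ri.mm he, h.ri.sq f hf]))
  exact ⟨hm, (h.sm_of_zc he hm (mul_mem (h.zc_of_sm (Sm.rfl' he)) (h.zc_of_sm s.symm))).2.2⟩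

end ND

end CfsgLib.RootInv
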