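import Cfsg.Agent.Lib.RootInv.RTDefs
import Cfsg.Agent.Lib.RootSub.SL2Pres

/-! Root involution theorem: coordinates along a path, Weyl elements. -/

set_option autoImplicit false

namespace CfsgLib.RootInv

open Cfsg CfsgLib.RootSub

universe u

variable {G : Type u} [Group G]

/-- Coordinates along a path `a b c d`. -/
structure Co (D : Set G) (F : Type) [Field F] (a b c d : G) where
  x : F → G
  y : F → G
  p : F → G
  r : F → G
  two : (2 : F) = 0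
  st : StRel x y
  p_add : ∀ s t, p (s + t) = p s * p t
  r_add : ∀ s t, r (s + t) = r s * r t
  x_sm : ∀ t, t ≠ 0 → Sm D (x t) a
  y_sm : ∀ t, t ≠ 0 → Sm D (y t) d
  p_sm : ∀ t, t ≠ 0 → Sm D (p t) b
  r_sm : ∀ t, t ≠ 0 → Sm D (r t) c
  x_surj : ∀ e, Sm D e a → ∃ t, t ≠ 0 ∧ x t = e
  y_surj : ∀ e, Sm D e d → ∃ t, t ≠ 0 ∧ y t = e
  p_surj : ∀ e, Sm D e b → ∃ t, t ≠ 0 ∧ p t = e
  r_surj : ∀ e, Sm D e c → ∃ t, t ≠ 0 ∧ r t = e
  xr : ∀ s t, cm (r s) (x t) = p (s * t)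
  yp : ∀ s t, cm (p s) (y t) = r (s * t)
  three : ∀ t, t ≠ 0 → orderOf (x t * y t⁻¹) = 3

/-- The Weyl elements of the pair of points `a`, `d`. -/
def Wp (D : Set G) (a d : G) : Set G :=
  {w | ∃ a' d', Sm D a' a ∧ Sm D d' d ∧ orderOf (a' * d') = 3 ∧ w = a' * d' * a'}

/-- The products of two Weyl elements. -/
def Hp (D : Set G) (a d : G) : Set G := {g | ∃ w ∈ Wp D a d, ∃ w' ∈ Wp D a d, g = w * w'}

/-- The points have more than one member. -/
def Big (D : Set G) : Prop := ∀ a ∈ D, ∃ b, Sm D b a ∧ b ≠ a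

end CfsgLib.RootInv
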