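import Cfsg.Agent.Lib.RootInv.RTA3
import Cfsg.Agent.Lib.RootInv.RTDefs2

/-! Root involution theorem, B0: the groups E and M, lines. -/

set_option autoImplicit false

namespace CfsgLib.RootInv

open Cfsg CfsgLib.RootSub
open scoped commutatorElement

universe u

variable {G : Type u} [Group G] {D : Set G} {a b c d e f g i j k l m p q r s t u v w x y z : G}

theorem b0_comm_of_cj (hu : u * u = 1) (hv : v * v = 1) (e1 : u * e * u = v * e * v) : Commute (u * v) e :=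
  calc u * v * e = u * (v * e * v) * v := by rw [mul_assoc u _ v, mul_assoc _ v v, hv, mul_one, mul_assoc]
    _ = e * (u * v) := by rw [← e1, ← mul_assoc, ← mul_assoc, hu, one_mul, mul_assoc]

theorem b0_braid (ha : a * a = 1) (hd : d * d = 1) (h3 : orderOf (a * d) = 3) : a * d * a = d * a * d := by
  have := h3 ▸ pow_orderOf_eq_one (a * d)
  rw [← mul_inv_eq_one, mul_inv_rev, mul_inv_rev, inv_eq_of_sq ha, inv_eq_of_sq hd, ← this]
  simp only [pow_succ, pow_zero, one_mul, mul_assoc]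

namespace RS

variable [Finite G] (h : RS D)
include h

theorem mem_eg (hd : d ∈ D) : e ∈ h.Eg d ↔ Sm D e d ∨ e = 1 := or_congr ⟨sm_of_ec hd, Sm.ec⟩ Iff.rfl

theorem eg_of_sm (e1 : Sm D e d) : e ∈ h.Eg d := Or.inl e1.ec

theorem eg_self (hd : d ∈ D) : d ∈ h.Eg d := Or.inl ⟨hd, rfl⟩

theorem eg_congr (e1 : Sm D a b) : h.Eg a = h.Eg b := Subgroup.ext fun _ => by
  rw [h.mem_eg e1.1, h.mem_eg e1.2.1]
  exact or_congr_left ⟨fun e => e.trans e1, fun e => e.trans e1.symm⟩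

theorem eg_sq (he : e ∈ h.Eg d) : e * e = 1 := by
  rcases he with he | rfl
  exacts [h.ri.sq e he.1, mul_one 1]

theorem eg_conj (he : e ∈ h.Eg d) (g : G) : g * e * g⁻¹ ∈ h.Eg (g * d * g⁻¹) := by
  rcases he with he | rfl
  · exact Or.inl ⟨h.conj he.1 g, h.ri.ao_conj_eq (h.mem_gen g) he.2⟩
  · simpa using one_mem _

theorem eg_fx (he : e ∈ h.Eg d) (hf : Fx D g d) : g * e * g⁻¹ ∈ h.Eg d := h.eg_congr hf ▸ h.eg_conj he g

theorem eg_commute (ha : a ∈ D) (hb : b ∈ D) (hc : Commute a b) (he : e ∈ h.Eg a) (hf : f ∈ h.Eg b) : Commute e f := by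
  rcases (h.mem_eg ha).1 he with he | rfl
  exacts [h.eg_comm hb hf he.1 (h.sm_comm' he.symm hb hc), Commute.one_left f]

theorem eg_inter (ha : a ∈ D) (hb : b ∈ D) (hn : ¬ Sm D a b) (h1 : e ∈ h.Eg a) (h2 : e ∈ h.Eg b) : e = 1 :=
  ((h.mem_eg ha).1 h1).elim (fun e1 => ((h.mem_eg hb).1 h2).resolve_left fun e2 => hn (e1.symm.trans e2)) id

theorem eg_eq_one (ha : a ∈ D) (hy : y ∈ D) (hn : ¬ Commute a y) (he : e ∈ h.Eg a) (hc : Commute e y) : e = 1 :=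
  ((h.mem_eg ha).1 he).resolve_left fun e1 => hn (h.sm_comm' e1 hy hc)

theorem eg_card (ha : a ∈ D) (hb : b ∈ D) : Nat.card (h.Eg a) = Nat.card (h.Eg b) := by
  have k : ∀ a ∈ D, ∀ b ∈ D, Nat.card (h.Eg a) ≤ Nat.card (h.Eg b) := fun a ha b hb => by
    obtain ⟨g, rfl⟩ := h.exists_conj ha hb
    exact Nat.card_le_card_of_injective (fun e => ⟨_, h.eg_conj e.2 g⟩) fun e f e1 =>
      Subtype.ext (by simpa using congrArg Subtype.val e1)
  exact le_antisymm (k a ha b hb) (k b hb a ha)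

theorem adj (hc : Cn D a b) : ProdAdj D a b := by
  obtain ⟨c, h1, h2⟩ := hc.2
  exact h.ri.ln_symm (h.es (h.ri.ln_symm h1) (fun e => hc.1 (Sm.trans ⟨h1.1, h1.2.1, e⟩ h2)) ⟨h2.2.1, h2.2.2.symm⟩)

theorem cm_eg (ha : a ∈ D) (hy : y ∈ D) (hf : Fo a y) (he : e ∈ h.Eg a) (hg : g ∈ h.Eg y) : cm e g ∈ h.Eg (cm a y) := by
  rcases (h.mem_eg ha).1 he with e1 | rfl
  · rcases (h.mem_eg hy).1 hg with e2 | rfl
    · exact h.eg_of_sm (h.sm_cm e1.symm e2.symm hf).symm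
    · rw [show cm e 1 = 1 by simp [cm, h.eg_sq he]]; exact one_mem _
  · rw [show cm 1 g = 1 by simp [cm, h.eg_sq hg]]; exact one_mem _

theorem cm_inj (ha : a ∈ D) (hy : y ∈ D) (hf : Fo a y) (he : e ∈ h.Eg a) (hf' : f ∈ h.Eg a) (e2 : cm e y = cm f y) : e = f := by
  have := h.eg_eq_one ha hy (h.ri.fo_not_comm ha hy hf) (mul_mem he hf')
    (b0_comm_of_cj (h.eg_sq he) (h.eg_sq hf') (mul_right_cancel e2))
  rw [eq_inv_of_mul_eq_one_left this, inv_eq_of_sq (h.eg_sq hf')]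

theorem cm_surj (he : e ∈ D) (hy : y ∈ D) (hf : Fo e y) (e1 : Sm D a (cm e y)) : ∃ f, Sm D f e ∧ cm f y = a := by
  obtain ⟨f, e2⟩ := (Function.Injective.bijective_of_nat_card_le (f := fun f : h.Eg e =>
    (⟨_, h.cm_eg he hy hf f.2 (h.eg_self hy)⟩ : h.Eg (cm e y))) (fun f g e2 => Subtype.ext
      (h.cm_inj he hy hf f.2 g.2 (congrArg Subtype.val e2))) (h.eg_card e1.2.1 he).le).2 ⟨a, h.eg_of_sm e1⟩
  replace e2 : cm (f : G) y = a := congrArg Subtype.val e2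
  refine ⟨f, ((h.mem_eg he).1 f.2).resolve_right fun e3 => h.ri.ne a e1.1 ?_, e2⟩
  rw [← e2, e3, cm, mul_one, one_mul, h.ri.sq y hy]

theorem three_uniq (hp : Pa D a b c d) (e1 : Sm D u d) (e2 : Sm D v d) (h1 : orderOf (a * u) = 3)
    (h2 : orderOf (a * v) = 3) : u = v := by
  have k : ∀ u, Sm D u d → orderOf (a * u) = 3 → Fo (cm c a) u ∧ cm (cm c a) u = c := fun u e1 h1 =>
    h.ri.tb hp.c1.mem (orderOf_mul_swap a u ▸ h1) (h.adj (h.cn_symm (hp.c3.of_right e1.symm))) hp.f1.symm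
  have hb := h.ri.fo_mem hp.c3.mem hp.c1.mem hp.f1.symm
  exact h.cm_inj e1.1 hb (k u e1 h1).1.symm (h.eg_self e1.1) (h.eg_of_sm (e2.trans e1.symm)) (by
    rw [h.ri.cm_symm hb e1.1 (k u e1 h1).1, h.ri.cm_symm hb e2.1 (k v e2 h2).1, (k u e1 h1).2, (k v e2 h2).2])

/-- The Weyl element acts on `E_c` as the commutator with `a`. -/
theorem w_conj (hp : Pa D a b c d) (h3 : orderOf (a * d) = 3) (he : e ∈ h.Eg c) :
    a * d * a * e * (a * d * a) = cm e a := by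
  have ha := hp.c1.mem
  have hd := hp.c3.mem'
  rcases (h.mem_eg hp.c3.mem).1 he with e1 | rfl
  · have l := h.adj (h.cn_symm (h.cn_left hp.c3 e1.symm))
    have f1 := h.sm_fo e1.symm ha hp.f1.symm
    have hb := h.ri.fo_mem e1.1 ha f1
    rw [b0_braid (h.ri.sq a ha) (h.ri.sq d hd) h3, show d * a * d * e * (d * a * d) = d * (a * (d * e * d) * a) * d by
      simp only [mul_assoc], h.ri.cj_of hd (lnc l), h.ri.conj_eq e1.1, h.ri.cj hd, h.ri.cj_of hd (lnc l),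
      h.ri.conj_eq hb, (h.ri.tb ha (orderOf_mul_swap a d ▸ h3) l f1).2, h.ri.cm_comm e1.1 ha f1, h.ri.mm e1.1]
  · simp only [cm, mul_one, one_mul, mul_assoc, h.ri.mm ha, h.ri.mm hd]

theorem md_of_eg (hd : d ∈ D) (he : e ∈ h.Eg d) : e ∈ Md D d := by
  rcases he with he | rfl
  exacts [((h.mem_ec_iff hd).1 he).2.1, one_mem _]

theorem md_congr (e1 : Sm D a b) : Md D a = Md D b := by
  have k : ∀ a b, Sm D a b → Md D a ≤ Md D b := fun a b e1 => (Subgroup.closure_le _).2 fun p hp => by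
    by_cases e2 : Sm D a p
    · exact h.md_of_eg e1.2.1 (h.eg_of_sm (e2.symm.trans e1))
    · exact mem_md (h.adj (h.cn_left (cn_of_adj ((mem_prod_iff e1.1).1
        (hp.resolve_right fun e => e2 (Eq.symm e ▸ Sm.rfl' e1.1))) e2) e1))
  exact le_antisymm (k a b e1) (k b a e1.symm)

theorem md_conj (hm : m ∈ Md D d) (g : G) : g * m * g⁻¹ ∈ Md D (g * d * g⁻¹) := by
  refine (Subgroup.closure_le ((Md D (g * d * g⁻¹)).comap (MulAut.conj g).toMonoidHom)).2 ?_ hm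
  rintro p (hp | rfl)
  · exact Subgroup.subset_closure (Or.inl ⟨⟨h.conj hp.1.1 g, commute_conj hp.1.2.1 g, by simpa using hp.1.2.2⟩,
      by simpa using h.conj hp.2 g⟩)
  · exact self_mem_md

theorem md_fx (hm : m ∈ Md D d) (hf : Fx D g d) : g * m * g⁻¹ ∈ Md D d := h.md_congr hf ▸ h.md_conj hm g

theorem md_of_cn (hc : Cn D d a) (he : e ∈ h.Eg a) : e ∈ Md D d := by
  rcases (h.mem_eg hc.mem').1 he with e1 | rfl
  exacts [mem_md (h.adj (hc.of_right e1.symm)), one_mem _]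

theorem md_comm (hd : d ∈ D) (hm : m ∈ Md D d) (he : e ∈ h.Eg d) : Commute m e := by
  rcases he with he | rfl
  exacts [(((h.mem_ec_iff hd).1 he).2.2 m hm).symm, Commute.one_right m]

theorem md_sq (hd : d ∈ D) (hm : m ∈ Md D d) : m * m ∈ h.Eg d := by
  induction hm using Subgroup.closure_induction with
  | mem p hp => rw [h.ri.sq p (hp.elim (·.1.1) fun e => Eq.symm e ▸ hd)]; exact one_mem _
  | one => simpa using one_mem _
  | mul m n hm hn h1 h2 =>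
    rw [show m * n * (m * n) = m * m * ⁅m⁻¹, n⁆ * (n * n) by rw [commutatorElement_def]; group]
    exact mul_mem (mul_mem h1 (h.comm_mem hd (inv_mem hm) hn)) h2
  | inv m _ h1 => rw [← mul_inv_rev]; exact inv_mem h1

theorem near_of_md (hd : d ∈ D) (hp : p ∈ D) (hm : p ∈ Md D d) : Sm D p d ∨ Cn D d p :=
  or_iff_not_imp_left.2 fun hn => cn_of_adj ((h.of_mem_md hd hp hm).resolve_left fun e => hn (e ▸ Sm.rfl' hd))
    fun e => hn e.symm

/-- A member of `M_p` fixes the lines through `p`. -/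
theorem md_line (hm : m ∈ Md D p) (hc : Cn D p u) : ∃ e ∈ h.Eg p, m * u * m⁻¹ = u * e :=
  ⟨_, h.comm_mem hc.mem (inv_mem (mem_md (h.adj hc))) hm, by rw [commutatorElement_def]; group⟩

theorem i_sq (hc : Cn D b c) (h1 : i ∈ Md D b) (h2 : i ∈ Md D c) : i * i = 1 :=
  h.eg_inter hc.mem hc.mem' hc.1 (h.md_sq hc.mem h1) (h.md_sq hc.mem' h2)

theorem i_comm (hc : Cn D b c) (h1 : i ∈ Md D b) (h2 : i ∈ Md D c) (h3 : j ∈ Md D b) (h4 : j ∈ Md D c) :
    Commute i j := commutatorElement_eq_one_iff_commute.1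
  (h.eg_inter hc.mem hc.mem' hc.1 (h.comm_mem hc.mem h1 h3) (h.comm_mem hc.mem' h2 h4))

theorem i_conj (hc : Cn D b c) (h1 : i ∈ Md D b) (h2 : i ∈ Md D c) (hg : g ∈ Md D b) : g * i * g⁻¹ ∈ Md D c := by
  have := mul_mem (h.md_of_cn (h.cn_symm hc) (h.comm_mem hc.mem hg h1)) h2
  rwa [commutatorElement_def, inv_mul_cancel_right] at this

theorem act_like (h1 : Cn D b a) (h2 : Cn D b c) (h3 : Cn D b u) (f1 : Fo a c) (f2 : Fo u c) :
    ∃ a', Sm D a' a ∧ ∀ e ∈ h.Eg c, Commute (u * a') e := by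
  obtain ⟨d, hp⟩ := h.pa_ext (h.cn_symm h1) h2 f1
  obtain ⟨d', e1, o1⟩ := h.t3 (⟨h.cn_symm h3, h2, hp.c3, f2, hp.f2⟩ : Pa D u b c d)
  obtain ⟨a', e2, o2⟩ := h.t3 (h.pa_congr (h.pa_rev hp) e1.symm (Sm.rfl' h2.mem') (Sm.rfl' h2.mem) (Sm.rfl' h1.mem'))
  refine ⟨a', e2, fun e he => ?_⟩
  rcases (h.mem_eg h2.mem').1 he with e3 | rfl
  swap
  · exact Commute.one_right _
  have k : ∀ u, Cn D b u → Fo u c → orderOf (d' * u) = 3 → cm e u ∈ h.Eg b ∧ cm (cm e u) d' = e := fun u c1 f o =>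
    have f' := h.sm_fo e3.symm c1.mem' f.symm
    ⟨h.eg_of_sm (h.cn_common f' (h2.of_right e3.symm) c1),
      (h.ri.tb c1.mem' o (h.adj (h.cn_symm (h.cn_left (hp.c3.of_right e1.symm) e3.symm))) f').2⟩
  obtain ⟨k1, k2⟩ := k u h3 f2 (orderOf_mul_swap u d' ▸ o1)
  obtain ⟨k3, k4⟩ := k a' (h1.of_right e2.symm) (h.sm_fo e2.symm h2.mem' f1) o2
  have := h.cm_inj h1.mem e1.1 (h.sm_fo' e1.symm h1.mem hp.f2) k1 k3 (k2.trans k4.symm)
  exact b0_comm_of_cj (h.ri.sq u h3.mem') (h.ri.sq a' e2.1) (mul_left_cancel (a := e) (by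
    simpa only [cm, mul_assoc] using this))

theorem md_dec (h1 : Cn D b a) (h2 : Cn D b c) (f1 : Fo a c) (hm : m ∈ Md D b) :
    ∃ a' ∈ h.Eg a, ∀ e ∈ h.Eg c, Commute (m * a') e := by
  have k : ∀ {x y e}, x ∈ Md D b → y ∈ Md D b → e ∈ h.Eg c → Commute ⁅x, y⁆ e := fun hx hy he =>
    h.eg_commute h2.mem h2.mem' (h.cn_comm h2) (h.comm_mem h2.mem hx hy) he
  induction hm using Subgroup.closure_induction with
  | mem u hu =>
    have hD : u ∈ D := hu.elim (·.1.1) fun e => Eq.symm e ▸ h1.mem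
    by_cases hc : Commute u c
    · exact ⟨1, one_mem _, fun e he => (mul_one u).symm ▸ h.eg_comm h2.mem' he hD hc⟩
    have c1 := (h.near_of_md h1.mem hD (Subgroup.subset_closure hu)).resolve_left fun e =>
      hc (h.sm_comm' e.symm h2.mem' (h.cn_comm h2))
    obtain ⟨a', e1, h3⟩ := h.act_like h1 h2 c1 f1 ((h.cn_nb c1 h2).resolve_left hc).1
    exact ⟨a', h.eg_of_sm e1, h3⟩
  | one => exact ⟨1, one_mem _, fun e _ => by simp⟩
  | mul m n _ hn h3 h4 =>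
    obtain ⟨x, hx, h3⟩ := h3
    obtain ⟨y, hy, h4⟩ := h4
    refine ⟨_, mul_mem hx hy, fun e he => ?_⟩
    rw [show m * n * (x * y) = m * x * ⁅x⁻¹, n⁆ * (n * y) by rw [commutatorElement_def]; group]
    exact ((h3 e he).mul_left (k (inv_mem (h.md_of_cn h1 hx)) hn he)).mul_left (h4 e he)
  | inv m hm h3 =>
    obtain ⟨x, hx, h3⟩ := h3
    refine ⟨_, inv_mem hx, fun e he => ?_⟩
    rw [show m⁻¹ * x⁻¹ = ⁅m⁻¹, x⁻¹⁆ * (m * x)⁻¹ by rw [commutatorElement_def]; group]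
    exact (k (inv_mem hm) (inv_mem (h.md_of_cn h1 hx)) he).mul_left (h3 e he).inv_left

theorem i_dec (hp : Pa D a b c d) (h1 : i ∈ Md D b) (h2 : i ∈ Md D c) :
    ∃ e ∈ h.Eg b, ∃ f ∈ h.Eg c, (∀ g ∈ h.Eg a, Commute (i * e * f) g) ∧ ∀ g ∈ h.Eg d, Commute (i * e * f) g := by
  obtain ⟨f, hf, h3⟩ := h.md_dec hp.c2 (h.cn_symm hp.c1) hp.f1.symm h1
  obtain ⟨e, he, h4⟩ := h.md_dec (h.cn_symm hp.c2) hp.c3 hp.f2 (mul_mem h2 (h.md_of_eg hp.c3.mem hf))
  refine ⟨e, he, f, hf, ?_⟩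
  rw [mul_assoc, (h.eg_commute hp.c2.mem hp.c2.mem' (h.cn_comm hp.c2) he hf).eq, ← mul_assoc]
  exact ⟨fun g hg => (h3 g hg).mul_left (h.eg_commute hp.c2.mem hp.c1.mem (h.cn_comm hp.c1).symm he hg), h4⟩

end RS

end CfsgLib.RootInv
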