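import Cfsg.Agent.Lib.RootInv.RTB0
import Cfsg.Agent.Lib.Push.Offender

/-! Root involution theorem, B1: a path gives SL2. -/

set_option autoImplicit false

namespace CfsgLib.RootInv

open Cfsg CfsgLib.RootSub
open scoped commutatorElement

universe u

variable {G : Type u} [Group G] {D : Set G} {a b c d e f g i j k l m p q r s t u v w x y z : G}

section SL

open CfsgLib.SL2 Matrix MatrixGroups

variable {F : Type} [Field F]

theorem b1_conj_x {t : F} (ht : t ≠ 0) (u : F) :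
    uu t * ll (-t⁻¹) * uu t * uu u * (uu t * ll (-t⁻¹) * uu t)⁻¹ = ll (-(t⁻¹ ^ 2 * u)) := by
  rw [mul_inv_eq_iff_eq_mul]
  apply ext2 <;> simp only [mul_ap, uu, ll, mk2_00, mk2_01, mk2_10, mk2_11] <;> field_simp <;> ring

theorem b1_conj_y {t : F} (ht : t ≠ 0) (u : F) :
    uu t * ll (-t⁻¹) * uu t * ll u * (uu t * ll (-t⁻¹) * uu t)⁻¹ = uu (-(t ^ 2 * u)) := by
  rw [mul_inv_eq_iff_eq_mul]
  apply ext2 <;> simp only [mul_ap, uu, ll, mk2_00, mk2_01, mk2_10, mk2_11] <;> field_simp <;> ring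

theorem b1_three (two : (2 : F) = 0) {s t : F} (hs : s ≠ 0) (e : (uu t * ll s) ^ 3 = 1) : s = t⁻¹ := by
  have h1 := congrArg (fun g : SL(2, F) => g 1 0) e
  simp only [pow_three', mul_ap, one_10] at h1
  simp [uu, ll] at h1
  have h2 : s * (t * s - 1) ^ 2 = 0 := by linear_combination h1 - (s + 3 * s * t * s) * two
  have h3 : t * s - 1 = 0 := by simpa [hs] using h2
  exact eq_inv_of_mul_eq_one_right (sub_eq_zero.1 h3)

end SL

namespace RS

variable [Finite G] (h : RS D)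
include h

theorem b1_memV (hc : Cn D b c) : v ∈ h.Eg b ⊔ h.Eg c ↔ ∃ e ∈ h.Eg b, ∃ f ∈ h.Eg c, e * f = v := by
  refine CfsgLib.Core.mem_sup_of_le_normalizer_right fun e he => Subgroup.mem_normalizer_fintype fun f hf => ?_
  rw [(h.eg_commute hc.mem hc.mem' (h.cn_comm hc) he hf).eq, mul_inv_cancel_right]
  exact hf

theorem b1_commV (hc : Cn D b c) (hv : v ∈ h.Eg b ⊔ h.Eg c) (hw : w ∈ h.Eg b ⊔ h.Eg c) : Commute v w := by
  obtain ⟨e, he, f, hf, rfl⟩ := (h.b1_memV hc).1 hv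
  obtain ⟨e', he', f', hf', rfl⟩ := (h.b1_memV hc).1 hw
  have k := h.cn_comm hc
  exact ((h.eg_commute hc.mem hc.mem (Commute.refl b) he he').mul_right
    (h.eg_commute hc.mem hc.mem' k he hf')).mul_left
    ((h.eg_commute hc.mem' hc.mem k.symm hf he').mul_right
    (h.eg_commute hc.mem' hc.mem' (Commute.refl c) hf hf'))

theorem b1_inv (he : e ∈ h.Eg a) : e⁻¹ = e := inv_eq_of_sq (h.eg_sq he)

theorem b1_br (hp : Pa D a b c d) (hg : g ∈ h.Eg a) (hv : v ∈ h.Eg b ⊔ h.Eg c) : ⁅v, g⁆ ∈ h.Eg b := by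
  obtain ⟨e, he, f, hf, rfl⟩ := (h.b1_memV hp.c2).1 hv
  have k1 := h.cm_eg hp.c2.mem' hp.c1.mem hp.f1.symm hf hg
  rw [h.eg_congr (h.cn_common hp.f1.symm hp.c2 (h.cn_symm hp.c1))] at k1
  have k2 := h.eg_commute hp.c1.mem hp.c1.mem' (h.cn_comm hp.c1) hg he
  have e1 : ⁅e * f, g⁆ = e * cm f g * e⁻¹ := by
    rw [commutatorElement_def, mul_inv_rev, h.b1_inv hf, cm, h.b1_inv hg]
    simp only [mul_assoc, k2.inv_right.eq]
  rw [e1]
  exact mul_mem (mul_mem he k1) (inv_mem he)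

theorem b1_norm (hp : Pa D a b c d) : h.Eg a ≤ Subgroup.normalizer ((h.Eg b ⊔ h.Eg c : Subgroup G) : Set G) := by
  refine fun g hg => Subgroup.mem_normalizer_fintype fun v hv => ?_
  have : g * v * g⁻¹ = ⁅v, g⁆⁻¹ * v := by group
  rw [this]
  exact mul_mem (inv_mem (Subgroup.mem_sup_left (h.b1_br hp hg hv))) hv

theorem b1_cen (hp : Pa D a b c d) (hg : g ∈ h.Eg a) (h1 : g ≠ 1) (hv : v ∈ h.Eg b ⊔ h.Eg c)
    (hc : Commute g v) : v ∈ h.Eg b := by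
  obtain ⟨e, he, f, hf, rfl⟩ := (h.b1_memV hp.c2).1 hv
  have s1 := ((h.mem_eg hp.c1.mem).1 hg).resolve_right h1
  have k2 := h.eg_commute hp.c1.mem hp.c1.mem' (h.cn_comm hp.c1) hg he
  have k3 : Commute g f := by simpa using k2.inv_right.mul_right hc
  have k4 := h.ri.fo_not_comm hp.c2.mem' s1.1 (h.sm_fo s1.symm hp.c2.mem' hp.f1).symm
  rw [h.eg_eq_one hp.c2.mem' s1.1 k4 hf k3.symm, mul_one]
  exact he

theorem b1_faith (hp : Pa D a b c d) (hg : g ∈ h.Eg a) (hc : Commute g c) : g = 1 :=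
  h.eg_eq_one hp.c1.mem hp.c2.mem' (h.ri.fo_not_comm hp.c1.mem hp.c2.mem' hp.f1) hg hc

theorem b1_self (ha : a ∈ D) : a ∈ h.Eg a := (h.mem_eg ha).2 (.inl (Sm.rfl' ha))

theorem b1_cen_eq (hp : Pa D a b c d) : Push.cen (h.Eg b ⊔ h.Eg c) (h.Eg a) = h.Eg b := by
  refine le_antisymm (fun v hv => h.b1_cen hp (h.b1_self hp.c1.mem) (h.ri.ne a hp.c1.mem) hv.1
    (hv.2 a (h.b1_self hp.c1.mem))) fun v hv => ⟨Subgroup.mem_sup_left hv, fun g hg => ?_⟩
  exact h.eg_commute hp.c1.mem hp.c1.mem' (h.cn_comm hp.c1) hg hv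

theorem b1_w (ha : a ∈ D) (hd : d ∈ D) (h3 : orderOf (a * d) = 3) :
    (a * d * a)⁻¹ = a * d * a ∧ (∀ e ∈ h.Eg a, a * d * a * e * (a * d * a)⁻¹ ∈ h.Eg d) ∧
      ∀ e ∈ h.Eg d, a * d * a * e * (a * d * a)⁻¹ ∈ h.Eg a := by
  have e0 : (a * d * a)⁻¹ = a * d * a := by rw [mul_inv_rev, mul_inv_rev, h.ri.inv ha, h.ri.inv hd, mul_assoc]
  have e3 : a * d * (a * d) * (a * d) = 1 := by rw [← pow_three', ← h3, pow_orderOf_eq_one]
  have e4 : a * d * a = d * a * d := by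
    have : a * d * a * (d * a * d) = 1 := by rw [← e3]; simp only [mul_assoc]
    rw [eq_inv_of_mul_eq_one_left this, mul_inv_rev, mul_inv_rev, h.ri.inv ha, h.ri.inv hd, mul_assoc]
  have e1 : a * d * a * a * (a * d * a)⁻¹ = d := by
    rw [mul_inv_eq_iff_eq_mul, h.ri.mm' ha, e4, mul_assoc d a, h.ri.mm hd]
  have e2 : a * d * a * d * (a * d * a)⁻¹ = a := by
    rw [mul_inv_eq_iff_eq_mul, mul_assoc a d a, h.ri.mm ha, ← mul_assoc a d a, e4, h.ri.mm' hd]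
  refine ⟨e0, fun e he => ?_, fun e he => ?_⟩
  · have := h.eg_conj he (a * d * a)
    rwa [e1] at this
  · have := h.eg_conj he (a * d * a)
    rwa [e2] at this

/-- the natural module -/
theorem b1_nat (hp : Pa D a b c d) : ∃ (F : Type) (_ : Field F) (_ : Fintype F) (U : Subgroup G)
    (N : Push.NatData F ⊤ (h.Eg a ⊔ h.Eg d) (h.Eg b ⊔ h.Eg c) U), U = ⊥ ∧
      N.img (h.Eg a) = Push.upU F ∧ N.img (h.Eg d) = Push.loU F := by
  have hr := h.pa_rev hp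
  have ha := hp.c1.mem
  have hb := hp.c2.mem
  have hc := hp.c3.mem
  have hd := hp.c3.mem'
  obtain ⟨u, hu, h3⟩ := h.t3 hp
  obtain ⟨w0, w1, w2⟩ := h.b1_w ha hu.1 h3
  rw [h.eg_congr hu] at w1 w2
  have hw : a * u * a ∈ h.Eg a ⊔ h.Eg d :=
    mul_mem (mul_mem (Subgroup.mem_sup_left (h.b1_self ha))
      (Subgroup.mem_sup_right ((h.mem_eg hd).2 (.inl hu)))) (Subgroup.mem_sup_left (h.b1_self ha))
  generalize a * u * a = w at w0 w1 w2 hw
  have ew : LAE.conjS w (h.Eg a) = h.Eg d := by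
    ext g
    rw [LAE.mem_conjS]
    refine ⟨fun hg => by simpa [mul_assoc] using w1 _ hg, fun hg => ?_⟩
    have := w2 g hg
    rwa [w0, ← w0] at this ⊢
  have hEV : h.Eg a ⊔ h.Eg d ≤ Subgroup.normalizer ((h.Eg b ⊔ h.Eg c : Subgroup G) : Set G) :=
    sup_le (h.b1_norm hp) (by rw [sup_comm]; exact h.b1_norm hr)
  have c1 := h.b1_cen_eq hp
  have c2 := h.b1_cen_eq hr
  rw [sup_comm] at c2
  have c3 : Push.cen (h.Eg b ⊔ h.Eg c) (h.Eg a ⊔ h.Eg d) = ⊥ := by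
    rw [Push.cen_sup, c1, c2, eq_bot_iff]
    exact fun v hv => h.eg_inter hb hc hp.c2.1 hv.1 hv.2
  let X : Subgroup G :=
    { carrier := {g | Fx D g b}
      one_mem' := fx_one hb
      mul_mem' := h.fx_mul
      inv_mem' := h.fx_inv }
  have hdX : ∀ g ∈ h.Eg d, g ∈ X → g = 1 := fun g hg hx => by
    by_contra h1
    exact h1 (h.b1_faith hr hg (h.comm_of_fx (((h.mem_eg hd).1 hg).resolve_right h1).1 hx))
  obtain ⟨F, _, _, N, n1, n2, -, -⟩ := Push.exists_natData_of_TI (V := h.Eg b ⊔ h.Eg c) (A := h.Eg a) (X := X)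
    ⟨⟨fun v w => Subtype.ext (h.b1_commV hp.c2 v.2 w.2)⟩⟩ hEV hw (by rw [ew])
    (fun g hg => fx_of_comm hb (h.eg_commute ha hb (h.cn_comm hp.c1) hg (h.b1_self hb)))
    (fun hx => by
      have k : a ∈ X := fx_of_comm hb (h.cn_comm hp.c1)
      have := hdX _ (w1 a (h.b1_self ha)) (mul_mem (mul_mem hx k) (inv_mem hx))
      exact h.ri.ne a ha (by simpa using this))
    (by
      rw [eq_bot_iff]
      refine (Subgroup.commutator_mono (K₁ := h.Eg b) (K₂ := h.Eg a) ?_ le_rfl).trans ?_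
      · exact Subgroup.commutator_le.2 fun v hv g hg => h.b1_br hp hg hv
      · exact Subgroup.commutator_le.2 fun v hv g hg => commutatorElement_eq_one_iff_commute.2
          (h.eg_commute hb ha (h.cn_comm hp.c1).symm hv hg))
    (Push.relIndex_le_of_card (by
      have k1 : h.Eg a ⊓ Subgroup.centralizer ((h.Eg b ⊔ h.Eg c : Subgroup G) : Set G) = ⊥ :=
        eq_bot_iff.2 fun g hg => h.b1_faith hp hg.1
          (Commute.symm (hg.2 c (Subgroup.mem_sup_right (h.b1_self hc))))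
      rw [k1, c1, Subgroup.card_bot, one_mul, h.eg_card ha hc, mul_comm, ← Nat.card_prod]
      refine Nat.card_le_card_of_surjective (fun x : h.Eg b × h.Eg c =>
        (⟨x.1 * x.2, Subgroup.mul_mem_sup x.1.2 x.2.2⟩ : (h.Eg b ⊔ h.Eg c : Subgroup G))) fun v => ?_
      obtain ⟨e, he, f, hf, e1⟩ := (h.b1_memV hp.c2).1 v.2
      exact ⟨⟨⟨e, he⟩, ⟨f, hf⟩⟩, Subtype.ext e1⟩))
    (fun g hg hx v hv => by
      rw [← Push.conjS_cen (hEV hg), c1] at hv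
      have k := h.eg_conj (LAE.mem_conjS.1 hv.2) g
      rw [show g * (g⁻¹ * v * g) * g⁻¹ = v by group] at k
      rw [h.eg_inter (h.conj hb g) hb hx k hv.1]
      exact one_mem _)
    (fun g hg hx => by
      have k := w1 g hg
      rw [w0] at k hx
      have : g = 1 := by
        have := hdX _ k hx
        rw [← w0] at this
        nth_rewrite 1 [w0] at this
        simpa using this
      rw [this]; exact one_mem _)
    (by
      rw [c1, c3]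
      exact fun e => h.ri.ne b hb (e (h.b1_self hb)))
  exact ⟨F, inferInstance, inferInstance, _, N, c3, n1, (congrArg N.img ew.symm).trans n2⟩

theorem exists_co (hp : Pa D a b c d) : ∃ (F : Type) (_ : Field F) (_ : Fintype F), Nonempty (Co D F a b c d) := by
  have hr := h.pa_rev hp
  have ha := hp.c1.mem
  have hb := hp.c2.mem
  have hc := hp.c3.mem
  have hd := hp.c3.mem'
  obtain ⟨F, _, _, U, N, rfl, n1, n2⟩ := h.b1_nat hp
  refine ⟨F, inferInstance, inferInstance, ?_⟩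
  have mA : ∀ {g}, g ∈ h.Eg a → g ∈ h.Eg a ⊔ h.Eg d := fun hg => Subgroup.mem_sup_left hg
  have mD : ∀ {g}, g ∈ h.Eg d → g ∈ h.Eg a ⊔ h.Eg d := fun hg => Subgroup.mem_sup_right hg
  have mB : ∀ {g}, g ∈ h.Eg b → g ∈ h.Eg b ⊔ h.Eg c := fun hg => Subgroup.mem_sup_left hg
  have mC : ∀ {g}, g ∈ h.Eg c → g ∈ h.Eg b ⊔ h.Eg c := fun hg => Subgroup.mem_sup_right hg
  have cm1 : ∀ g ∈ h.Eg a ⊔ h.Eg d, ∀ v ∈ h.Eg b ⊔ h.Eg c, Commute g v ↔ Push.act (N.φ g) (N.π v) = N.π v :=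
    fun g hg v hv => by rw [N.act_eq_iff hg hv, Subgroup.mem_bot, commutatorElement_eq_one_iff_commute]
  have inj : ∀ g ∈ h.Eg a ⊔ h.Eg d, ∀ k ∈ h.Eg a ⊔ h.Eg d, N.φ g = N.φ k →
      ∀ v ∈ h.Eg b ⊔ h.Eg c, Commute (g⁻¹ * k) v := fun g hg k hk e v hv => by
    rw [cm1 _ (mul_mem (inv_mem hg) hk) v hv, N.φ_mul (inv_mem hg) hk, N.φ_inv hg, e, inv_mul_cancel]
    simp [Push.act_def]
  have injA : ∀ g ∈ h.Eg a, ∀ k ∈ h.Eg a, N.φ g = N.φ k → g = k := fun g hg k hk e =>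
    inv_mul_eq_one.1 (h.b1_faith hp (mul_mem (inv_mem hg) hk) (inj g (mA hg) k (mA hk) e c (mC (h.b1_self hc))))
  have injD : ∀ g ∈ h.Eg d, ∀ k ∈ h.Eg d, N.φ g = N.φ k → g = k := fun g hg k hk e =>
    inv_mul_eq_one.1 (h.b1_faith hr (mul_mem (inv_mem hg) hk) (inj g (mD hg) k (mD hk) e b (mB (h.b1_self hb))))
  have ex : ∀ t : F, ∃ g ∈ h.Eg a, N.φ g = SL2.uu t := fun t => by
    obtain ⟨g, -, h1, h2⟩ := N.mem_img.1 (n1.ge (Push.uu_mem t))
    exact ⟨g, h1, h2⟩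
  have ey : ∀ t : F, ∃ g ∈ h.Eg d, N.φ g = SL2.ll t := fun t => by
    obtain ⟨g, -, h1, h2⟩ := N.mem_img.1 (n2.ge (Push.ll_mem t))
    exact ⟨g, h1, h2⟩
  choose x xm xe using ex
  choose y ym ye using ey
  choose z zm ze using N.π_surj
  have x1 : ∀ t, t ≠ 0 → x t ≠ 1 := fun t ht e => ht (Push.uu_eq_one_iff.1 (by rw [← xe, e, N.φ_one]))
  have y1 : ∀ t, t ≠ 0 → y t ≠ 1 := fun t ht e => ht (Push.ll_eq_one_iff.1 (by rw [← ye, e, N.φ_one]))
  have z1 : ∀ v, v ≠ 0 → z v ≠ 1 := fun v hv e => hv (by rw [← ze v, e, N.π_one])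
  have zeq : ∀ v ∈ h.Eg b ⊔ h.Eg c, ∀ m, N.π v = m → z m = v := fun v hv m e =>
    N.π_inj (zm m) hv (by rw [ze, e])
  have zadd : ∀ m n, z (m + n) = z m * z n := fun m n =>
    zeq _ (mul_mem (zm m) (zm n)) _ (by rw [N.π_mul _ (zm m) _ (zm n), ze, ze])
  have memB : ∀ v ∈ h.Eg b ⊔ h.Eg c, v ∈ h.Eg b ↔ N.π v 1 = 0 := fun v hv => by
    rw [← Push.mem_line0, ← Push.act_uu_eq_iff (one_ne_zero (α := F)), ← xe, ← cm1 _ (mA (xm 1)) v hv]
    exact ⟨fun k => h.eg_commute ha hb (h.cn_comm hp.c1) (xm 1) k, h.b1_cen hp (xm 1) (x1 1 one_ne_zero) hv⟩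
  have memC : ∀ v ∈ h.Eg b ⊔ h.Eg c, v ∈ h.Eg c ↔ N.π v 0 = 0 := fun v hv => by
    have k : N.π v 0 = 0 ↔ Push.act (SL2.ll (1 : F)) (N.π v) = N.π v := by
      rw [Push.act_ll, add_eq_left, one_mul]
      exact ⟨fun e => by rw [e]; ext i; fin_cases i <;> rfl, fun e => congrFun e 1⟩
    rw [k, ← ye, ← cm1 _ (mD (ym 1)) v hv]
    exact ⟨fun k => h.eg_commute hd hc (h.cn_comm hp.c3).symm (ym 1) k,
      h.b1_cen hr (ym 1) (y1 1 one_ne_zero) (by rwa [sup_comm])⟩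
  have two : (2 : F) = 0 := by
    rw [← one_add_one_eq_two, ← Push.uu_eq_one_iff, SL2.uu_add, ← xe, ← N.φ_mul (mA (xm 1)) (mA (xm 1)),
      h.eg_sq (xm 1), N.φ_one]
  have ng : ∀ t : F, -t = t := fun t => by linear_combination (-t) * two
  have xs : ∀ t, t ≠ 0 → Sm D (x t) a := fun t ht => ((h.mem_eg ha).1 (xm t)).resolve_right (x1 t ht)
  have ys : ∀ t, t ≠ 0 → Sm D (y t) d := fun t ht => ((h.mem_eg hd).1 (ym t)).resolve_right (y1 t ht)
  have xj : ∀ e, Sm D e a → ∃ t, t ≠ 0 ∧ x t = e := fun e he => by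
    have k := (h.mem_eg ha).2 (.inl he)
    obtain ⟨t, ht⟩ := n1.le (N.φ_mem_img (mA k) k)
    have k1 := injA _ (xm t) _ k (by rw [xe, ht])
    refine ⟨t, fun e0 => h.ri.ne e he.1 (injA _ k _ (one_mem _) ?_), k1⟩
    rw [ht, e0, SL2.uu_zero, N.φ_one]
  have yj : ∀ e, Sm D e d → ∃ t, t ≠ 0 ∧ y t = e := fun e he => by
    have k := (h.mem_eg hd).2 (.inl he)
    obtain ⟨t, ht⟩ := n2.le (N.φ_mem_img (mD k) k)
    have k1 := injD _ (ym t) _ k (by rw [ye, ht])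
    refine ⟨t, fun e0 => h.ri.ne e he.1 (injD _ k _ (one_mem _) ?_), k1⟩
    rw [ht, e0, SL2.ll_zero, N.φ_one]
  have three : ∀ t, t ≠ 0 → orderOf (x t * y t⁻¹) = 3 := fun t ht => by
    obtain ⟨u, hu, h3⟩ := h.t3 (h.pa_congr hp (xs t ht).symm (Sm.rfl' hb) (Sm.rfl' hc) (Sm.rfl' hd))
    obtain ⟨s, hs, rfl⟩ := yj u hu
    rwa [← b1_three two hs (t := t) (by
      rw [← xe, ← ye, ← N.φ_mul (mA (xm t)) (mD (ym s)), ← N.φ_pow (mul_mem (mA (xm t)) (mD (ym s))), ← h3,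
        pow_orderOf_eq_one, N.φ_one])]
  have wk : ∀ t, t ≠ 0 → stw x y t ∈ h.Eg a ⊔ h.Eg d ∧ N.φ (stw x y t) = SL2.uu t * SL2.ll (-t⁻¹) * SL2.uu t ∧
      (∀ e ∈ h.Eg a, stw x y t * e * (stw x y t)⁻¹ ∈ h.Eg d) ∧
      ∀ e ∈ h.Eg d, stw x y t * e * (stw x y t)⁻¹ ∈ h.Eg a := fun t ht => by
    have k := (h.b1_w (xs t ht).1 (ys _ (inv_ne_zero ht)).1 (three t ht)).2
    rw [h.eg_congr (xs t ht), h.eg_congr (ys _ (inv_ne_zero ht))] at k
    have m := mul_mem (mA (xm t)) (mD (ym (-t⁻¹)))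
    refine ⟨mul_mem m (mA (xm t)), ?_, by rwa [stw, ng]⟩
    rw [stw, N.φ_mul m (mA (xm t)), N.φ_mul (mA (xm t)) (mD (ym _)), xe, ye]
  have cmz : ∀ g ∈ h.Eg a ⊔ h.Eg d, g⁻¹ = g → ∀ m, cm (z m) g = z (m + Push.act (N.φ g) m) := fun g hg e m => by
    have k := Push.conj_mem_of_le_normalizer N.norm hg (zm m)
    have e1 : cm (z m) g = z m * (g * z m * g⁻¹) := by rw [e, cm]; simp only [mul_assoc]
    rw [e1]
    exact (zeq _ (mul_mem (zm m) k) _ (by rw [N.π_mul _ (zm m) _ k, N.π_conj g hg _ (zm m), ze])).symm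
  refine ⟨⟨x, y, fun s => z ![s, 0], fun s => z ![0, s], two, ⟨fun s t => ?_, fun s t => ?_, fun t ht u => ?_,
    fun t ht u => ?_⟩, fun s t => ?_, fun s t => ?_, xs, ys, fun t ht => ?_, fun t ht => ?_, xj, yj,
    fun e he => ?_, fun e he => ?_, fun s t => ?_, fun s t => ?_, three⟩⟩
  · exact injA _ (xm _) _ (mul_mem (xm s) (xm t)) (by rw [N.φ_mul (mA (xm s)) (mA (xm t)), xe, xe, xe, SL2.uu_add])
  · exact injD _ (ym _) _ (mul_mem (ym s) (ym t)) (by rw [N.φ_mul (mD (ym s)) (mD (ym t)), ye, ye, ye, SL2.ll_add])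
  · obtain ⟨k1, k2, k3, -⟩ := wk t ht
    exact injD _ (k3 _ (xm u)) _ (ym _) (by rw [N.φ_conj k1 (mA (xm u)), k2, xe, ye, b1_conj_x ht])
  · obtain ⟨k1, k2, -, k3⟩ := wk t ht
    exact injA _ (k3 _ (ym u)) _ (xm _) (by rw [N.φ_conj k1 (mD (ym u)), k2, xe, ye, b1_conj_y ht])
  · rw [← zadd]; simp
  · rw [← zadd]; simp
  · exact ((h.mem_eg hb).1 ((memB _ (zm _)).2 (by rw [ze]; rfl))).resolve_right
      (z1 _ fun e => ht (congrFun e 0))
  · exact ((h.mem_eg hc).1 ((memC _ (zm _)).2 (by rw [ze]; rfl))).resolve_right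
      (z1 _ fun e => ht (congrFun e 1))
  · have k := (h.mem_eg hb).2 (.inl he)
    have k1 := (memB e (mB k)).1 k
    refine ⟨N.π e 0, fun e0 => h.ri.ne e he.1 ?_, zeq e (mB k) _ (Push.vec2_ext rfl k1)⟩
    exact (N.π_eq_zero e (mB k)).1 (Push.vec2_ext e0 k1)
  · have k := (h.mem_eg hc).2 (.inl he)
    have k1 := (memC e (mC k)).1 k
    refine ⟨N.π e 1, fun e0 => h.ri.ne e he.1 ?_, zeq e (mC k) _ (Push.vec2_ext k1 rfl)⟩
    exact (N.π_eq_zero e (mC k)).1 (Push.vec2_ext k1 e0)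
  · rw [cmz _ (mA (xm t)) (h.b1_inv (xm t)), xe, Push.act_uu]
    congr 1
    refine Push.vec2_ext (by simp [mul_comm]) ?_
    simp only [Pi.add_apply, Matrix.cons_val_one, Matrix.cons_val_zero]
    linear_combination s * two
  · rw [cmz _ (mD (ym t)) (h.b1_inv (ym t)), ye, Push.act_ll]
    congr 1
    refine Push.vec2_ext ?_ (by simp [mul_comm])
    simp only [Pi.add_apply, Matrix.cons_val_zero]
    linear_combination s * two

theorem b1_x {F : Type} [Field F] (C : Co D F a b c d) : e ∈ h.Eg a ↔ ∃ t, C.x t = e := by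
  rw [h.mem_eg (C.x_sm 1 one_ne_zero).2.1]
  constructor
  · rintro (he | rfl)
    · exact (C.x_surj e he).imp fun _ k => k.2
    · exact ⟨0, C.st.x_zero⟩
  · rintro ⟨t, rfl⟩
    by_cases ht : t = 0
    · exact .inr (ht ▸ C.st.x_zero)
    · exact .inl (C.x_sm t ht)

theorem b1_y {F : Type} [Field F] (C : Co D F a b c d) : e ∈ h.Eg d ↔ ∃ t, C.y t = e := by
  rw [h.mem_eg (C.y_sm 1 one_ne_zero).2.1]
  constructor
  · rintro (he | rfl)
    · exact (C.y_surj e he).imp fun _ k => k.2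
    · exact ⟨0, C.st.y_zero⟩
  · rintro ⟨t, rfl⟩
    by_cases ht : t = 0
    · exact .inr (ht ▸ C.st.y_zero)
    · exact .inl (C.y_sm t ht)

theorem co_card {F : Type} [Field F] [Fintype F] (C : Co D F a b c d) : Fintype.card F = Nat.card (h.Eg a) := by
  rw [← Nat.card_eq_fintype_card]
  refine Nat.card_eq_of_bijective (fun t => ⟨C.x t, (h.b1_x C).2 ⟨t, rfl⟩⟩) ⟨fun s t e => ?_, fun e => ?_⟩
  · by_contra hne
    refine h.ri.ne _ (C.x_sm _ (sub_ne_zero.2 hne)).1 ?_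
    rw [sub_eq_add_neg, C.st.x_add, C.st.x_neg, show C.x s = C.x t from congrArg Subtype.val e, mul_inv_cancel]
  · obtain ⟨t, ht⟩ := (h.b1_x C).1 e.2
    exact ⟨t, Subtype.ext ht⟩

theorem co_psl2 {F : Type} [Field F] [Fintype F] (C : Co D F a b c d) (hn : ¬ Sm D a d) :
    IsPSL2PairOver F (h.Eg a) (h.Eg d) := by
  obtain ⟨φ, h1, h2⟩ := C.st.exists_hom_of_finite
  have e1 : (upperUnipotentSL2 F).map φ = h.Eg a := by
    ext g
    rw [h.b1_x C]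
    constructor
    · rintro ⟨k, hk, rfl⟩
      obtain ⟨t, rfl⟩ := mem_upper_iff.1 hk
      exact ⟨t, (h1 t).symm⟩
    · rintro ⟨t, rfl⟩
      exact ⟨_, uu_mem t, h1 t⟩
  have e2 : (lowerUnipotentSL2 F).map φ = h.Eg d := by
    ext g
    rw [h.b1_y C]
    constructor
    · rintro ⟨k, hk, rfl⟩
      obtain ⟨t, rfl⟩ := mem_lower_iff.1 hk
      exact ⟨t, (h2 t).symm⟩
    · rintro ⟨t, rfl⟩
      exact ⟨_, ll_mem t, h2 t⟩
  have ha := (C.x_sm 1 one_ne_zero).2.1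
  have := psl2_of_hom φ (by
    rw [e1, e2]
    exact fun e => h.ri.ne a ha (h.eg_inter ha (C.y_sm 1 one_ne_zero).2.1 hn (h.b1_self ha) (e ▸ h.b1_self ha)))
  rwa [e1, e2] at this

end RS

end CfsgLib.RootInv
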