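import Cfsg.Agent.Lib.RootInv.RTB0

/-! Root involution theorem, B2: rank two, lines through a point. -/

set_option autoImplicit false

namespace CfsgLib.RootInv

open Cfsg CfsgLib.RootSub
open scoped commutatorElement

universe u

variable {G : Type u} [Group G] {D : Set G} {a b c d e f g i j k l m p q r s t u v w x y z : G}

namespace RS

variable [Finite G] (h : RS D)
include h

variable (h2 : Rk2 D)
include h2

theorem on_line (c1 : Cn D b u) (c2 : Cn D b c) (hc : Commute u c) : ∃ e ∈ h.Eg b, ∃ c', Sm D c' c ∧ u = c' * e := by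
  rcases h2.iso b c c2 u c1 hc with e1 | ⟨p, e1, -, e2⟩
  exacts [⟨1, one_mem _, u, e1, (mul_one u).symm⟩, ⟨p, h.eg_of_sm e1, _, e2, (h.ri.mm' e1.1 u).symm⟩]

theorem line_trans (c1 : Cn D p u) (c2 : Cn D p v) (c3 : Cn D p y) (e1 : Commute u v) (e2 : Commute v y) : Commute u y := by
  obtain ⟨e, he, c, e3, rfl⟩ := h.on_line h2 c1 c2 e1
  exact (h.sm_comm' e3.symm c3.mem' e2).mul_left (h.eg_comm c3.mem he c3.mem' (h.cn_comm c3).symm).symm

theorem fo_of_line (c1 : Cn D p u) (c2 : Cn D p v) (c3 : Cn D p y) (e1 : Commute u v) (f1 : Fo v y) : Fo u y :=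
  ((h.cn_nb c1 c3).resolve_left fun c => h.ri.fo_not_comm c2.mem' c3.mem' f1 (h.line_trans h2 c2 c1 c3 e1.symm c)).1

theorem cn_of_line (c1 : Cn D p u) (c2 : Cn D p v) (e1 : Commute u v) : Sm D u v ∨ Cn D u v :=
  h2.comm u c1.mem' v c2.mem' e1

theorem move_on_line (c1 : Cn D p u) (c2 : Cn D p v) (c3 : Cn D p y) (e1 : Commute u v) (f1 : Fo y u) :
    ∃ e ∈ h.Eg y, Sm D (e * u * e) v := by
  obtain ⟨q, hq, u', e2, rfl⟩ := h.on_line h2 c2 c1 e1.symm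
  rcases (h.mem_eg c1.mem).1 hq with e3 | rfl
  · have f2 := h.sm_fo' e2.symm c3.mem' f1
    obtain ⟨f, e4, rfl⟩ := h.cm_surj c3.mem' e2.1 f2 (e3.trans (h.cn_common f2 c3 (c1.of_right e2.symm)).symm)
    refine ⟨f, h.eg_of_sm e4, ?_⟩
    rw [← h.ri.conj_eq' e4.1 e2.1 (h.sm_fo e4.symm e2.1 f2)]
    exact h.sm_cj e2.symm (h.ri.sq f e4.1)
  · exact ⟨1, one_mem _, by simpa using e2.symm⟩

theorem nm (hm : m ∈ D) (c1 : Cn D p u) (c2 : Cn D p v) (f1 : Fo u v) : ¬ Sm D (m * u * m) v := fun e1 => by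
  have q := h.ri.sq m hm
  have e2 := h.sm_cj e1 q
  rw [h.ri.cj_cj hm] at e2
  have e3 := h.sm_cm e1 e2.symm (by simpa only [inv_eq_of_sq q] using (fo_conj m).2 f1)
  have e4 : Fx D m (cm u v) := by
    rw [Fx, ← cm_conj, inv_eq_of_sq q, ← h.ri.cm_symm c1.mem' c2.mem' f1]; exact e3
  have e5 := h.sm_comm (h.cn_common f1 c1 c2) hm (h.comm_of_fx hm e4)
  obtain ⟨e, he, e6⟩ := h.md_line ((h2.comm p c1.mem m hm e5.symm).elim
    (fun e => h.md_of_eg c1.mem (h.eg_of_sm e.symm)) fun c => mem_md (h.adj c)) c1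
  rw [inv_eq_of_sq q] at e6
  exact h.ri.fo_not_comm c1.mem' c2.mem' f1 (h.sm_comm e1 c1.mem' (e6 ▸ (Commute.refl u).mul_right
    (h.eg_comm c1.mem he c1.mem' (h.cn_comm c1).symm)))

theorem i_move (c1 : Cn D b c) (c2 : Cn D b u) (e1 : Commute u c) (h3 : i ∈ Md D b) (h4 : i ∈ Md D c) : i ∈ Md D u := by
  obtain ⟨a, c3, f1⟩ := h.exists_fo_cn c1
  obtain ⟨e, he, e2⟩ := h.move_on_line h2 c1 c2 c3 e1.symm f1.symm
  have := h.md_conj (h.i_conj c1 h3 h4 (h.md_of_cn c3 he)) e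
  rwa [inv_eq_of_sq (h.eg_sq he), h.md_congr e2, show e * (e * i * e) * e = e * e * i * (e * e) by
    simp only [mul_assoc], h.eg_sq he, one_mul, mul_one] at this

theorem e_lem (c1 : Cn D b a) (c2 : Cn D b c) (f1 : Fo a c) (h3 : r ∈ Md D c) (h4 : a * r * a ∈ Md D c) : r ∈ Md D b := by
  have ha := c1.mem'
  have q := h.ri.sq a ha
  have c3 : Cn D c (a * c * a) := cn_of_adj (h.ri.conj_eq (b := a) c2.mem' ▸ h.ri.ln_mul
    (h.ri.fo_ln c2.mem' ha f1.symm)) fun e => h.ri.fo_not_comm ha c2.mem' f1 (h.comm_of_fx ha ((fx_iff q).2 e.symm))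
  have := h.i_move h2 c3 (h.cn_symm c2) (((h.cn_comm c1).mul_right (h.cn_comm c2)).mul_right (h.cn_comm c1)) h4
    (by simpa only [inv_eq_of_sq q] using h.md_conj h3 a)
  have m := mem_md (h.adj c1)
  simpa only [h.ri.cj_cj ha] using mul_mem (mul_mem m this) m

theorem g1 (c1 : Cn D b a) (c2 : Cn D b c) (c3 : Cn D b u) (f1 : Fo a c) (f2 : Fo u c) :
    ∃ r ∈ Md D c, (∀ e ∈ h.Eg b, Commute r e) ∧ Commute (r * a * r⁻¹) u := by
  have hb := c1.mem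
  have hc := c2.mem'
  obtain ⟨a', e1, s1⟩ := h.act_like c1 c2 c3 f1 f2
  have c1' := c1.of_right e1.symm
  obtain ⟨d, hp⟩ := h.pa_ext (h.cn_symm c1') c2 (h.sm_fo e1.symm hc f1)
  obtain ⟨d', e2, o1⟩ := h.t3 hp
  have c4 := hp.c3.of_right e2.symm
  have f3 := h.sm_fo' e2.symm hb hp.f2
  have ha := e1.1
  have hd := e2.1
  have ma := mem_md (h.adj c1')
  have md := mem_md (h.adj c4)
  have ms := mul_mem (mem_md (h.adj c3)) ma
  have e3 := h.cn_common f3 (h.cn_symm c2) c4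
  have r1 : a' * d' * (u * a') * (a' * d')⁻¹ ∈ Md D c := by
    have := h.md_conj ms (a' * d')
    rwa [show a' * d' * b * (a' * d')⁻¹ = a' * (d' * b * d') * a' by
      simp only [mul_inv_rev, h.ri.inv ha, h.ri.inv hd, mul_assoc], h.ri.conj_eq hb, h.ri.cj ha,
      h.ri.cj_of ha (h.cn_comm c1').symm, h.ri.conj_eq e3.1, (h.ri.tb hd o1 (h.adj (h.cn_symm c1')) f3).2,
      h.ri.cm_comm hb hd f3, h.ri.mm hb, h.md_congr e3] at this
  have r2 : ∀ e ∈ h.Eg b, Commute (a' * d' * (u * a') * (a' * d')⁻¹) e := fun e he => by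
    have := commute_conj ((h.md_comm hb ms he).mul_right (s1 _ (h.eg_congr e3 ▸ h.cm_eg hb hd f3 he (h.eg_self hd))))
      (a' * d')
    rwa [show a' * d' * (e * cm e d') * (a' * d')⁻¹ = a' * (d' * (e * e * d' * e * d') * d') * a' by
      simp only [mul_inv_rev, h.ri.inv ha, h.ri.inv hd, mul_assoc, cm], h.eg_sq he, one_mul, h.ri.cj_cj hd,
      h.ri.cj_of ha (h.md_comm hb ma he)] at this
  refine ⟨_, r1, r2, ?_⟩
  generalize hr : a' * d' * (u * a') * (a' * d')⁻¹ = r at r1 r2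
  refine h.sm_comm' (h.sm_conj e1 r) c3.mem' (h.ri.commute_of_mem c3.mem' (h.conj ha r) (h.i_sq c2
    (mul_mem (mem_md (h.adj c3)) (h.md_fx ma (fx_of_comm hb (r2 b (h.eg_self hb))))) ?_)).symm
  have := mul_mem (mul_mem (mul_mem (h.md_fx md (fx_of_comm hc (s1 c (h.eg_self hc))))
    (h.md_of_cn (h.cn_symm c2) (h.md_sq hb ms))) md) (inv_mem r1)
  convert this using 1
  rw [← mul_assoc, mul_left_inj, ← hr]
  simp only [mul_inv_rev, h.ri.inv ha, h.ri.inv hd, h.ri.inv c3.mem', mul_assoc, h.ri.mm ha, h.ri.mm c3.mem',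
    h.ri.sq a' ha, mul_one]

theorem stab (c1 : Cn D b a) (c2 : Cn D b c) (f1 : Fo a c) (h3 : r ∈ Md D c) (h4 : ∀ e ∈ h.Eg b, Commute r e)
    (h5 : Commute (r * a * r⁻¹) a) : r ∈ Md D b := by
  have hb := c1.mem
  have ha := c1.mem'
  have hc := c2.mem'
  have c3 := h.cn_conj c1 r
  rw [(h4 b (h.eg_self hb)).eq, mul_inv_cancel_right] at c3
  obtain ⟨e, he, a', e1, e2⟩ := h.on_line h2 c3 c1 h5
  have q1 := h.md_comm hc h3 (h.eg_self hc)
  have q2 : Commute (r * a * r⁻¹ * a) c := b0_comm_of_cj (h.ri.sq _ c3.mem') (h.ri.sq a ha) (by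
    rw [show r * a * r⁻¹ * c * (r * a * r⁻¹) = r * (a * (r⁻¹ * c * r) * a) * r⁻¹ by group, q1.inv_left.eq,
      inv_mul_cancel_right, h.ri.conj_eq hc, (q1.mul_right (h4 _ (h.eg_of_sm (h.cn_common f1.symm c2 c1)))).eq,
      mul_inv_cancel_right])
  have e3 : r * a * r⁻¹ * a = a' * a * e := by
    rw [e2, mul_assoc, ← (h.eg_comm hb he ha (h.cn_comm c1).symm).eq, mul_assoc]
  rw [e3] at q2
  rw [h.eg_eq_one ha hc (h.ri.fo_not_comm ha hc f1) (mul_mem (h.eg_of_sm e1) (h.eg_self ha)) (by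
    simpa using q2.mul_left (h.eg_comm hb he hc (h.cn_comm c2).symm).symm.inv_left), one_mul] at e3
  refine inv_mem_iff.1 (h.e_lem h2 c1 c2 f1 (inv_mem h3) ?_)
  have := mul_mem (inv_mem h3) (e3 ▸ h.md_of_cn (h.cn_symm c2) he)
  rwa [mul_assoc r, mul_assoc r, inv_mul_cancel_left] at this

theorem st1 (c1 : Cn D u p) (c2 : Cn D p v) (c3 : Cn D p w) (f1 : Fo u v) (f2 : Fo u w) :
    ∃ g ∈ Md D u, Fx D g p ∧ Sm D (g * v * g⁻¹) w := by
  obtain ⟨r, r1, r2, r3⟩ := h.g1 h2 c2 (h.cn_symm c1) c3 f1.symm f2.symm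
  have q := r2 p (h.eg_self c2.mem)
  have c4 := h.cn_conj c2 r
  rw [q.eq, mul_inv_cancel_right] at c4
  obtain ⟨e, he, e1⟩ := h.move_on_line h2 c4 c3 (h.cn_symm c1) r3
    (h.fo_of_line h2 c4 c3 (h.cn_symm c1) r3 f2.symm).symm
  refine ⟨e * r, mul_mem (h.md_of_eg c1.mem he) r1,
    fx_of_comm c2.mem ((h.eg_comm c1.mem he c2.mem (h.cn_comm c1).symm).symm.mul_left q), ?_⟩
  simpa only [mul_inv_rev, inv_eq_of_sq (h.eg_sq he), mul_assoc] using e1

theorem st2 (h1 : Pa D y u p v) (h3 : Pa D y u p w) :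
    ∃ g, Fx D g y ∧ Fx D g u ∧ Fx D g p ∧ Sm D (g * v * g⁻¹) w := by
  obtain ⟨g, g1, g2, g3⟩ := h.st1 h2 h1.c2 h1.c3 h3.c3 h1.f2 h3.f2
  have hu := h1.c2.mem
  have hp := h1.c3.mem
  have c1 := h.cn_symm h1.c1
  have q := h.md_comm hu g1 (h.eg_self hu)
  have c2 := h.cn_conj c1 g
  rw [q.eq, mul_inv_cancel_right] at c2
  obtain ⟨f, hf, e0⟩ := h.md_line g1 c1
  have q2 : Commute (g * y * g⁻¹) y :=
    e0 ▸ (Commute.refl y).mul_left (h.eg_comm hu hf c1.mem' (h.cn_comm c1).symm).symm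
  obtain ⟨e, he, e1⟩ := h.move_on_line h2 c2 c1 h1.c2 q2 (h.fo_of_line h2 c2 c1 h1.c2 q2 h1.f1).symm
  have k : ∀ x ∈ D, Commute x p → Fx D e x := fun x hx c => fx_of_comm hx (h.eg_comm hp he hx c).symm
  refine ⟨e * g, ?_, h.fx_mul (k u hu (h.cn_comm h1.c2)) (fx_of_comm hu q), h.fx_mul (k p hp rfl) g2, ?_⟩
  · simpa only [Fx, mul_inv_rev, inv_eq_of_sq (h.eg_sq he), mul_assoc] using e1
  · simpa only [mul_inv_rev, mul_assoc] using (h.sm_conj g3 e).trans (k w h3.c3.mem' (h.cn_comm h3.c3).symm)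

theorem cl_comm_eq (hd : d ∈ D) : Subgroup.closure (commutingMembers D d) = Md D d := by
  refine le_antisymm ((Subgroup.closure_le _).2 fun x hx => ?_) (Subgroup.closure_mono ?_)
  · exact (h2.comm d hd x hx.1 hx.2.symm).elim (fun e => h.md_of_eg hd (h.eg_of_sm e.symm)) fun c => mem_md (h.adj c)
  · rintro x (hx | rfl)
    exacts [⟨hx.1.1, hx.1.2.1⟩, ⟨hd, rfl⟩]

end RS

end CfsgLib.RootInv
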