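import Cfsg.Agent.Lib.RootInv.RTB2
import Cfsg.Agent.Lib.SylT.PC

/-! Root involution theorem, B3: the bound for root groups of order two. -/

set_option autoImplicit false

namespace CfsgLib.RootInv

open Cfsg CfsgLib.RootSub
open scoped commutatorElement

universe u

variable {G : Type u} [Group G] {D : Set G} {a b c d e f g i j k l m p q r s t u v w x y z : G}

namespace RS

variable [Finite G] (h : RS D)
include h

theorem b3_card (hb : b ∈ D) (L : List G) (hL : ∀ x ∈ L, x ∈ Md D b) : ∃ S : Subgroup G, h.Eg b ≤ S ∧ S ≤ Md D b ∧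
    (∀ x ∈ L, x ∈ S) ∧ Nat.card S ≤ 2 ^ L.length * Nat.card (h.Eg b) := by
  induction L with
  | nil => exact ⟨_, le_rfl, fun e he => h.md_of_eg hb he, by simp, by simp⟩
  | cons x L ih =>
    obtain ⟨S, s1, s2, s3, s4⟩ := ih fun y hy => hL y (List.mem_cons_of_mem _ hy)
    have hx := hL x List.mem_cons_self
    refine ⟨S ⊔ Subgroup.zpowers x, s1.trans le_sup_left, sup_le s2 (Subgroup.zpowers_le.2 hx), ?_,
      (SylT.card_sup_le (s1 (h.md_sq hb hx)) fun a ha => ?_).2.trans ?_⟩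
    · simp only [List.forall_mem_cons]
      exact ⟨Subgroup.mem_sup_right (Subgroup.mem_zpowers x), fun y hy => Subgroup.mem_sup_left (s3 y hy)⟩
    · have := mul_mem (s1 (h.comm_mem hb hx (s2 ha))) ha
      rwa [commutatorElement_def, inv_mul_cancel_right] at this
    · rw [List.length_cons, pow_succ', mul_assoc]; omega

theorem b3_anti (hq : ∀ a b, Sm D a b → a = b) (hb : b ∈ D) (hx : x ∈ Md D b) (hy : y ∈ Md D b) (hz : z ∈ Md D b)
    (n1 : ¬ Commute y x) (n2 : ¬ Commute z x) : Commute (y * z) x := by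
  have k : ∀ y ∈ Md D b, ¬ Commute y x → y * x = b * x * y := fun y hy n => by
    rw [← hq _ _ (((h.mem_eg hb).1 (h.comm_mem hb hy hx)).resolve_right fun e =>
      n (commutatorElement_eq_one_iff_commute.1 e)), commutatorElement_def]
    group
  rw [Commute, SemiconjBy, mul_assoc, k z hz n2, mul_assoc b, ← mul_assoc y, (h.md_comm hb hy (h.eg_self hb)).eq,
    mul_assoc b, ← mul_assoc y, k y hy n1, mul_assoc b, mul_assoc b, h.ri.mm hb, mul_assoc]

theorem card_md (h2 : Rk2 D) (hq : ∀ a b, Sm D a b → a = b) (hd : d ∈ D) : Nat.card (Md D d) ≤ 2 ^ 10 := by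
  obtain ⟨c, c2⟩ := h.exists_cn hd
  obtain ⟨a, c1, f1⟩ := h.exists_fo_cn c2
  replace f1 := f1.symm
  have ha := c1.mem'
  have hc := c2.mem'
  let R := Md D c ⊓ Subgroup.centralizer {d}
  have rd : ∀ r ∈ R, Commute r d := fun r hr => Subgroup.mem_centralizer_singleton_iff.1 hr.2
  have rE : ∀ r ∈ R, ∀ e ∈ h.Eg d, Commute r e := fun r hr e he => by
    rcases (h.mem_eg hd).1 he with e1 | rfl
    exacts [(hq _ _ e1).symm ▸ rd r hr, Commute.one_right r]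
  have cu : ∀ r ∈ R, Cn D d (r * a * r⁻¹) := fun r hr => by
    have := h.cn_conj c1 r
    rwa [(rd r hr).eq, mul_inv_cancel_right] at this
  have mu := fun r hr => mem_md (h.adj (cu r hr))
  have nc : ∀ r ∈ R, ∀ s ∈ R, r⁻¹ * s ∉ Md D d → ¬ Commute (s * a * s⁻¹) (r * a * r⁻¹) := fun r hr s hs n c =>
    n (h.stab h2 c1 c2 f1 (mul_mem (inv_mem hr) hs).1 (rE _ (mul_mem (inv_mem hr) hs)) (by
      simpa [mul_assoc] using commute_conj c r⁻¹))
  have pm : ∀ r ∈ R, ∀ s ∈ R, a * (r * a * r⁻¹) * (s * a * s⁻¹ * (s * r * a * (s * r)⁻¹)) ∈ Md D d ∧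
      a * (r * a * r⁻¹) * (s * a * s⁻¹ * (s * r * a * (s * r)⁻¹)) ∈ Md D c := fun r hr s hs => by
    have m1 := mul_mem (mem_md (h.adj c1)) (mu r hr)
    refine ⟨mul_mem m1 (mul_mem (mu s hs) (mu _ (mul_mem hs hr))), ?_⟩
    have q1 := h.md_comm hc hr.1 (h.eg_self hc)
    have q2 : Commute (a * (r * a * r⁻¹)) c := b0_comm_of_cj (h.ri.sq a ha) (h.ri.sq _ (cu r hr).mem') (by
      rw [show r * a * r⁻¹ * c * (r * a * r⁻¹) = r * (a * (r⁻¹ * c * r) * a) * r⁻¹ by group, q1.inv_left.eq,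
        inv_mul_cancel_right, h.ri.conj_eq hc, (q1.mul_right (rE r hr _ (h.eg_of_sm (h.cn_common f1.symm c2 c1)))).eq,
        mul_inv_cancel_right])
    have := mul_mem (mul_mem (h.md_fx hs.1 (fx_of_comm hc q2)) (h.md_of_cn (h.cn_symm c2) (h.md_sq hd m1)))
      (inv_mem hs.1)
    convert this using 1
    group
  obtain ⟨L, l1, l2, l3⟩ : ∃ L : List G, L.length ≤ 8 ∧ (∀ x ∈ L, x ∈ R) ∧ ∀ r ∈ R, ∃ x ∈ L, x⁻¹ * r ∈ Md D d := by
    by_contra! hn
    have o := R.one_mem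
    obtain ⟨r1, m1, n1⟩ := hn [1] (by simp) (by simp)
    obtain ⟨r2, m2, n2⟩ := hn [1, r1⁻¹] (by simp) (by simp [m1])
    have m12 := mul_mem m1 m2
    obtain ⟨r3, m3, n3⟩ := hn [1, r1, r2, r1 * r2] (by simp) (by simp [m1, m2, m12])
    have i3 := inv_mem m3
    obtain ⟨r4, m4, n4⟩ := hn [1, r1, r2, r1 * r2, r3⁻¹ * 1, r3⁻¹ * r1, r3⁻¹ * r2, r3⁻¹ * (r1 * r2)] (by simp) (by
      simp only [List.forall_mem_cons]
      exact ⟨o, m1, m2, m12, mul_mem i3 o, mul_mem i3 m1, mul_mem i3 m2, mul_mem i3 m12, by simp⟩)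
    have m34 := mul_mem m3 m4
    simp only [List.forall_mem_cons] at n1 n2 n3 n4
    have ma := mem_md (h.adj c1)
    have e1 : 1 * a * 1⁻¹ = a := by simp
    have n5 : ∀ x, (r3⁻¹ * x)⁻¹ * r4 ∉ Md D d → x⁻¹ * (r3 * r4) ∉ Md D d := fun x hx => by
      simpa [mul_assoc] using hx
    have k2 : ∀ x ∈ R, x⁻¹ * r3 ∉ Md D d → (r3⁻¹ * x)⁻¹ * r4 ∉ Md D d →
        Commute (r3 * a * r3⁻¹ * (r3 * r4 * a * (r3 * r4)⁻¹)) (x * a * x⁻¹) := fun x hx p1 p2 =>
      h.b3_anti hq hd (mu x hx) (mu _ m3) (mu _ m34) (nc x hx _ m3 p1) (nc x hx _ m34 (n5 x p2))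
    have k : ∀ x ∈ R, 1⁻¹ * x ∉ Md D d → x⁻¹ * r3 ∉ Md D d → x⁻¹ * r4 ∉ Md D d → (r3⁻¹ * x)⁻¹ * r4 ∉ Md D d →
        Commute (a * (r4 * a * r4⁻¹) * (r3 * a * r3⁻¹ * (r3 * r4 * a * (r3 * r4)⁻¹))) (x * a * x⁻¹) :=
      fun x hx p0 p1 p2 p3 => (h.b3_anti hq hd (mu x hx) ma (mu _ m4)
        (fun c => nc 1 o x hx p0 (e1.symm ▸ c.symm)) (nc x hx _ m4 p2)).mul_left (k2 x hx p1 p3)
    have q := h.i_comm c2 (pm _ m4 _ m3).1 (pm _ m4 _ m3).2 (pm _ m2 _ m1).1 (pm _ m2 _ m1).2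
    have q1 := (q.mul_right ((k _ m1 n1.1 n3.2.1 n4.2.1 n4.2.2.2.2.2.1).mul_right (k _ m12 (by simpa using n2.2.1)
      n3.2.2.2.1 n4.2.2.2.1 n4.2.2.2.2.2.2.2.1)).inv_right).mul_right
        (k _ m2 n2.1 n3.2.2.1 n4.2.2.1 n4.2.2.2.2.2.2.1).inv_right
    rw [mul_inv_cancel_right, mul_inv_cancel_right] at q1
    have q2 := (Commute.refl a).inv_left.mul_left (q1.mul_left (e1 ▸ k2 1 o n3.1 n4.2.2.2.2.1).inv_left)
    rw [mul_inv_cancel_right, inv_mul_cancel_left] at q2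
    exact nc 1 o _ m4 n4.1 (e1.symm ▸ q2)
  obtain ⟨S, s1, -, s3, s4⟩ := h.b3_card hd (c :: L.map fun x => x * a * x⁻¹) (by
    simp only [List.forall_mem_cons, List.forall_mem_map]
    exact ⟨mem_md (h.adj c2), fun x hx => mu x (l2 x hx)⟩)
  simp only [List.forall_mem_cons, List.forall_mem_map, List.length_cons, List.length_map] at s3 s4
  have ln : ∀ u v, Cn D d u → Cn D d v → Commute u v → v ∈ S → u ∈ S := fun u v c3 c4 e hv => by
    obtain ⟨e, he, c', e1, rfl⟩ := h.on_line h2 c3 c4 e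
    exact mul_mem ((hq _ _ e1).symm ▸ hv) (s1 he)
  have hle : Md D d ≤ S := (Subgroup.closure_le _).2 fun u hu => by
    rcases h.near_of_md hd (hu.elim (·.1.1) fun e => Eq.symm e ▸ hd) (Subgroup.subset_closure hu) with e1 | c3
    · exact s1 (h.eg_of_sm e1)
    rcases h.cn_nb c3 c2 with e | e
    · exact ln u c c3 c2 e s3.1
    obtain ⟨r, r1, r2, r3⟩ := h.g1 h2 c1 c2 c3 f1 e.1
    have hr : r ∈ R := ⟨r1, Subgroup.mem_centralizer_singleton_iff.2 (r2 d (h.eg_self hd))⟩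
    obtain ⟨x, hx, i1⟩ := l3 r hr
    obtain ⟨e, he, e1⟩ := h.md_line i1 c1
    refine ln u _ c3 (cu r hr) r3.symm ?_
    rw [show r * a * r⁻¹ = x * (x⁻¹ * r * a * (x⁻¹ * r)⁻¹) * x⁻¹ by group, e1, ← conj_mul,
      (rE x (l2 x hx) e he).eq, mul_inv_cancel_right]
    exact mul_mem (s3.2 x hx) (s1 he)
  have c5 : Nat.card (h.Eg d) ≤ 2 := by
    rw [← h.ri.ord hd, ← Nat.card_zpowers]
    refine Subgroup.card_le_of_le fun e he => ?_
    rcases (h.mem_eg hd).1 he with e1 | rfl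
    exacts [(hq _ _ e1).symm ▸ Subgroup.mem_zpowers d, one_mem _]
  exact (Subgroup.card_le_of_le hle).trans (s4.trans (Nat.mul_le_mul
    (Nat.pow_le_pow_right two_pos (show L.length + 1 ≤ 9 by omega)) c5))

end RS

end CfsgLib.RootInv
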