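import Cfsg.Agent.Lib.RootInv.RTB2

/-! Root involution theorem, B4: the centralizer of the SL2 is transitive on the lines. -/

set_option autoImplicit false

namespace CfsgLib.RootInv

open Cfsg CfsgLib.RootSub
open scoped commutatorElement

universe u

variable {G : Type u} [Group G] {D : Set G} {a b c d e f g i j k l m p q r s t u v w x y z : G}

namespace RS

variable [Finite G] (h : RS D)
include h

theorem b4_self (hx : x ∈ D) : x ∈ h.Eg x := (h.mem_eg hx).2 (Or.inl (Sm.rfl' hx))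

theorem b4_eg (e1 : Sm D x y) : x ∈ h.Eg y := (h.mem_eg e1.2.1).2 (Or.inl e1)

omit [Finite G] in
theorem b4_braid (ha : a ∈ D) (hd : d ∈ D) (h3 : orderOf (a * d) = 3) : a * d * a = d * a * d := by
  have := pow_orderOf_eq_one (a * d)
  rw [h3, show (a * d) ^ 3 = a * d * a * (d * a * d) by simp only [pow_succ, pow_zero, one_mul, mul_assoc]] at this
  rw [eq_inv_of_mul_eq_one_left this, mul_inv_rev, mul_inv_rev, h.ri.inv ha, h.ri.inv hd, mul_assoc]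

theorem b4_cm (hp : Pa D a b c d) (he : e ∈ h.Eg c) : cm e a ∈ h.Eg b ∧ a * e * a = e * cm e a := by
  have := h.cm_eg hp.c3.mem hp.c1.mem hp.f1.symm he (h.b4_self hp.c1.mem)
  rw [h.eg_congr (h.toND.cn_common hp.f1.symm hp.c2 (h.toND.cn_symm hp.c1))] at this
  exact ⟨this, by simp only [cm, ← mul_assoc]; rw [h.eg_sq he, one_mul]⟩

theorem b4_one (hp : Pa D a b c d) (h3 : orderOf (a * d) = 3) (hr : r ∈ Md D c) (hb : ∀ e ∈ h.Eg b, Commute r e)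
    (hd : ∀ e ∈ h.Eg d, Commute r e) : a * d * a * r * (a * d * a) ∈ Md D b ∧ ∃ s z e, s ∈ Md D b ∧
      (∀ x ∈ h.Eg a, Commute s x) ∧ (∀ x ∈ h.Eg c, Commute s x) ∧ z ∈ Md D b ∧ z ∈ Md D c ∧
      (∀ x ∈ h.Eg a, Commute z x) ∧ (∀ x ∈ h.Eg d, Commute z x) ∧ e ∈ h.Eg b ∧
      a * r * a = r * s * (z * r * (z * r)) ∧ a * d * a * r * (a * d * a) = z * e * s := by
  have N := h.toND
  have ha := hp.c1.mem
  have hb' := hp.c2.mem
  have hc := hp.c3.mem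
  have hd' := hp.c3.mem'
  have cba := N.cn_symm hp.c1
  have aM : a ∈ Md D b := h.md_of_cn cba (h.b4_self ha)
  have aa := h.ri.sq a ha
  have nM : r⁻¹ * a * r * a ∈ Md D b := mul_mem (by
    simpa using h.md_fx aM (fx_of_comm hb' (hb b (h.b4_self hb')).inv_left)) aM
  have ne : ∀ e ∈ h.Eg c, Commute (r⁻¹ * a * r * a) e := fun e he => by
    have c2 := h.md_comm hc hr he
    have c1 : Commute r (a * e * a) := by rw [(h.b4_cm hp he).2]; exact c2.mul_right (hb _ (h.b4_cm hp he).1)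
    calc r⁻¹ * a * r * a * e = r⁻¹ * a * (r * (a * e * a)) * a := by simp only [mul_assoc, aa, mul_one]
      _ = r⁻¹ * e * (a * r * a) := by rw [c1.eq]; simp only [mul_assoc, h.ri.mm ha]
      _ = _ := by rw [c2.inv_left.eq]; simp only [mul_assoc]
  obtain ⟨g, hg, sa⟩ := h.md_dec hp.c2 cba hp.f1.symm nM
  have sM : r⁻¹ * a * r * a * g ∈ Md D b := mul_mem nM (h.md_of_cn hp.c2 hg)
  have sc : ∀ e ∈ h.Eg c, Commute (r⁻¹ * a * r * a * g) e := fun e he =>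
    (ne e he).mul_left (h.eg_commute hc hc (Commute.refl c) hg he)
  have e1 : a * r * a = r * (r⁻¹ * a * r * a * g) * g := by
    simp only [mul_assoc, h.eg_sq hg, mul_one, mul_inv_cancel_left]
  generalize r⁻¹ * a * r * a * g = s at sa sM sc e1
  have br := h.b4_braid ha hd' h3
  have wc : Sm D (a * d * a * c * (a * d * a)) b := by
    rw [h.w_conj hp h3 (h.b4_self hc)]; exact N.cn_common hp.f1.symm hp.c2 cba
  have wcj := fun e (he : e ∈ h.Eg c) => h.w_conj hp h3 he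
  have wa : a * d * a * a * (a * d * a) = d := by
    rw [h.ri.mm' ha, br, ← mul_assoc, ← mul_assoc, h.ri.mm' hd', aa, one_mul]
  have e2 : a * d * a * r * (a * d * a) = r * (d * s * d) * g := by
    have c1 := hd d (h.b4_self hd')
    have c2 := h.eg_comm hc hg hd' (N.cn_comm hp.c3).symm
    calc a * d * a * r * (a * d * a) = d * (a * (d * r * d) * a) * d := by rw [br]; simp only [mul_assoc]
      _ = d * (r * s * g) * d := by rw [← c1.eq, h.ri.mm' hd', e1]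
      _ = d * r * s * (g * d) := by simp only [mul_assoc]
      _ = r * (d * s * d) * g := by rw [← c1.eq, ← c2.eq]; simp only [mul_assoc]
  have ww : a * d * a * (a * d * a) = 1 := h.ri.sq _ (h.ri.conj d hd' a ha)
  have wz : ∀ z, (∀ x ∈ h.Eg a, Commute z x) → (∀ x ∈ h.Eg d, Commute z x) → Commute z (a * d * a) :=
    fun z h1 h2 => ((h1 a (h.b4_self ha)).mul_right (h2 d (h.b4_self hd'))).mul_right (h1 a (h.b4_self ha))
  generalize a * d * a = w at wc wcj wa e2 ww wz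
  have wi := inv_eq_of_sq ww
  have wM : ∀ x ∈ Md D c, w * x * w ∈ Md D b := fun x hx => by
    have := h.md_conj hx w
    rwa [wi, h.md_congr wc] at this
  have dM : d ∈ Md D c := h.md_of_cn hp.c3 (h.b4_self hd')
  have i1 : w * r * w * s⁻¹ ∈ Md D b := mul_mem (wM r hr) (inv_mem sM)
  have i2 : w * r * w * s⁻¹ ∈ Md D c := by
    rw [e2, mul_assoc _ g, ← (sc g hg).inv_left.eq,
      show r * (d * s * d) * (s⁻¹ * g) = r * (d * (s * d * s⁻¹)) * g by group]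
    exact mul_mem (mul_mem hr (mul_mem dM (h.md_fx dM (fx_of_comm hc (sc c (h.b4_self hc)))))) (h.md_of_eg hc hg)
  have i3 : ∀ x ∈ h.Eg a, Commute (w * r * w * s⁻¹) x := fun x hx => by
    refine Commute.mul_left ?_ (sa x hx).inv_left
    have h1 := h.eg_conj hx w
    rw [wi, wa] at h1
    have := commute_conj (hd _ h1) w
    rwa [wi, show w * (w * x * w) * w = w * w * x * (w * w) by group, ww, one_mul, mul_one] at this
  obtain ⟨e, he, f, hf, j1, j2⟩ := h.i_dec hp i1 i2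
  obtain rfl : f = 1 := h.eg_eq_one hc ha (h.ri.fo_not_comm hc ha hp.f1.symm) hf (by
    have := ((i3 a (h.b4_self ha)).mul_left (h.eg_comm hb' he ha (N.cn_comm hp.c1)).symm).inv_left.mul_left
      (j1 a (h.b4_self ha))
    rwa [inv_mul_cancel_left] at this)
  rw [mul_one] at j1 j2
  have z1 : w * r * w * s⁻¹ * e ∈ Md D b := mul_mem i1 (h.md_of_eg hb' he)
  have z2 : w * r * w * s⁻¹ * e ∈ Md D c := mul_mem i2 (h.md_of_cn (N.cn_symm hp.c2) he)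
  have e3 : w * r * w = w * r * w * s⁻¹ * e * e * s := by
    rw [mul_assoc _ e e, h.eg_sq he, mul_one, inv_mul_cancel_right]
  refine ⟨wM r hr, s, _, e, sM, sa, sc, z1, z2, j1, j2, he, ?_, e3⟩
  generalize w * r * w * s⁻¹ * e = z at j1 j2 z1 z2 e3
  have zz := h.i_sq hp.c2 z1 z2
  have q1 := h.md_sq hc (mul_mem z2 hr)
  rw [e1, h.cm_inj hc ha hp.f1.symm hg q1 ?_]
  have e4 : s * s = cm g a := by
    have e5 : r * 1 = r * (s * s * cm g a) :=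
      calc r * 1 = a * (a * r * a) * a := by simp only [mul_assoc, h.ri.mm ha, aa]
        _ = a * r * a * s * (a * g * a) := by
          conv_lhs => rw [e1]
          rw [mul_assoc (a * r * a), ← mul_assoc s, ← mul_assoc s, (sa a (h.b4_self ha)).eq]
          simp only [mul_assoc, h.ri.mm ha]
        _ = r * s * (g * s * g) * cm g a := by rw [e1, (h.b4_cm hp hg).2]; simp only [mul_assoc]
        _ = _ := by rw [← (sc g hg).eq, mul_assoc s, h.eg_sq hg]; simp only [mul_assoc, mul_one]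
    rw [eq_inv_of_mul_eq_one_left (mul_left_cancel e5).symm, inv_eq_of_sq (h.eg_sq (h.b4_cm hp hg).1)]
  have e6 : s = e * (w * (z * r) * w) := by
    rw [← mul_assoc w, ← (wz z j1 j2).eq, mul_assoc z, mul_assoc z, e3, ← mul_assoc z, ← mul_assoc z, zz, one_mul,
      ← mul_assoc, h.eg_sq he, one_mul]
  rw [← e4, ← wcj _ q1, e6, (h.md_comm hb' (wM _ (mul_mem z2 hr)) he).mul_mul_mul_comm, h.eg_sq he, one_mul,
    show w * (z * r) * w * (w * (z * r) * w) = w * (z * r * (w * w) * (z * r)) * w by group, ww, mul_one]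

theorem b4_q (hc : Cn D b c) (h1 : z ∈ Md D b) (h2 : z ∈ Md D c) (h3 : y ∈ Md D b) (h4 : y ∈ Md D c)
    (hr : r ∈ Md D c) : z * y * r * (z * y * r) = y * r * (y * r) * (r * r) * (z * r * (z * r)) := by
  have g1 := h.comm_mem hc.mem' h4 hr
  have yy := h.i_sq hc h3 h4
  have e1 : y * r = ⁅y, r⁆ * r * y := by group
  have e2 : y * r * (y * r) = ⁅y, r⁆ * (r * r) := by
    rw [commutatorElement_def, inv_eq_of_sq yy]; group
  rw [e2, mul_assoc ⁅y, r⁆ (r * r) (r * r), h.eg_sq (h.md_sq hc.mem' hr), mul_one]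
  calc z * y * r * (z * y * r) = z * (y * r) * (z * y * r) := by group
    _ = z * ⁅y, r⁆ * r * (y * z * y) * r := by conv_lhs => rw [e1]
                                               group
    _ = _ := by
      rw [(h.md_comm hc.mem' h2 g1).eq, (h.i_comm hc h3 h4 h1 h2).eq, mul_assoc z y y, yy]; group

variable (h2 : Rk2 D)
include h2

theorem l_lem (c1 : Cn D c b) (c2 : Cn D c d) (f1 : Fo b d) (h3 : l ∈ Md D b) (h4 : l ∈ Md D c) (h5 : l ∈ Md D d)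
    (hm : m ∈ Md D c) : Commute l m := by
  have N := h.toND
  have hc := c1.mem
  have line : ∀ {b u}, Cn D c b → Cn D c u → Commute u b → l ∈ Md D b → Commute l u := fun c1 cu e hl => by
    obtain ⟨e, he, b', hb', rfl⟩ := h.on_line h2 cu c1 e
    exact (h.md_comm c1.mem' hl (h.b4_eg hb')).mul_right (h.md_comm hc h4 he)
  have move : ∀ {b d u}, Cn D c b → Cn D c d → Cn D c u → Fo d b → Fo u b → l ∈ Md D b → l ∈ Md D d →
      ∃ e ∈ h.Eg b, e * l ∈ Md D u := fun {b d u} c1 c2 cu f1 f2 hb hd => by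
    obtain ⟨s, hs, s1, s2⟩ := h.g1 h2 c2 c1 cu f1 f2
    have c3 := N.cn_conj c2 s
    rw [(s1 c (h.b4_self hc)).eq, mul_inv_cancel_right] at c3
    exact ⟨_, h.comm_mem c1.mem' hs hb, by
      rw [show ⁅s, l⁆ * l = s * l * s⁻¹ by group]
      exact h.i_move h2 c3 cu s2.symm (h.i_conj (N.cn_symm c1) hb h4 hs) (h.md_conj hd s)⟩
  have near : ∀ u, Sm D u c ∨ Cn D c u → Commute l u := by
    rintro u (e | cu)
    · exact h.md_comm hc h4 (h.b4_eg e)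
    rcases N.cn_nb cu c1 with e1 | ⟨e1, -⟩
    · exact line c1 cu e1 h3
    rcases N.cn_nb cu c2 with e2 | ⟨e2, -⟩
    · exact line c2 cu e2 h5
    obtain ⟨e, he, h6⟩ := move c1 c2 cu f1.symm e1 h3 h5
    obtain ⟨f, hf, h7⟩ := move c2 c1 cu f1 e2 h5 h3
    refine h.md_comm cu.mem' ?_ (h.b4_self cu.mem')
    rcases (h.mem_eg c1.mem').1 he with e3 | rfl
    swap
    · simpa using h6
    rcases (h.mem_eg c2.mem').1 hf with e4 | rfl
    swap
    · simpa using h7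
    have h8 := mul_mem h6 (inv_mem h7)
    rw [show e * l * (f * l)⁻¹ = e * f⁻¹ by group, h.ri.inv e4.1] at h8
    exact absurd (h.ri.commute_of_mem e3.1 e4.1 (h.i_sq cu (mul_mem (h.md_of_cn c1 he) (h.md_of_cn c2 hf)) h8))
      (h.ri.fo_not_comm e3.1 e4.1 (N.sm_fo' e4.symm e3.1 (N.sm_fo e3.symm c2.mem' f1)))
  have : Md D c ≤ Subgroup.centralizer {l} := (Subgroup.closure_le _).2 fun u hu =>
    Subgroup.mem_centralizer_singleton_iff.2 (near u (by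
      rcases hu with hu | rfl
      · exact h.near_of_md hc ((mem_prod_iff hc).1 hu).2.1 (mem_md ((mem_prod_iff hc).1 hu))
      · exact Or.inl (Sm.rfl' hc))).symm
  exact (Subgroup.mem_centralizer_singleton_iff.1 (this hm)).symm

omit h2 in
/-- the homomorphism from `C_{M_c}(E_b E_d)` to `C_{M_b ∩ M_c}(E_a E_d)` -/
theorem b4_zr (hq : Big D) (hp : Pa D a b c d) : ∃ Z : G → G → Prop,
    (∀ r ∈ Md D c, (∀ e ∈ h.Eg b, Commute r e) → (∀ e ∈ h.Eg d, Commute r e) → ∃ z, Z r z) ∧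
    (∀ r z, Z r z → z ∈ Md D b ∧ z ∈ Md D c ∧ (∀ x ∈ h.Eg a, Commute z x) ∧ (∀ x ∈ h.Eg d, Commute z x) ∧
      z * r * (z * r) = 1) ∧ ∀ r r' z z' z'', Z r z → Z r' z' → Z (r * r') z'' → z * z' = z'' := by
  have N := h.toND
  have ha := hp.c1.mem
  have hb := hp.c2.mem
  have hc := hp.c3.mem
  have hd := hp.c3.mem'
  obtain ⟨π, πm, πk⟩ : ∃ π : G → Abelianization (Md D b), (∀ x ∈ Md D b, ∀ y ∈ Md D b, π (x * y) = π x * π y) ∧
      ∀ x ∈ Md D b, π x = 1 ↔ x ∈ h.Eg b := by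
    classical
    refine ⟨fun x => if hx : x ∈ Md D b then Abelianization.of ⟨x, hx⟩ else 1, fun x hx y hy => ?_, fun x hx => ?_⟩
    · simp only [dif_pos hx, dif_pos hy, dif_pos (mul_mem hx hy), ← map_mul]; rfl
    · simp only [dif_pos hx]
      rw [← MonoidHom.mem_ker, Abelianization.ker_of, ← h.commutator_md hb, ← Subgroup.map_subtype_commutator]
      exact (Subgroup.mem_map_iff_mem (f := (Md D b).subtype) Subtype.val_injective).symm
  have πe : ∀ e ∈ h.Eg b, π e = 1 := fun e he => (πk e (h.md_of_eg hb he)).2 he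
  have πs : ∀ x ∈ Md D b, π x * π x = 1 := fun x hx => by rw [← πm x hx x hx, πe _ (h.md_sq hb hx)]
  obtain ⟨a₂, s₂, n₂⟩ := hq a ha
  have s₃ : Sm D (a₂ * a) a :=
    ⟨(h.mul a₂ s₂.1 a ha s₂.2.2 n₂).1, ha, (h.mul a₂ s₂.1 a ha s₂.2.2 n₂).2.trans s₂.2.2⟩
  have one : ∀ a', Sm D a' a → ∃ w, w * w = 1 ∧ ∀ r ∈ Md D c, (∀ e ∈ h.Eg b, Commute r e) →
      (∀ e ∈ h.Eg d, Commute r e) → w * r * w ∈ Md D b ∧ ∃ s z e, s ∈ Md D b ∧
      (∀ x ∈ h.Eg a, Commute s x) ∧ (∀ x ∈ h.Eg c, Commute s x) ∧ z ∈ Md D b ∧ z ∈ Md D c ∧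
      (∀ x ∈ h.Eg a, Commute z x) ∧ (∀ x ∈ h.Eg d, Commute z x) ∧ e ∈ h.Eg b ∧
      a' * r * a' = r * s * (z * r * (z * r)) ∧ w * r * w = z * e * s := fun a' e1 => by
    have p1 := N.pa_congr hp e1.symm (Sm.rfl' hb) (Sm.rfl' hc) (Sm.rfl' hd)
    obtain ⟨d', e2, h3⟩ := N.t3 p1
    refine ⟨a' * d' * a', h.ri.sq _ (h.ri.conj d' e2.1 a' e1.1), fun r hr c1 c2 => ?_⟩
    have := h.b4_one (N.pa_congr p1 (Sm.rfl' e1.1) (Sm.rfl' hb) (Sm.rfl' hc) e2.symm) h3 hr c1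
      (by rwa [h.eg_congr e2])
    rwa [h.eg_congr e1, h.eg_congr e2] at this
  obtain ⟨w₁, q₁, o₁⟩ := one a (Sm.rfl' ha)
  obtain ⟨w₂, q₂, o₂⟩ := one a₂ s₂
  obtain ⟨w₃, q₃, o₃⟩ := one _ s₃
  refine ⟨fun r z => (z ∈ Md D b ∧ z ∈ Md D c ∧ (∀ x ∈ h.Eg a, Commute z x) ∧ (∀ x ∈ h.Eg d, Commute z x) ∧
      z * r * (z * r) = 1) ∧ (w₁ * r * w₁ ∈ Md D b ∧ w₂ * r * w₂ ∈ Md D b ∧ w₃ * r * w₃ ∈ Md D b) ∧
      π z = π (w₁ * r * w₁) * π (w₂ * r * w₂) * π (w₃ * r * w₃), fun r hr c1 c2 => ?_, fun r z hz => hz.1, ?_⟩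
  · obtain ⟨m₁, t₁, z₁, e₁, tb₁, ta₁, tc₁, zb₁, zc₁, za₁, zd₁, he₁, x₁, y₁⟩ := o₁ r hr c1 c2
    obtain ⟨m₂, t₂, z₂, e₂, tb₂, ta₂, tc₂, zb₂, zc₂, za₂, zd₂, he₂, x₂, y₂⟩ := o₂ r hr c1 c2
    obtain ⟨m₃, t₃, z₃, e₃, tb₃, ta₃, tc₃, zb₃, zc₃, za₃, zd₃, he₃, x₃, y₃⟩ := o₃ r hr c1 c2
    have g₁ := h.md_sq hc (mul_mem zc₁ hr)
    have g₂ := h.md_sq hc (mul_mem zc₂ hr)
    have g₃ := h.md_sq hc (mul_mem zc₃ hr)
    have qq : z₁ * z₂ * z₃ * r * (z₁ * z₂ * z₃ * r) =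
        z₃ * r * (z₃ * r) * (z₂ * r * (z₂ * r) * (z₁ * r * (z₁ * r))) := by
      rw [h.b4_q hp.c2 (mul_mem zb₁ zb₂) (mul_mem zc₁ zc₂) zb₃ zc₃ hr, h.b4_q hp.c2 zb₁ zc₁ zb₂ zc₂ hr,
        mul_assoc _ (r * r), (h.md_comm hc (mul_mem hr hr) g₂).symm.eq, ← mul_assoc (r * r), ← mul_assoc (r * r),
        h.eg_sq (h.md_sq hc hr), one_mul]
    generalize z₁ * r * (z₁ * r) = k₁ at g₁ x₁ qq
    generalize z₂ * r * (z₂ * r) = k₂ at g₂ x₂ qq
    generalize z₃ * r * (z₃ * r) = k₃ at g₃ x₃ qq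
    obtain ⟨b1, b2⟩ := h.b4_cm (N.pa_congr hp s₂.symm (Sm.rfl' hb) (Sm.rfl' hc) (Sm.rfl' hd)) g₁
    have cb := h.eg_commute hc hb (N.cn_comm hp.c2).symm (mul_mem g₂ g₁) b1
    generalize cm k₁ a₂ = e' at b1 b2 cb
    have e4 : r * (t₃ * k₃) = r * (t₂ * t₁ * e' * (k₂ * k₁)) :=
      calc _ = a₂ * (a * r * a) * a₂ := by
            rw [← mul_assoc, ← x₃]
            nth_rewrite 2 [(N.sm_commute s₂).eq]
            simp only [mul_assoc]
        _ = a₂ * r * a₂ * t₁ * (a₂ * k₁ * a₂) := by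
            rw [x₁, mul_assoc (a₂ * r * a₂), ← mul_assoc t₁, ← mul_assoc t₁, (ta₁ a₂ (h.b4_eg s₂)).eq]
            simp only [mul_assoc, h.ri.mm s₂.1]
        _ = r * (t₂ * (k₂ * t₁) * k₁ * e') := by rw [x₂, b2]; simp only [mul_assoc]
        _ = _ := by rw [← (tc₁ k₂ g₂).eq, mul_assoc (t₂ * t₁), ← cb.eq]; simp only [mul_assoc]
    have e5 : (t₂ * t₁ * e')⁻¹ * t₃ = k₂ * k₁ * k₃⁻¹ := by
      rw [eq_mul_inv_of_mul_eq (mul_left_cancel e4)]; group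
    have e6 : k₂ * k₁ * k₃⁻¹ = 1 := h.eg_eq_one hc ha (h.ri.fo_not_comm hc ha hp.f1.symm)
      (mul_mem (mul_mem g₂ g₁) (inv_mem g₃)) (by
        rw [← e5]
        exact (((ta₂ a (h.b4_self ha)).mul_left (ta₁ a (h.b4_self ha))).mul_left
          (h.eg_comm hb b1 ha (N.cn_comm hp.c1)).symm).inv_left.mul_left (ta₃ a (h.b4_self ha)))
    rw [e6, inv_mul_eq_one] at e5
    refine ⟨z₁ * z₂ * z₃, ⟨mul_mem (mul_mem zb₁ zb₂) zb₃, mul_mem (mul_mem zc₁ zc₂) zc₃,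
      fun x hx => ((za₁ x hx).mul_left (za₂ x hx)).mul_left (za₃ x hx),
      fun x hx => ((zd₁ x hx).mul_left (zd₂ x hx)).mul_left (zd₃ x hx), ?_⟩, ⟨m₁, m₂, m₃⟩, ?_⟩
    · rw [qq, mul_inv_eq_one.1 e6, h.eg_sq g₃]
    · have hE := fun e (he : e ∈ h.Eg b) => h.md_of_eg hb he
      rw [y₁, y₂, y₃, πm _ (mul_mem zb₁ zb₂) _ zb₃, πm _ zb₁ _ zb₂, πm _ (mul_mem zb₁ (hE _ he₁)) _ tb₁,
        πm _ (mul_mem zb₂ (hE _ he₂)) _ tb₂, πm _ (mul_mem zb₃ (hE _ he₃)) _ tb₃, πm _ zb₁ _ (hE _ he₁),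
        πm _ zb₂ _ (hE _ he₂), πm _ zb₃ _ (hE _ he₃), ← e5, πm _ (mul_mem tb₂ tb₁) _ (hE _ b1), πm _ tb₂ _ tb₁,
        πe _ he₁, πe _ he₂, πe _ he₃, πe _ b1]
      calc _ = π z₁ * π z₂ * π z₃ * (π t₁ * π t₁) * (π t₂ * π t₂) := by rw [πs _ tb₁, πs _ tb₂, mul_one, mul_one]
        _ = _ := by simp only [mul_one, mul_assoc, mul_comm, mul_left_comm]
  · rintro r r' z z' z'' ⟨⟨zb, zc, -, zd, -⟩, ⟨m₁, m₂, m₃⟩, e1⟩ ⟨⟨zb', zc', -, zd', -⟩, ⟨m₁', m₂', m₃'⟩, e2⟩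
      ⟨⟨zb'', zc'', -, zd'', -⟩, -, e3⟩
    have sp : ∀ w : G, w * w = 1 → w * (r * r') * w = w * r * w * (w * r' * w) := fun w ww => by
      rw [show w * r * w * (w * r' * w) = w * r * (w * w) * r' * w by group, ww]; group
    rw [sp _ q₁, sp _ q₂, sp _ q₃, πm _ m₁ _ m₁', πm _ m₂ _ m₂', πm _ m₃ _ m₃'] at e3
    have e4 : π (z * z' * z'') = 1 := by
      rw [πm _ (mul_mem zb zb') _ zb'', πm _ zb _ zb', ← πs _ zb'']
      congr 1
      rw [e1, e2, e3]; simp only [mul_assoc, mul_comm, mul_left_comm]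
    have e5 := h.eg_eq_one hb hd (h.ri.fo_not_comm hb hd hp.f2) ((πk _ (mul_mem (mul_mem zb zb') zb'')).1 e4)
      (((zd d (h.b4_self hd)).mul_left (zd' d (h.b4_self hd))).mul_left (zd'' d (h.b4_self hd)))
    rw [eq_inv_of_mul_eq_one_left e5, inv_eq_of_sq (h.i_sq hp.c2 zb'' zc'')]

/-- the lines through a point -/
def B4Ln (D : Set G) (p u : G) : Set G := {v | Cn D p v ∧ Commute v u}

theorem b4_ln (c1 : Cn D p u) (c2 : Cn D p v) : B4Ln D p u = B4Ln D p v ↔ Commute u v :=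
  ⟨fun e => (show u ∈ B4Ln D p v from e ▸ ⟨c1, Commute.refl u⟩).2, fun e => Set.ext fun _ =>
    ⟨fun hy => ⟨hy.1, h.line_trans h2 hy.1 c1 c2 hy.2 e⟩, fun hy => ⟨hy.1, h.line_trans h2 hy.1 c2 c1 hy.2 e.symm⟩⟩⟩

theorem b4_card (hp : p ∈ D) (hq : q ∈ D) :
    {S | ∃ u, Cn D p u ∧ S = B4Ln D p u}.ncard ≤ {S | ∃ u, Cn D q u ∧ S = B4Ln D q u}.ncard := by
  obtain ⟨g, rfl⟩ := h.toND.exists_conj hp hq
  have key : ∀ S ∈ {S | ∃ u, Cn D p u ∧ S = B4Ln D p u}, ∃ u, Cn D p u ∧ S = B4Ln D p u := fun S hS => hS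
  choose! f f1 f2 using key
  refine Set.ncard_le_ncard_of_injOn (fun S => B4Ln D (g * p * g⁻¹) (g * f S * g⁻¹))
    (fun S hS => ⟨_, h.toND.cn_conj (f1 S hS) g, rfl⟩) fun S hS T hT e => ?_
  rw [f2 S hS, f2 T hT, h.b4_ln h2 (f1 S hS) (f1 T hT)]
  exact commute_of_conj ((h.b4_ln h2 (h.toND.cn_conj (f1 S hS) g) (h.toND.cn_conj (f1 T hT) g)).1 e)

theorem hf (hq : Big D) (hp : Pa D a b c d) (c1 : Cn D d u) (c2 : Cn D d v) (f1 : Fo c u) (f2 : Fo c v) :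
    ∃ z, z * z = 1 ∧ (∀ e ∈ h.Eg a, Commute z e) ∧ (∀ e ∈ h.Eg d, Commute z e) ∧ Commute (z * u * z) v := by
  have N := h.toND
  have hb := hp.c2.mem
  have hc := hp.c3.mem
  have hd := hp.c3.mem'
  have ccb := N.cn_symm hp.c2
  have cdc := N.cn_symm hp.c3
  obtain ⟨Z, Z1, Z2, Z3⟩ := h.b4_zr hq hp
  have zz : ∀ {r z}, Z r z → z * z = 1 := fun hz => h.i_sq hp.c2 (Z2 _ _ hz).1 (Z2 _ _ hz).2.1
  have cz : ∀ {r z}, Z r z → Cn D d (z * u * z) ∧ Fo c (z * u * z) := fun {r z} hz => by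
    have e1 := N.cn_conj c1 z
    have e2 := (fo_conj z).2 f1
    rw [((Z2 _ _ hz).2.2.2.1 d (h.b4_self hd)).eq, mul_inv_cancel_right, inv_eq_of_sq (zz hz)] at e1
    rw [(h.md_comm hc (Z2 _ _ hz).2.1 (h.b4_self hc)).eq, mul_inv_cancel_right, inv_eq_of_sq (zz hz)] at e2
    exact ⟨e1, e2⟩
  have key : ∀ S ∈ {S | ∃ y, Cn D c y ∧ S = B4Ln D c y} \ {B4Ln D c b}, ∃ y e z, Cn D c y ∧ S = B4Ln D c y ∧
      e ∈ h.Eg b ∧ (∀ x ∈ h.Eg b, Commute (d * y * e) x) ∧ (∀ x ∈ h.Eg d, Commute (d * y * e) x) ∧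
      Z (d * y * e) z := by
    rintro S ⟨⟨y, c3, rfl⟩, hn⟩
    have f3 : Fo y b := ((N.cn_nb c3 ccb).resolve_left fun e => hn ((h.b4_ln h2 c3 ccb).2 e)).1
    obtain ⟨y', e1, e2⟩ := h.act_like c3 ccb hp.c3 f3 hp.f2.symm
    have c4 := c3.of_right e1.symm
    have m1 := mul_mem (h.md_of_cn hp.c3 (h.b4_self hd)) (h.md_of_cn c4 (h.b4_self e1.1))
    obtain ⟨e, he, e3⟩ := h.md_dec ccb hp.c3 hp.f2 m1
    have e4 : ∀ x ∈ h.Eg b, Commute (d * y' * e) x := fun x hx =>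
      (e2 x hx).mul_left (h.eg_commute hb hb (Commute.refl b) he hx)
    obtain ⟨z, hz⟩ := Z1 _ (mul_mem m1 (h.md_of_cn ccb he)) e4 e3
    exact ⟨y', e, z, c4, (h.b4_ln h2 c3 c4).2 (N.sm_commute e1).symm, he, e4, e3, hz⟩
  choose y e z k1 k2 k3 k4 k5 k6 using key
  obtain ⟨S, hS, e1⟩ := Set.surj_on_of_inj_on_of_ncard_le
    (t := {S | ∃ y, Cn D d y ∧ S = B4Ln D d y} \ {B4Ln D d c}) (fun S hS => B4Ln D d (z S hS * u * z S hS))
    (fun S hS => ⟨⟨_, (cz (k6 S hS)).1, rfl⟩, fun e => h.ri.fo_not_comm hc (cz (k6 S hS)).1.mem' (cz (k6 S hS)).2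
      ((h.b4_ln h2 (cz (k6 S hS)).1 cdc).1 e).symm⟩) (fun S T hS hT e1 => by
      rw [h.b4_ln h2 (cz (k6 S hS)).1 (cz (k6 T hT)).1] at e1
      rw [k2 S hS, k2 T hT, h.b4_ln h2 (k1 S hS) (k1 T hT)]
      have m : ∀ S hS, d * y S hS * e S hS ∈ Md D c := fun S hS => mul_mem (mul_mem
        (h.md_of_cn hp.c3 (h.b4_self hd)) (h.md_of_cn (k1 S hS) (h.b4_self (k1 S hS).mem'))) (h.md_of_cn ccb (k3 S hS))
      have m1 := mul_mem (inv_mem (m S hS)) (m T hT)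
      have m2 := fun x hx => (k4 S hS x hx).inv_left.mul_left (k4 T hT x hx)
      obtain ⟨z', hz'⟩ := Z1 _ m1 m2 fun x hx => (k5 S hS x hx).inv_left.mul_left (k5 T hT x hx)
      have e2 := Z3 _ _ _ _ _ (k6 S hS) hz' (by rw [mul_inv_cancel_left]; exact k6 T hT)
      obtain ⟨zb, zc, -, zd, e3⟩ := Z2 _ _ hz'
      have e4 : z' ∈ Md D d := h.stab h2 c1 cdc f1.symm zc zd (by
        have := commute_conj e1 (z S hS)⁻¹
        nth_rewrite 2 [← inv_eq_of_sq (zz (k6 T hT))] at this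
        nth_rewrite 3 [← inv_eq_of_sq (zz (k6 S hS))] at this
        rw [← e2] at this
        simpa [mul_assoc] using this.symm)
      rw [(h.l_lem h2 ccb hp.c3 hp.f2 zb zc e4 m1).symm.mul_mul_mul_comm, zz hz', one_mul] at e3
      have e5 : y S hS * y T hT = (d * y S hS * e S hS)⁻¹ * (d * y T hT * e T hT) * (e S hS * e T hT) := by
        rw [← mul_assoc, (m2 _ (k3 S hS)).eq]
        simp only [mul_inv_rev, h.ri.inv (k1 S hS).mem', mul_assoc, mul_inv_cancel_left, inv_mul_cancel_left,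
          h.eg_sq (k3 T hT), mul_one]
      refine h.ri.commute_of_mem (k1 S hS).mem' (k1 T hT).mem' ?_
      rw [e5, (m2 _ (mul_mem (k3 S hS) (k3 T hT))).symm.mul_mul_mul_comm, e3, h.eg_sq (mul_mem (k3 S hS) (k3 T hT)),
        mul_one]) (by
      rw [Set.ncard_sdiff_singleton_of_mem (show _ ∈ {S | ∃ y, Cn D d y ∧ S = B4Ln D d y} from ⟨c, cdc, rfl⟩),
        Set.ncard_sdiff_singleton_of_mem (show _ ∈ {S | ∃ y, Cn D c y ∧ S = B4Ln D c y} from ⟨b, ccb, rfl⟩)]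
      exact Nat.sub_le_sub_right (h.b4_card h2 hd hc) 1) (Set.toFinite _) (B4Ln D d v)
    ⟨⟨v, c2, rfl⟩, fun e => h.ri.fo_not_comm hc c2.mem' f2 ((h.b4_ln h2 c2 cdc).1 e).symm⟩
  exact ⟨z S hS, zz (k6 S hS), (Z2 _ _ (k6 S hS)).2.2.1, (Z2 _ _ (k6 S hS)).2.2.2.1,
    ((h.b4_ln h2 c2 (cz (k6 S hS)).1).1 e1).symm⟩

end RS

end CfsgLib.RootInv
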