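import Cfsg.Agent.Lib.RootInv.RTB1
import Cfsg.Agent.Lib.RootInv.RTB4

/-! Root involution theorem, B5: Weyl elements and tori. -/

set_option autoImplicit false

namespace CfsgLib.RootInv

open Cfsg CfsgLib.RootSub
open scoped commutatorElement

universe u

variable {G : Type u} [Group G] {D : Set G} {a b c d e f g i j k l m p q r s t u v w x y z : G}

namespace RS

variable [Finite G] (h : RS D)
include h

omit [Finite G] in
theorem wp_symm (a d : G) : Wp D a d = Wp D d a := by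
  have key : ∀ a d, Wp D a d ⊆ Wp D d a := by
    rintro a d _ ⟨a', d', h1, h2, h3, rfl⟩
    exact ⟨d', a', h2, h1, by rwa [orderOf_mul_swap], h.b4_braid h1.1 h2.1 h3⟩
  exact (key a d).antisymm (key d a)

omit [Finite G] in
theorem hp_symm (a d : G) : Hp D a d = Hp D d a := by
  rw [Hp, Hp, h.wp_symm a d]

omit [Finite G] in
theorem wp_mem (hw : w ∈ Wp D a d) : w ∈ D := by
  obtain ⟨a', d', h1, h2, -, rfl⟩ := hw
  exact h.ri.conj d' h2.1 a' h1.1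

omit [Finite G] in
theorem wp_sq (hw : w ∈ Wp D a d) : w * w = 1 := h.ri.sq w (h.wp_mem hw)

theorem wp_a (hw : w ∈ Wp D a d) : Sm D (w * a * w) d := by
  have ww := h.wp_sq hw
  obtain ⟨a', d', h1, h2, h3, rfl⟩ := hw
  refine (h.toND.sm_cj h1.symm ww).trans ?_
  rwa [h.ri.mm' h1.1, h.b4_braid h1.1 h2.1 h3, ← mul_assoc, ← mul_assoc, h.ri.mm' h2.1, h.ri.sq a' h1.1, one_mul]

theorem wp_b (hp : Pa D a b c d) (hw : w ∈ Wp D a d) : Sm D (w * b * w) c := by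
  rw [h.wp_symm] at hw
  obtain ⟨d', a', h1, h2, h3, rfl⟩ := hw
  have p1 := h.toND.pa_congr (h.toND.pa_rev hp) h1.symm (Sm.rfl' hp.c3.mem) (Sm.rfl' hp.c2.mem) h2.symm
  rw [h.w_conj p1 h3 (h.b4_self hp.c2.mem)]
  exact h.toND.cn_common p1.f1.symm p1.c2 (h.toND.cn_symm p1.c1)

theorem wp_conj (h1 : Fx D g a) (h3 : Fx D g d) (hw : w ∈ Wp D a d) : g * w * g⁻¹ ∈ Wp D a d := by
  obtain ⟨a', d', e1, e2, e3, rfl⟩ := hw
  exact ⟨_, _, (h.toND.sm_conj e1 g).trans h1, (h.toND.sm_conj e2 g).trans h3, by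
    rw [conj_mul]; exact (MulEquiv.orderOf_eq (MulAut.conj g) _).trans e3, by group⟩

theorem hp_conj (h1 : Fx D g a) (h3 : Fx D g d) (hk : k ∈ Hp D a d) : g * k * g⁻¹ ∈ Hp D a d := by
  obtain ⟨w, hw, w', hw', rfl⟩ := hk
  exact ⟨_, h.wp_conj h1 h3 hw, _, h.wp_conj h1 h3 hw', by group⟩

theorem wp_exists (hp : Pa D a b c d) (e1 : Sm D e a) : ∃ f, Sm D f d ∧ orderOf (e * f) = 3 ∧ e * f * e ∈ Wp D a d := by
  obtain ⟨f, e2, e3⟩ := h.toND.t3
    (h.toND.pa_congr hp e1.symm (Sm.rfl' hp.c2.mem) (Sm.rfl' hp.c3.mem) (Sm.rfl' hp.c3.mem'))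
  exact ⟨f, e2, e3, e, f, e1, e2, e3, rfl⟩

theorem b5_inj {a' a'' d' d'' : G} (hp : Pa D a b c d) (e1 : Sm D a' a) (e2 : Sm D d' d) (e3 : orderOf (a' * d') = 3)
    (e4 : Sm D a'' a) (e5 : Sm D d'' d) (e6 : orderOf (a'' * d'') = 3) (he : Sm D e c)
    (e7 : a' * d' * a' * e * (a' * d' * a') = a'' * d'' * a'' * e * (a'' * d'' * a'')) : a' = a'' := by
  have N := h.toND
  have fa := N.sm_fo' he.symm hp.c1.mem hp.f1
  rw [h.w_conj (N.pa_congr hp e1.symm (Sm.rfl' hp.c2.mem) (Sm.rfl' hp.c3.mem) e2.symm) e3 (h.b4_eg he),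
    h.w_conj (N.pa_congr hp e4.symm (Sm.rfl' hp.c2.mem) (Sm.rfl' hp.c3.mem) e5.symm) e6 (h.b4_eg he),
    h.ri.cm_symm e1.1 he.1 (N.sm_fo e1.symm he.1 fa), h.ri.cm_symm e4.1 he.1 (N.sm_fo e4.symm he.1 fa)] at e7
  exact h.cm_inj hp.c1.mem he.1 fa (h.b4_eg e1) (h.b4_eg e4) e7

theorem wp_two (hq : Big D) (hp : Pa D a b c d) (hw : w ∈ Wp D a d) : ∃ w' ∈ Wp D a d, w * w' ≠ 1 := by
  obtain ⟨a', d', e1, e2, e3, rfl⟩ := hw
  obtain ⟨a'', e4, n⟩ := hq a' e1.1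
  obtain ⟨d'', e5, e6, hw'⟩ := h.wp_exists hp (e4.trans e1)
  refine ⟨_, hw', fun e => n (h.b5_inj hp e1 e2 e3 (e4.trans e1) e5 e6 (Sm.rfl' hp.c3.mem) ?_).symm⟩
  rw [h.ri.eq_of_mul_eq_one (h.wp_mem hw') e]

theorem b5_fx {w' : G} (ww : w * w = 1) (ww' : w' * w' = 1) (h1 : Sm D (w' * x * w') y) (h2 : Sm D (w * y * w) x) :
    Fx D (w * w') x := by
  have := (h.toND.sm_cj h1 ww).trans h2
  rwa [Fx, mul_inv_rev, inv_eq_of_sq ww, inv_eq_of_sq ww', show w * w' * x * (w' * w) = w * (w' * x * w') * w by group]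

theorem hp_fx (hp : Pa D a b c d) (hk : k ∈ Hp D a d) : Fx D k a ∧ Fx D k b ∧ Fx D k c ∧ Fx D k d := by
  obtain ⟨w, hw, w', hw', rfl⟩ := hk
  have v := h.wp_symm a d ▸ hw
  have v' := h.wp_symm a d ▸ hw'
  have p := h.toND.pa_rev hp
  have q := h.wp_sq hw
  have q' := h.wp_sq hw'
  exact ⟨h.b5_fx q q' (h.wp_a hw') (h.wp_a v), h.b5_fx q q' (h.wp_b hp hw') (h.wp_b p v),
    h.b5_fx q q' (h.wp_b p v') (h.wp_b hp hw), h.b5_fx q q' (h.wp_a v') (h.wp_a hw)⟩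

theorem b5_sth {F : Type} [Field F] [Fintype F] (hp : Pa D a b c d) (C : Co D F a b c d) (hk : k ∈ Hp D a d) :
    ∃ t, t ≠ 0 ∧ k = sth C.x C.y t := by
  have key : ∀ w ∈ Wp D a d, ∃ t, t ≠ 0 ∧ w = stw C.x C.y t := by
    rintro _ ⟨a', d', e1, e2, e3, rfl⟩
    obtain ⟨t, t0, rfl⟩ := C.x_surj a' e1
    have := h.three_uniq (h.toND.pa_congr hp e1.symm (Sm.rfl' hp.c2.mem) (Sm.rfl' hp.c3.mem) (Sm.rfl' hp.c3.mem'))
      e2 (C.y_sm _ (inv_ne_zero t0)) e3 (C.three t t0)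
    refine ⟨t, t0, ?_⟩
    rw [this, stw, show -t⁻¹ = t⁻¹ by linear_combination (-t⁻¹) * C.two]
  obtain ⟨w, hw, w', hw', rfl⟩ := hk
  have q := inv_eq_of_sq (h.wp_sq hw')
  obtain ⟨t, t0, rfl⟩ := key w hw
  obtain ⟨u, u0, rfl⟩ := key w' hw'
  refine ⟨t / u, div_ne_zero t0 u0, ?_⟩
  have := C.st.h_mul_of_finite (t / u) u (div_ne_zero t0 u0) u0
  rw [div_mul_cancel₀ t u0] at this
  rw [← q, StRel.w_eq t, StRel.w_eq u, ← this]; group

theorem hp_comm (hp : Pa D a b c d) (hk : k ∈ Hp D a d) (hl : l ∈ Hp D a d) : Commute k l := by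
  obtain ⟨F, _, _, ⟨C⟩⟩ := h.exists_co hp
  obtain ⟨t, t0, rfl⟩ := h.b5_sth hp C hk
  obtain ⟨u, u0, rfl⟩ := h.b5_sth hp C hl
  change _ * _ = _ * _
  rw [C.st.h_mul_of_finite t u t0 u0, C.st.h_mul_of_finite u t u0 t0, mul_comm]

theorem hp_odd (hp : Pa D a b c d) (hk : k ∈ Hp D a d) : Odd (orderOf k) := by
  obtain ⟨F, _, _, ⟨C⟩⟩ := h.exists_co hp
  obtain ⟨t, t0, rfl⟩ := h.b5_sth hp C hk
  have pw : ∀ n : ℕ, sth C.x C.y t ^ n = sth C.x C.y (t ^ n) := fun n => by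
    induction n with
    | zero => rw [pow_zero, pow_zero, StRel.h_one]
    | succ n ih => rw [pow_succ, ih, C.st.h_mul_of_finite _ _ (pow_ne_zero n t0) t0, pow_succ]
  have e1 := pw (Fintype.card F - 1)
  rw [FiniteField.pow_card_sub_one_eq_one t t0, StRel.h_one] at e1
  have e2 := FiniteField.even_card_of_char_two
    (CharP.ringChar_of_prime_eq_zero (R := F) Nat.prime_two (by exact_mod_cast C.two))
  have e3 : 0 < Fintype.card F := Fintype.card_pos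
  exact Odd.of_dvd_nat (Nat.odd_iff.2 (by omega)) (orderOf_dvd_of_pow_eq_one e1)

theorem hp_fpf (hp : Pa D a b c d) (hk : k ∈ Hp D a d) (hne : k ≠ 1) (he : e ∈ h.Eg c) (hc : Commute k e) : e = 1 := by
  refine ((h.mem_eg hp.c3.mem).1 he).resolve_left fun e0 => hne ?_
  obtain ⟨w, hw, w', hw', rfl⟩ := hk
  have q := h.wp_sq hw
  have q' := h.wp_sq hw'
  have e7 : w * e * w = w' * e * w' :=
    calc _ = w * (e * (w * w')) * w' := by simp only [mul_assoc, q', mul_one]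
      _ = _ := by rw [← hc.eq, ← mul_assoc, ← mul_assoc, q, one_mul]
  obtain ⟨a', d', e1, e2, e3, rfl⟩ := hw
  obtain ⟨a'', d'', e4, e5, e6, rfl⟩ := hw'
  obtain rfl := h.b5_inj hp e1 e2 e3 e4 e5 e6 e0 e7
  obtain rfl := h.three_uniq
    (h.toND.pa_congr hp e1.symm (Sm.rfl' hp.c2.mem) (Sm.rfl' hp.c3.mem) (Sm.rfl' hp.c3.mem')) e2 e5 e3 e6
  exact q

theorem b5_cn (hc : Cn D p y) (hg : Fx D g p) : Cn D p (g * y * g⁻¹) := h.toND.cn_left (h.toND.cn_conj hc g) hg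

theorem b5_fo (hy : y ∈ D) (hc : Fo p y) (hg : Fx D g p) : Fo p (g * y * g⁻¹) :=
  h.toND.sm_fo hg (h.toND.conj hy g) ((fo_conj g).2 hc)

theorem b5_fx1 (hy : y ∈ D) (he : e ∈ h.Eg y) (f1 : Fo y u) (hf : Fx D e u) : e = 1 :=
  ((h.mem_eg hy).1 he).resolve_left fun e0 =>
    h.ri.fo_not_comm e0.1 hf.mem (h.toND.sm_fo e0.symm hf.mem f1) (h.toND.comm_of_fx e0.1 hf)

theorem b5_x (hp : Pa D a b c d) (hr : r ∈ Md D b) (hc : ∀ e ∈ h.Eg c, Commute r e) :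
    Commute (d * r * d) b ∧ ∃ m ∈ Md D b, a * d * a * r * (a * d * a) = m * (d * r * d) := by
  have N := h.toND
  have ha := hp.c1.mem
  have hb := hp.c2.mem
  have hd := hp.c3.mem'
  have p := N.pa_rev hp
  have c1 : Commute (d * r * d) b := by
    obtain ⟨b1, b2⟩ := h.b4_cm p (h.b4_self hb)
    have := commute_conj (show Commute r (d * b * d) by
      rw [b2]; exact (h.md_comm hb hr (h.b4_self hb)).mul_right (hc _ b1)) d
    rwa [h.ri.inv hd, h.ri.cj_cj hd] at this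
  have aM := h.md_of_cn (N.cn_symm hp.c1) (h.b4_self ha)
  have e1 := h.comm_mem hb aM hr
  obtain ⟨b1, b2⟩ := h.b4_cm p e1
  refine ⟨c1, a * (d * ⁅a, r⁆ * d) * (d * r * d * a * (d * r * d)⁻¹), mul_mem (mul_mem aM ?_)
    (h.md_fx aM (fx_of_comm hb c1)), ?_⟩
  · rw [b2]; exact mul_mem (h.md_of_eg hb e1) (h.md_of_cn hp.c2 b1)
  · rw [mul_assoc _ _ (d * r * d), inv_mul_cancel_right, commutatorElement_def, h.ri.inv ha]
    simp only [mul_assoc, h.ri.mm hd, inv_mul_cancel_left]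

variable (h2 : Rk2 D)
include h2

theorem two_lines (hp : Pa D a b c d) (hk : k ∈ Hp D a d) (hne : k ≠ 1) (c1 : Cn D c u) (f1 : Fo u b)
    (hc : Commute (k * u * k⁻¹) u) : Commute u d := by
  have N := h.toND
  have hb := hp.c2.mem
  have hc' := hp.c3.mem
  have hd := hp.c3.mem'
  have ccb := N.cn_symm hp.c2
  obtain ⟨-, kb, kc, kd⟩ := h.hp_fx hp hk
  obtain ⟨r, hr, r1, r2⟩ := h.g1 h2 hp.c3 ccb c1 hp.f2.symm f1
  have rc := fx_of_comm hc' (r1 c (h.b4_self hc'))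
  have n1 : r⁻¹ * (k * r * k⁻¹) ∈ Md D b := mul_mem (inv_mem hr) (h.md_fx hr kb)
  have n2 : r⁻¹ * (k * r * k⁻¹) ∈ Md D c := h.stab h2 hp.c3 ccb hp.f2.symm n1 (fun e he => by
    refine (r1 e he).inv_left.mul_left ?_
    simpa [mul_assoc] using commute_conj (r1 _ (h.eg_fx he (N.fx_inv kc))) k) (by
    have s1 := N.sm_conj (N.fx_inv kd) r
    have c2 := h.b5_cn (h.b5_cn (hp.c3.of_right (N.fx_inv kd).symm) rc) kc
    have c3 := commute_conj (N.sm_comm' s1.symm c1.mem' r2) k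
    have c4 := h.line_trans h2 c2 c1 (h.b5_cn hp.c3 rc) (h.line_trans h2 c2 (h.b5_cn c1 kc) c1 c3 hc) r2.symm
    simpa [mul_assoc] using commute_conj c4 r⁻¹)
  obtain ⟨w, hw, w', hw', rfl⟩ := hk
  have q := h.wp_sq hw
  have q' := h.wp_sq hw'
  have n3 : (w * r * w)⁻¹ * (w' * r * w') ∈ Md D b := by
    have := h.md_conj n2 w
    rw [inv_eq_of_sq q, h.md_congr (h.wp_b (N.pa_rev hp) (h.wp_symm a d ▸ hw))] at this
    convert this using 1
    simp only [mul_inv_rev, inv_eq_of_sq q, inv_eq_of_sq q', mul_assoc, q, mul_one]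
  obtain ⟨a₁, d₁, e1, e2, e3, rfl⟩ := hw
  obtain ⟨a₂, d₂, e4, e5, e6, rfl⟩ := hw'
  have nd : d₁ ≠ d₂ := by
    rintro rfl
    obtain rfl := h.three_uniq (N.pa_congr (N.pa_rev hp) e2.symm (Sm.rfl' hc') (Sm.rfl' hb) (Sm.rfl' hp.c1.mem))
      e1 e4 (by rwa [orderOf_mul_swap]) (by rwa [orderOf_mul_swap])
    exact hne q
  obtain ⟨x1, m₁, hm₁, y1⟩ := h.b5_x (N.pa_congr hp e1.symm (Sm.rfl' hb) (Sm.rfl' hc') e2.symm) hr r1
  obtain ⟨-, m₂, hm₂, y2⟩ := h.b5_x (N.pa_congr hp e4.symm (Sm.rfl' hb) (Sm.rfl' hc') e5.symm) hr r1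
  have n4 : (d₁ * r * d₁)⁻¹ * (d₂ * r * d₂) ∈ Md D b := by
    rw [y1, y2] at n3
    have := mul_mem (inv_mem (h.md_fx (mul_mem (inv_mem hm₁) hm₂) (fx_of_comm hb x1.inv_left))) n3
    convert this using 1; group
  have s₃ : Sm D (d₁ * d₂) d := ⟨(h.mul d₁ e2.1 d₂ e5.1 (e2.trans e5.symm).2.2 nd).1, hd,
    (h.mul d₁ e2.1 d₂ e5.1 (e2.trans e5.symm).2.2 nd).2.trans e2.2.2⟩
  have m : ∀ {x}, Sm D x d → x ∈ Md D c := fun hx => h.md_of_cn hp.c3 (h.b4_eg hx)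
  have n5 : (d₁ * r * d₁)⁻¹ * (d₂ * r * d₂) ∈ Md D c := by
    have := mul_mem (mul_mem (m e2) (h.md_fx (m s₃) (N.fx_inv rc))) (m e5)
    convert this using 1
    simp only [mul_inv_rev, h.ri.inv e2.1, inv_inv, mul_assoc]
  have n6 : d₁ * d₂ * r * (d₁ * d₂) ∈ Md D b := by
    have := mul_mem hr (h.i_conj ccb n5 n4 (m e2))
    convert this using 1
    rw [(N.sm_commute (e2.trans e5.symm)).eq]
    nth_rewrite 1 [← (N.sm_commute (e2.trans e5.symm)).eq]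
    simp only [mul_inv_rev, h.ri.inv e2.1, mul_assoc, h.ri.mm e2.1, mul_inv_cancel_left]
  obtain ⟨e, he, e7⟩ := h.md_line (h.e_lem h2 (hp.c3.of_right s₃.symm) ccb (N.sm_fo s₃.symm hb hp.f2.symm) hr n6) hp.c3
  rw [e7] at r2
  have := r2.mul_left (h.eg_comm hc' he c1.mem' (N.cn_comm c1).symm).symm.inv_left
  rw [mul_inv_cancel_right] at this
  exact this.symm

theorem fix_uniq (c1 : Cn D p y) (c2 : Cn D p u) (c3 : Cn D p v) (f1 : Fo y u) (e1 : Commute u v) (h3 : Fx D g y)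
    (h4 : ∀ e ∈ h.Eg y, Commute g e → e = 1) (h5 : Fx D g u) (h6 : Fx D g v) : Sm D u v := by
  have N := h.toND
  obtain ⟨e, he, e2⟩ := h.move_on_line h2 c2 c3 c1 e1 f1
  have he' := h.eg_fx he h3
  have s1 : Sm D (g * e * g⁻¹ * u * (g * e * g⁻¹)) (e * u * e) := by
    refine (N.sm_cj h5 (h.eg_sq he')).symm.trans ?_
    rw [conj_mul, conj_mul]
    exact ((N.sm_conj e2 g).trans h6).trans e2.symm
  have s2 := h.b5_fx (h.eg_sq he) (h.eg_sq he') s1 (by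
    rw [show e * (e * u * e) * e = e * e * u * (e * e) by group, h.eg_sq he, one_mul, mul_one]
    exact Sm.rfl' c2.mem')
  have e3 := eq_inv_of_mul_eq_one_right (h.b5_fx1 c1.mem' (mul_mem he he') f1 s2)
  rw [inv_eq_of_sq (h.eg_sq he), mul_inv_eq_iff_eq_mul] at e3
  simpa [h4 e he e3] using e2

theorem fix_exists (c1 : Cn D p y) (c2 : Cn D p u) (f1 : Fo y u) (h0 : Fx D g p) (h3 : Fx D g y)
    (h4 : ∀ e ∈ h.Eg y, Commute g e → e = 1) (h5 : Commute (g * u * g⁻¹) u) :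
    ∃ v, Cn D p v ∧ Commute u v ∧ Fx D g v := by
  have N := h.toND
  have hy := c1.mem'
  have cE : ∀ {e f}, e ∈ h.Eg y → f ∈ h.Eg y → Commute e f := h.eg_commute hy hy (Commute.refl y)
  obtain ⟨e, he, e2⟩ := h.move_on_line h2 c2 (h.b5_cn c2 h0) c1 h5.symm f1
  obtain ⟨⟨f, hf⟩, e3⟩ := Finite.surjective_of_injective
    (f := fun f : h.Eg y => (⟨f * (g * f * g⁻¹), mul_mem f.2 (h.eg_fx f.2 h3)⟩ : h.Eg y)) (fun f f' e4 => by
      have e5 : (f : G) * (g * f * g⁻¹) = f' * (g * f' * g⁻¹) := congrArg Subtype.val e4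
      have e6 := h4 _ (mul_mem (inv_mem f'.2) f.2) (by
        change _ * _ = _ * _
        rw [← mul_inv_eq_iff_eq_mul, (cE (inv_mem f'.2) f.2).eq, inv_eq_of_sq (h.eg_sq f'.2), ← conj_mul,
          (cE (h.eg_fx f.2 h3) (h.eg_fx f'.2 h3)).eq, eq_inv_mul_of_mul_eq e5.symm, mul_assoc, mul_assoc (f : G),
          h.eg_sq (h.eg_fx f.2 h3), mul_one, inv_eq_of_sq (h.eg_sq f'.2), (cE f.2 f'.2).eq])
      exact Subtype.ext (inv_mul_eq_one.1 e6).symm) ⟨e, he⟩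
  have e4 : f * (g * f * g⁻¹) = e := congrArg Subtype.val e3
  have hf' := h.eg_fx hf h3
  refine ⟨f * u * f, ?_, ?_, ?_⟩
  · simpa [inv_eq_of_sq (h.eg_sq hf)] using
      h.b5_cn c2 (fx_of_comm c1.mem (h.eg_comm hy hf c1.mem (N.cn_comm c1)).symm)
  · rcases (h.mem_eg hy).1 hf with e5 | rfl
    · rw [h.ri.conj_eq c2.mem']
      exact (Commute.refl u).mul_right (h.ri.cm_comm c2.mem' e5.1 (N.sm_fo e5.symm c2.mem' f1).symm).symm
    · simp
  · have := N.sm_cj e2.symm (h.eg_sq hf')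
    have e5 : e * (g * f * g⁻¹) = f := by rw [← e4, mul_assoc, h.eg_sq hf', mul_one]
    rwa [conj_mul, conj_mul, ← mul_assoc _ _ e, ← mul_assoc _ e, mul_assoc _ e, e5, (cE hf' he).eq, e5] at this

theorem n1 (hq : Big D) (hp : Pa D a b c d) (hk : k ∈ Hp D a d) (c1 : Cn D d u) : Commute (k * u * k⁻¹) u := by
  have N := h.toND
  have cdc := N.cn_symm hp.c3
  obtain ⟨-, -, kc, kd⟩ := h.hp_fx hp hk
  have c2 := h.b5_cn c1 kd
  rcases N.cn_nb c1 cdc with e1 | ⟨f1, -⟩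
  · exact h.line_trans h2 c2 cdc c1 (N.sm_comm kc c2.mem' (commute_conj e1 k)) e1.symm
  obtain ⟨z, zz, za, zd, e1⟩ := h.hf h2 hq hp c1 c2 f1.symm (h.b5_fo c1.mem' f1.symm kc)
  have zw : ∀ w ∈ Wp D a d, Commute z w := by
    rintro _ ⟨a', d', e1, e2, -, rfl⟩
    exact ((za _ (h.b4_eg e1)).mul_right (zd _ (h.b4_eg e2))).mul_right (za _ (h.b4_eg e1))
  have zk : Commute z k := by
    obtain ⟨w, hw, w', hw', rfl⟩ := hk
    exact (zw w hw).mul_right (zw w' hw')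
  have c3 := h.b5_cn c2 (fx_of_comm c1.mem (zd d (h.b4_self c1.mem)))
  have e2 : Commute (z * (k * u * k⁻¹) * z⁻¹) u := by
    have := commute_conj e1 z
    rw [show z * (z * u * z) * z⁻¹ = z * z * u by group, zz, one_mul] at this
    exact this.symm
  have e3 : Commute (k * k * u * (k * k)⁻¹) (z * (k * u * k⁻¹) * z⁻¹) := by
    have := commute_conj e1 k
    rw [← conj_mul, ← conj_mul, ← zk.eq, mul_inv_cancel_right] at this
    rw [inv_eq_of_sq zz, show k * k * u * (k * k)⁻¹ = k * (k * u * k⁻¹) * k⁻¹ by group]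
    exact this.symm
  have k2 := N.fx_mul kd kd
  have e4 := h.line_trans h2 (h.b5_cn c1 k2) c3 c1 e3 e2
  have it : ∀ n : ℕ, Fx D ((k * k) ^ n) d ∧ Commute ((k * k) ^ n * u * ((k * k) ^ n)⁻¹) u := fun n => by
    induction n with
    | zero => exact ⟨by simpa using fx_one c1.mem, by simp⟩
    | succ n ih =>
      rw [pow_succ']
      refine ⟨N.fx_mul k2 ih.1, h.line_trans h2 (h.b5_cn c1 (N.fx_mul k2 ih.1)) (h.b5_cn c1 k2) c1 ?_ e4⟩
      convert commute_conj ih.2 (k * k) using 1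
      simp only [mul_inv_rev, mul_assoc]
  obtain ⟨n, hn⟩ := h.hp_odd hp hk
  have := (it (n + 1)).2
  rwa [← pow_two, ← pow_mul, show 2 * (n + 1) = 2 * n + 1 + 1 by ring, pow_succ, ← hn, pow_orderOf_eq_one,
    one_mul] at this

end RS

end CfsgLib.RootInv
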