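import Cfsg.Agent.Lib.RootInv.RTB5
import Cfsg.Agent.Lib.RootInv.RTA7

/-! Root involution theorem, B6: no hexagons, no heptagons. -/

set_option autoImplicit false

namespace CfsgLib.RootInv

open Cfsg CfsgLib.RootSub
open scoped commutatorElement

universe u

variable {G : Type u} [Group G] {D : Set G} {a b c d e f g i j k l m p q r s t u v w x y z : G}

/-- A path that closes up to a hexagon. -/
def Hx (D : Set G) (a b c d : G) : Prop := Pa D a b c d ∧ ∃ x, Cn D d x ∧ Fo c x ∧ Fo a x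

namespace RS

variable [Finite G] (h : RS D)
include h

theorem hx_both (k : Hx D a b c d) : Hx D d c b a ∧ ∃ x, Hx D b c d x := by
  obtain ⟨hp, x, c1, f1, f2⟩ := k
  have ha := hp.c1.mem
  have hx := c1.mem'
  have p1 : Pa D b c d x := ⟨hp.c2, hp.c3, c1, hp.f2, f1⟩
  have f3 : Fo d (cm a x) := h.ri.cm_symm ha hx f2 ▸ h.cn_l2 c1 ha (h.pa_od hp).symm f2.symm
  have f4 : Fo b (cm a x) := ((h.cn_nb hp.c1 (h.cn_cm ha hx f2)).resolve_left fun c =>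
    h.cn_not_od (h.cn_cm' ha hx f2) hp.c2.mem c.symm (h.pa_od p1).symm).1
  exact ⟨⟨h.pa_rev hp, _, h.cn_cm ha hx f2, f4, f3⟩, x, p1, _, h.cn_cm' ha hx f2, f3, f4⟩

theorem hx_conj {a' b' c' d' : G} (k : Hx D a b c d) (e1 : Sm D (g * a * g⁻¹) a') (e2 : Sm D (g * b * g⁻¹) b')
    (e3 : Sm D (g * c * g⁻¹) c') (e4 : Sm D (g * d * g⁻¹) d') : Hx D a' b' c' d' := by
  obtain ⟨hp, x, c1, f1, f2⟩ := k
  have hx := h.conj c1.mem' g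
  exact ⟨h.pa_congr (h.pa_conj hp g) e1 e2 e3 e4, _, h.cn_left (h.cn_conj c1 g) e4,
    h.sm_fo e3 hx ((fo_conj g).2 f1), h.sm_fo e1 hx ((fo_conj g).2 f2)⟩

theorem hp_ne (hq : Big D) (hp : Pa D a b c d) : ∃ k ∈ Hp D a d, k ≠ 1 := by
  obtain ⟨f, -, -, hw⟩ := h.wp_exists hp (Sm.rfl' hp.c1.mem)
  obtain ⟨w', hw', hn⟩ := h.wp_two hq hp hw
  exact ⟨_, ⟨_, hw, _, hw', rfl⟩, hn⟩

variable (h2 : Rk2 D) (hq : Big D)
include h2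

theorem hx_all (k : Hx D a b c d) (hp : Pa D a b v y) : Hx D a b v y := by
  obtain ⟨g, hg, x1, s1⟩ := h.st1 h2 hp.c1 k.1.c2 hp.c2 k.1.f1 hp.f1
  have ha := hp.c1.mem
  have k1 := h.hx_conj k (fx_of_comm ha (h.md_comm ha hg (h.eg_self ha))) x1 s1 (Sm.rfl' (h.conj k.1.c3.mem' g))
  obtain ⟨g', y1, y2, y3, y4⟩ := h.st2 h2 k1.1 hp
  exact h.hx_conj k1 y1 y2 y3 y4

theorem hx_step (k : ∃ c d, Hx D a b c d) (c1 : Cn D a v) (f1 : Fo b v) : ∃ c d, Hx D a v c d := by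
  obtain ⟨c, d, k⟩ := k
  obtain ⟨x, k1⟩ := (h.hx_both (h.hx_both k).1).2
  obtain ⟨y, k2⟩ := (h.hx_both k1).2
  obtain ⟨z, hp⟩ := h.pa_ext k2.1.c1 c1 f1
  exact ⟨_, (h.hx_both (h.hx_all h2 k2 hp)).2⟩

include hq

theorem n2 (hb : ∃ d x, Bad D d x) (hp : Pa D a b c d) (c1 : Cn D d x) (f1 : Fo c x) : ¬ Fo a x := fun f2 => by
  obtain ⟨d₀, x₀, hb⟩ := hb
  obtain ⟨c₀, a₀, g₀, y, p1, p2, hy⟩ := h.config hb
  obtain ⟨g, rfl⟩ := h.exists_conj hp.c1.mem hb.1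
  have k0 : Hx D a b c d := ⟨hp, x, c1, f1, f2⟩
  have k1 := h.hx_conj (g := g) k0 (Sm.rfl' hb.1) (Sm.rfl' (h.conj hp.c2.mem g)) (Sm.rfl' (h.conj hp.c3.mem g))
    (Sm.rfl' (h.conj c1.mem g))
  obtain ⟨f, c3, f3⟩ := h.exists_fo_cn k1.1.c1
  obtain ⟨u, v, k2⟩ : ∃ u v, Hx D (g * a * g⁻¹) c₀ u v := by
    rcases h.cn_nb k1.1.c1 p1.c1 with e | e
    · exact h.hx_step h2 (h.hx_step h2 ⟨_, _, k1⟩ c3 f3) p1.c1 (h.fo_of_line h2 p1.c1 k1.1.c1 c3 e.symm f3).symm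
    · exact h.hx_step h2 ⟨_, _, k1⟩ p1.c1 e.1
  obtain ⟨-, x', c4, f4, f5⟩ := h.hx_all h2 k2 p1
  obtain ⟨z, z1, z2, z3, z4⟩ := h.hf h2 hq p1 c4 p2.c3 f4 p2.f2
  have f6 := (fo_conj z).2 f5
  rw [(z2 _ (h.eg_self hb.1)).eq, mul_inv_cancel_right, inv_eq_of_sq z1] at f6
  have c5 := h.cn_conj c4 z
  rw [(z3 _ (h.eg_self c4.mem)).eq, mul_inv_cancel_right, inv_eq_of_sq z1] at c5
  rcases h.cn_of_line h2 c5 p2.c3 z4 with e | e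
  · exact hy.2.2.1.not_fo (h.sm_fo' e hb.1 f6)
  · exact ((h.bad_symm hy).2.2.2 _ (h.cn_symm e)).not_fo f6.symm

theorem uq (hb : ∃ d x, Bad D d x) (h1 : Pa D p a b y) (h3 : Pa D p c d y) : Sm D a c ∧ Sm D b d := by
  have c1 := h.cn_symm h1.c3
  have c2 := h.cn_symm h3.c3
  have s1 : Sm D b d := (h.cn_of_line h2 c1 c2 ((h.cn_nb c1 c2).resolve_right fun e =>
    h.n2 h2 hq hb h1 c2 e.1 h3.f1)).resolve_right fun c3 => (h.pa_od ⟨h1.c1, h1.c2, c3, h1.f1,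
      (h.fo_of_line h2 c3 h1.c3 (h.cn_symm h1.c2) (h.cn_comm h3.c3) h1.f2.symm).symm⟩).not_fo h3.f1
  exact ⟨((h.cn_common h1.f1 (h.cn_symm h1.c1) h1.c2).symm.trans (h.sm_cm (Sm.rfl' h1.c1.mem) s1 h1.f1)).trans
    (h.cn_common h3.f1 (h.cn_symm h3.c1) h3.c2), s1⟩

theorem refl (h1 : Pa D a b c d) (h3 : Pa D b c d e) (t0 : ∀ k ∈ Hp D a d, Fx D k e) (t1 : ∀ k ∈ Hp D b e, Fx D k a)
    (c1 : Cn D a p) (f1 : Fo p b) (p0 : ∀ k ∈ Hp D a d, Fx D k p) (p1 : ∀ k ∈ Hp D b e, Fx D k p)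
    (hw : w ∈ Wp D a d) : Sm D (w * p * w) e := by
  have hwD := h.wp_mem hw
  have ew := h.ri.sq w hwD
  have mv : ∀ {k}, Fx D (w * k * w) p → Fx D k (w * p * w) := fun x1 => by
    have := h.fx_conj x1 w
    rwa [h.ri.inv hwD, h.ri.cj_cj hwD] at this
  obtain ⟨k, hk, hn⟩ := h.hp_ne hq h3
  have x1 : Fx D k (w * p * w) := mv (by
    have := h.fx_mul (p0 _ ⟨w, hw, _, h.wp_conj (t1 k hk) (h.hp_fx h3 hk).2.2.1 hw, rfl⟩) (p1 k hk)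
    simpa only [mul_assoc, inv_mul_cancel, mul_one] using this)
  have c2 : Cn D d (w * p * w) := h.cn_left (h.a5_cn_cj ew c1) (h.wp_a hw)
  have f2 : Fo (w * p * w) c := h.sm_fo' (h.wp_b h1 hw) c2.mem' (a5_fo_cj ew f1)
  obtain ⟨w', hw', hn'⟩ := h.wp_two hq h1 hw
  have hk0 : w * w' ∈ Hp D a d := ⟨w, hw, w', hw', rfl⟩
  exact h.fix_uniq h2 (h.cn_symm h1.c3) c2 h3.c3 f2.symm (h.two_lines h2 h3 hk hn c2 f2 (h.sm_commute x1))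
    (h.hp_fx h1 hk0).2.2.1 (fun _ he hc => h.hp_fpf h1 hk0 hn' he hc)
    (mv (by rw [h.ri.mm hwD]; exact p0 _ ⟨w', hw', w, hw, rfl⟩)) (t0 _ hk0)

theorem b6_fix (h1 : Pa D a b c d) (c1 : Cn D d u) (f1 : Fo c u) :
    ∃ v, Cn D d v ∧ Commute u v ∧ Fo c v ∧ ∀ k ∈ Hp D a d, Fx D k v := by
  obtain ⟨k, hk, hn⟩ := h.hp_ne hq h1
  have c0 := h.cn_symm h1.c3
  have x := h.hp_fx h1 hk
  have fp : ∀ e ∈ h.Eg c, Commute k e → e = 1 := fun _ he hc => h.hp_fpf h1 hk hn he hc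
  obtain ⟨v, c2, e1, x1⟩ := h.fix_exists h2 c0 c1 f1 x.2.2.2 x.2.2.1 fp (h.n1 h2 hq h1 hk c1)
  have f2 := (h.fo_of_line h2 c2 c1 c0 e1.symm f1.symm).symm
  refine ⟨v, c2, e1, f2, fun l hl => (h.fix_uniq h2 c0 c2 (h.cn_left (h.cn_conj c2 l) (h.hp_fx h1 hl).2.2.2) f2
    (h.n1 h2 hq h1 hl c2).symm x.2.2.1 fp x1 ?_).symm⟩
  have := h.fx_conj x1 l
  rwa [(h.hp_comm h1 hl hk).eq, mul_inv_cancel_right] at this

theorem t1_of (h1 : Pa D a b c d) (h3 : Pa D b c d e) (t0 : ∀ k ∈ Hp D a d, Fx D k e) : ∀ k ∈ Hp D b e, Fx D k a := by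
  have c0 := h.cn_symm h1.c1
  obtain ⟨v, c1, e1, f1, x1⟩ := h.b6_fix h2 hq (h.pa_rev h3) c0 h1.f1.symm
  rw [h.hp_symm e b] at x1
  obtain ⟨k, hk, hn⟩ := h.hp_ne hq h1
  obtain ⟨l, hl, hm⟩ := h.hp_ne hq h3
  have x := h.hp_fx h1 hk
  have c2 := h.cn_left (h.cn_conj c1 k) x.2.1
  have x2 : Fx D k v := by
    refine (h.fix_uniq h2 h1.c2 c1 c2 f1 (h.line_trans h2 c1 c0 c2 e1.symm
      (h.sm_comm' x.1 c2.mem' (commute_conj e1 k))) (h.hp_fx h3 hl).2.1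
      (fun _ he hc => h.hp_fpf (h.pa_rev h3) (h.hp_symm b e ▸ hl) hm he hc) (x1 l hl) ?_).symm
    simpa [mul_assoc] using h.fx_conj (x1 _ (h.hp_conj (h.fx_inv x.2.1) (h.fx_inv (t0 k hk)) hl)) k
  have s1 := h.fix_uniq h2 h1.c2 c0 c1 h1.f1.symm e1 x.2.2.1 (fun _ he hc => h.hp_fpf h1 hk hn he hc) x.1 x2
  exact fun g hg => h.fx_congr s1.symm (x1 g hg)

theorem exists_t0 (h1 : Pa D a b c d) : ∃ e, Pa D b c d e ∧ ∀ k ∈ Hp D a d, Fx D k e := by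
  obtain ⟨u, hu⟩ := h.pa_ext h1.c2 h1.c3 h1.f2
  obtain ⟨v, c1, -, f1, x1⟩ := h.b6_fix h2 hq h1 hu.c3 hu.f2
  exact ⟨v, ⟨h1.c2, h1.c3, c1, h1.f2, f1⟩, x1⟩

theorem b6_fo (hb : ∃ d x, Bad D d x) (hp : Pa D a b c d) (c1 : Cn D d x) (f1 : Fo c x) (h3 : Pa D a u v x) : Fo d v := by
  refine ((h.cn_nb (h.cn_symm c1) (h.cn_symm h3.c3)).resolve_left fun e => ?_).1
  rcases h.cn_of_line h2 (h.cn_symm c1) (h.cn_symm h3.c3) e with s | s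
  · exact (h.pa_od hp).not_fo (h.sm_fo' s.symm hp.c1.mem h3.f1)
  · exact h.n2 h2 hq hb hp s (h.fo_of_line h2 s c1 (h.cn_symm hp.c3) (h.cn_comm h3.c3) f1.symm).symm h3.f1

theorem b6_cyc (hb : ∃ d x, Bad D d x) (p0 : Pa D a b c d) (p3 : Pa D d x y z) (p4 : Pa D x y z a) (hk : k ∈ Hp D a d) :
    Fx D k x := by
  have x1 := h.hp_fx p0 hk
  have c1 := h.cn_left (h.cn_conj p3.c1 k) x1.2.2.2
  have c2 := h.cn_symm p4.c3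
  have c3 := h.cn_left (h.cn_conj c2 k) x1.1
  have f1 := (fo_conj k).2 p3.f2
  refine (h.cn_of_line h2 c1 p3.c1 (h.n1 h2 hq p0 hk p3.c1)).resolve_right fun c4 => ?_
  have p5 : Pa D (k * x * k⁻¹) x y z := ⟨c4, p3.c2, p3.c3,
    h.fo_of_line h2 (h.cn_symm c4) (h.cn_symm p3.c1) p3.c2 (h.cn_comm c1).symm p3.f1, p3.f2⟩
  rcases h.cn_of_line h2 c3 c2 (h.n1 h2 hq (h.pa_rev p0) (h.hp_symm a d ▸ hk) c2) with s | s
  · exact (h.pa_od p5).not_fo (h.sm_fo' s c4.mem f1)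
  · exact h.n2 h2 hq hb p5 (h.cn_symm s)
      (h.fo_of_line h2 (h.cn_symm s) p4.c3 (h.cn_symm p3.c3) (h.cn_comm c3).symm p4.f2.symm).symm f1

theorem n3 (hb : ∃ d x, Bad D d x) (hp : Pa D a b c d) (c1 : Cn D d x) (f1 : Fo c x) : Bad D a x := by
  have ho : Od a x := by_contra fun n => h.n2 h2 hq hb hp c1 f1 (h.ri.fo_of hp.c1.mem c1.mem'
    (fun e => h.cn_l0 c1 hp.c1.mem (h.pa_od hp).symm (Commute.symm e)) n)
  refine (h.good_or_bad hp.c1.mem c1.mem' ho).resolve_left ?_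
  rintro ⟨z, y, p⟩
  have p1 : Pa D b c d x := ⟨hp.c2, hp.c3, c1, hp.f2, f1⟩
  have p4 := h.pa_rev p
  have f2 := h.b6_fo h2 hq hb hp c1 f1 p
  have f3 := h.b6_fo h2 hq hb (h.pa_rev p1) (h.cn_symm hp.c1) hp.f1.symm p4
  have p2 : Pa D c d x y := ⟨hp.c3, c1, p4.c1, f1, f2⟩
  have p3 : Pa D d x y z := ⟨c1, p4.c1, p4.c2, f2, p4.f1⟩
  have p5 : Pa D y z a b := ⟨p4.c2, p4.c3, hp.c1, p4.f2, f3.symm⟩
  have t0 : ∀ k ∈ Hp D a d, Fx D k x := fun k hk => h.b6_cyc h2 hq hb hp p3 p4 hk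
  have t1 := h.t1_of h2 hq hp p1 t0
  obtain ⟨f, -, -, hw⟩ := h.wp_exists hp (Sm.rfl' hp.c1.mem)
  refine h.nm h2 (h.wp_mem hw) p4.c2 p.c3 p.f2 (h.refl h2 hq hp p1 t0 t1 p.c1 f3.symm (fun k hk =>
    h.b6_cyc h2 hq hb (h.pa_rev hp) p (h.pa_rev p3) (h.hp_symm a d ▸ hk)) (fun k hk => ?_) hw)
  refine h.fx_congr (h.cn_common p4.f2 p.c2 p4.c3) ?_
  rw [Fx, ← cm_conj]
  exact h.sm_cm (h.b6_cyc h2 hq hb p1 p4 p5 hk) (t1 k hk) ((fo_conj k).2 p4.f2)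

end RS

end CfsgLib.RootInv
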