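import Cfsg.Agent.Lib.RootInv.RTB6

/-! Root involution theorem, B7: the octagon. -/

set_option autoImplicit false

namespace CfsgLib.RootInv

open Cfsg CfsgLib.RootSub
open scoped commutatorElement

universe u

variable {G : Type u} [Group G] {D : Set G} {a b c d e f g i j k l m p q r s t u v w x y z : G}

namespace RS

variable [Finite G] (h : RS D)
include h

omit [Finite G] in
theorem b7_zero {F : Type} [Field F] {π : F → G} (hπ : ∀ s t, π (s + t) = π s * π t) : π 0 = 1 := by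
  simpa using hπ 0 0

theorem b7_eg {F : Type} [Field F] {π : F → G} (hπ : ∀ s t, π (s + t) = π s * π t) (hs : ∀ t, t ≠ 0 → Sm D (π t) a)
    (t : F) : π t ∈ h.Eg a := by
  by_cases e : t = 0
  · rw [e, h.b7_zero hπ]; exact one_mem _
  · exact (h.mem_eg (hs t e).2.1).2 (Or.inl (hs t e))

omit [Finite G] in
theorem b7_inj {F : Type} [Field F] (C : Co D F a b c d) {s t : F} (e : C.r s = C.r t) : s = t := by
  by_contra hn
  have h1 := C.r_add (s - t) t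
  rw [sub_add_cancel, e, right_eq_mul] at h1
  exact h.ri.ne _ (C.r_sm _ (sub_ne_zero.2 hn)).1 h1

theorem b7_cent (hp : Pa D a b c d) (h3 : Fx D g d) (hc : ∀ e ∈ h.Eg a, Commute g e) : ∀ e ∈ h.Eg d, Commute g e := by
  intro e he
  have hd := hp.c3.mem'
  rcases (h.mem_eg hd).1 he with he | rfl
  · obtain ⟨a', s1, o3⟩ := h.t3 (h.pa_congr (h.pa_rev hp) he.symm (Sm.rfl' hp.c3.mem) (Sm.rfl' hp.c2.mem) (Sm.rfl' hp.c1.mem))
    rw [orderOf_mul_swap] at o3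
    have c1 := hc a' ((h.mem_eg hp.c1.mem).2 (Or.inl s1))
    have o4 : orderOf (a' * (g * e * g⁻¹)) = 3 := by
      rw [← o3, show a' * (g * e * g⁻¹) = g * (a' * e) * g⁻¹ by rw [← mul_assoc g, c1.eq]; group, Invol.orderOf_conj]
    have := h.three_uniq (h.pa_congr hp s1.symm (Sm.rfl' hp.c2.mem) (Sm.rfl' hp.c3.mem) (Sm.rfl' hd))
      ((h.sm_conj he g).trans h3) he o4 o3
    exact mul_inv_eq_iff_eq_mul.1 this
  · exact Commute.one_right g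

theorem b7_oct (hq : Big D) (o : ZMod 8 → G) (hP : ∀ i, Pa D (o i) (o (i + 1)) (o (i + 2)) (o (i + 3)))
    (hW : ∀ w ∈ Wp D (o 0) (o 3), ∀ i, Sm D (w * o i * w) (o (3 - i)))
    (hV : ∀ w ∈ Wp D (o 1) (o 4), ∀ i, Sm D (w * o i * w) (o (5 - i)))
    (hM : ∀ m ∈ D, Sm D (m * o 0 * m) (o 4) → ∀ i, Sm D (m * o i * m) (o (i + 4))) (hod : Od (o 0) (o 4)) : False := by
  have P0 : Pa D (o 0) (o 1) (o 2) (o 3) := by simpa using hP 0
  have P1 : Pa D (o 1) (o 2) (o 3) (o 4) := hP 1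
  have hD : ∀ i, o i ∈ D := fun i => (hP i).c1.mem
  obtain ⟨F, _, _, ⟨C⟩⟩ := h.exists_co P0
  obtain ⟨Sc, hSc⟩ : ∃ Sc : G → F → Prop, ∀ g σ, Sc g σ ↔ ∀ s, g * C.r s * g⁻¹ = C.r (σ * s) := ⟨_, fun _ _ => Iff.rfl⟩
  obtain ⟨K, hK⟩ : ∃ K : G → Prop, ∀ g, K g ↔ ∀ i, Fx D g (o i) := ⟨_, fun _ => Iff.rfl⟩
  have Kmul : ∀ {g k}, K g → K k → K (g * k) := fun h1 h3 => (hK _).2 fun i => h.fx_mul ((hK _).1 h1 i) ((hK _).1 h3 i)
  have Kinv : ∀ {g}, K g → K g⁻¹ := fun h1 => (hK _).2 fun i => h.fx_inv ((hK _).1 h1 i)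
  have Smul : ∀ {g k σ τ}, Sc g σ → Sc k τ → Sc (g * k) (σ * τ) := fun {g k σ τ} h1 h3 => (hSc _ _).2 fun s => by
    rw [mul_assoc σ, ← (hSc _ _).1 h1, ← (hSc _ _).1 h3]; group
  have Sinv : ∀ {g σ}, σ ≠ 0 → Sc g σ → Sc g⁻¹ σ⁻¹ := fun {g σ} h0 h1 => (hSc _ _).2 fun s => by
    have := (hSc _ _).1 h1 (σ⁻¹ * s)
    rw [mul_inv_cancel_left₀ h0] at this
    rw [← this]; group
  have rE := h.b7_eg C.r_add C.r_sm
  have cz : ∀ {g}, K g → Sc g 1 → ∀ i, ∀ e ∈ h.Eg (o i), Commute g e := fun {g} h1 h3 i => by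
    have h4 : ∀ n : ℕ, ∀ e ∈ h.Eg (o (2 + 3 * n)), Commute g e := fun n => by
      induction n with
      | zero =>
        intro e he
        rcases (h.mem_eg (hD _)).1 he with he | rfl
        · obtain ⟨t, -, rfl⟩ := C.r_surj e (by simpa using he)
          exact mul_inv_eq_iff_eq_mul.1 (by simpa using (hSc _ _).1 h3 t)
        · exact Commute.one_right g
      | succ n ih =>
        have := h.b7_cent (hP (2 + 3 * n)) ((hK _).1 h1 _) ih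
        rwa [show (2 + 3 * n + 3 : ZMod 8) = 2 + 3 * (n + 1 : ℕ) by push_cast; ring] at this
    obtain ⟨n, rfl⟩ := (by decide : ∀ i : ZMod 8, ∃ n : Fin 8, i = 2 + 3 * (n.val : ℕ)) i
    exact h4 n
  -- reflections
  have Kref : ∀ {w w' : G} {j : ZMod 8}, w * w = 1 → w' * w' = 1 → (∀ i, Sm D (w * o i * w) (o (j - i))) →
      (∀ i, Sm D (w' * o i * w') (o (j - i))) → K (w * w') := fun {w w' j} e1 e2 h1 h3 => (hK _).2 fun i => by
    have := (h.sm_cj (h3 i) e1).trans (h1 _)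
    rw [sub_sub_cancel] at this
    rw [Fx, mul_inv_rev, inv_eq_of_sq e1, inv_eq_of_sq e2]
    simpa only [mul_assoc] using this
  have Sref : ∀ {π : F → G} {w w' : G} {τ τ' : F}, w * w = 1 → w' * w' = 1 → τ' ≠ 0 → (∀ s, w * π s * w = C.r (s * τ)) →
      (∀ s, w' * π s * w' = C.r (s * τ')) → Sc (w * w') (τ / τ') := fun {π w w' τ τ'} e1 e2 h0 h1 h3 =>
    (hSc _ _).2 fun s => by
      rw [mul_inv_rev, inv_eq_of_sq e1, inv_eq_of_sq e2, show τ / τ' * s = s / τ' * τ by ring, ← h1,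
        show C.r s = w' * π (s / τ') * w' by rw [h3, div_mul_cancel₀ _ h0]]
      simp only [mul_assoc, ← mul_assoc w' w', e2, one_mul]
  have inv : ∀ {W : Set G} {j : ZMod 8} {π : F → G}, W ⊆ D → (∀ w ∈ W, ∀ i, Sm D (w * o i * w) (o (j - i))) →
      (∀ w ∈ W, ∃ τ, τ ≠ 0 ∧ ∀ s, w * π s * w = C.r (s * τ)) → (∀ τ, τ ≠ 0 → ∃ w ∈ W, ∀ s, w * π s * w = C.r (s * τ)) →
      ∀ w ∈ W, ∀ g σ, σ ≠ 0 → K g ∧ Sc g σ → K (w * g * w) ∧ Sc (w * g * w) σ⁻¹ := by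
    intro W j π h0 h1 h3 h4 w hw g σ hσ hg
    obtain ⟨τ, t0, t1⟩ := h3 w hw
    obtain ⟨v, hv, t2⟩ := h4 (σ * τ) (mul_ne_zero hσ t0)
    have ew := h.ri.sq w (h0 hw)
    have ev := h.ri.sq v (h0 hv)
    have s1 := Sinv (by simpa [t0] using hσ) (Sref ev ew t0 t2 t1)
    rw [mul_div_cancel_right₀ _ t0] at s1
    have k1 := Kinv (Kref ev ew (h1 v hv) (h1 w hw))
    have c1 := cz (Kmul k1 hg.1) (by simpa [hσ] using Smul s1 hg.2)
    refine ⟨(hK _).2 fun i => ?_, ?_⟩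
    · have := h.fx_congr (by simpa [inv_eq_of_sq ew] using h1 w hw (j - i)) (h.fx_conj ((hK _).1 hg.1 (j - i)) w)
      rwa [inv_eq_of_sq ew] at this
    · have s2 : Sc (w * ((v * w)⁻¹ * g) * w) 1 := (hSc _ _).2 fun s => by
        have e3 := h.eg_conj (rE s) w
        rw [inv_eq_of_sq ew, h.eg_congr (h1 w hw 2)] at e3
        have := (h.ri.cj_commute (h0 hw) (c1 _ _ e3)).eq
        rw [h.ri.cj_cj (h0 hw)] at this
        rw [this, one_mul, mul_inv_cancel_right]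
      have := Smul s1 s2
      rw [mul_one] at this
      convert this using 1
      simp only [mul_inv_rev, inv_eq_of_sq ew, inv_eq_of_sq ev, mul_assoc, h.ri.mm (h0 hw), h.ri.mm (h0 hv)]
  have W1 : ∀ {e f : G} {t : F}, Sm D e (o 0) → Sm D f (o 3) → orderOf (e * f) = 3 → C.y t = f →
      ∀ s, e * f * e * C.p s * (e * f * e) = C.r (s * t) := fun {e f t} s1 s2 o3 e1 s => by
    have hb : e * f * e = f * e * f := by
      have : (e * f) ^ 3 = 1 := o3 ▸ pow_orderOf_eq_one _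
      rw [← inv_eq_of_sq (h.ri.sq _ (h.ri.conj e s1.1 f s2.1)), eq_inv_iff_mul_eq_one, ← this]
      simp only [pow_succ, pow_zero, one_mul, mul_assoc]
    rw [hb, h.w_conj (h.pa_congr (h.pa_rev P0) s2.symm (Sm.rfl' (hD 2)) (Sm.rfl' (hD 1)) s1.symm)
      (by rwa [orderOf_mul_swap]) (h.b7_eg C.p_add C.p_sm s), ← e1, C.yp]
  have W3 : ∀ w ∈ Wp D (o 0) (o 3), ∃ τ, τ ≠ 0 ∧ ∀ s, w * C.p s * w = C.r (s * τ) := by
    rintro w ⟨e, f, s1, s2, o3, rfl⟩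
    obtain ⟨t, t0, e1⟩ := C.y_surj f s2
    exact ⟨t, t0, W1 s1 s2 o3 e1⟩
  have W4 : ∀ τ, τ ≠ 0 → ∃ w ∈ Wp D (o 0) (o 3), ∀ s, w * C.p s * w = C.r (s * τ) := fun τ t0 => by
    obtain ⟨e, s1, o3, -⟩ := h.wp_exists (h.pa_rev P0) (C.y_sm τ t0)
    rw [orderOf_mul_swap] at o3
    exact ⟨_, ⟨e, _, s1, C.y_sm τ t0, o3, rfl⟩, W1 s1 (C.y_sm τ t0) o3 rfl⟩
  have V1 : ∀ {e f : G} {t : F}, Sm D e (o 1) → Sm D f (o 4) → orderOf (e * f) = 3 → C.p t = e →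
      ∀ s, e * f * e * C.y s * (e * f * e) = C.r (s * t) := fun {e f t} s1 s2 o3 e1 s => by
    have hy := h.b7_eg C.st.y_add C.y_sm s
    rw [h.w_conj (h.pa_congr P1 s1.symm (Sm.rfl' (hD 2)) (Sm.rfl' (hD 3)) s2.symm) o3 hy, mul_comm s t,
      ← inv_eq_of_sq (h.eg_sq (rE (t * s))), ← C.yp, e1]
    simp only [cm, mul_inv_rev, h.ri.inv s1.1, inv_eq_of_sq (h.eg_sq hy), mul_assoc]
  have V3 : ∀ w ∈ Wp D (o 1) (o 4), ∃ τ, τ ≠ 0 ∧ ∀ s, w * C.y s * w = C.r (s * τ) := by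
    rintro w ⟨e, f, s1, s2, o3, rfl⟩
    obtain ⟨t, t0, e1⟩ := C.p_surj e s1
    exact ⟨t, t0, V1 s1 s2 o3 e1⟩
  have V4 : ∀ τ, τ ≠ 0 → ∃ w ∈ Wp D (o 1) (o 4), ∀ s, w * C.y s * w = C.r (s * τ) := fun τ t0 => by
    obtain ⟨f, s1, o3, hw⟩ := h.wp_exists P1 (C.p_sm τ t0)
    exact ⟨_, hw, V1 (C.p_sm τ t0) s1 o3 rfl⟩
  have iW := inv (fun _ hw => h.wp_mem hw) hW W3 W4
  have iV := inv (fun _ hw => h.wp_mem hw) hV V3 V4
  obtain ⟨w, hw, -⟩ := W4 1 one_ne_zero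
  obtain ⟨v, hv, -⟩ := V4 1 one_ne_zero
  have hwD := h.wp_mem hw
  have hvD := h.wp_mem hv
  have ns : ¬ Sm D (o 0) (o 4) := fun e => (e.od (hD 4) hod).1 rfl
  have hρ : ∀ i, Sm D (w * v * o i * (w * v)⁻¹) (o (i - 2)) := fun i => by
    have := (h.sm_cj (hV v hv i) (h.ri.sq w hwD)).trans (hW w hw _)
    rw [show 3 - (5 - i) = i - 2 by ring] at this
    simpa only [mul_inv_rev, h.ri.inv hwD, h.ri.inv hvD, mul_assoc] using this
  have hρ2 : ∀ i, Sm D (cm w v * o i * (cm w v)⁻¹) (o (i - 4)) := fun i => by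
    have := (h.sm_conj (hρ i) (w * v)).trans (hρ _)
    rw [show i - 2 - 2 = i - 4 by ring] at this
    simpa only [cm, mul_inv_rev, mul_assoc] using this
  have fwv : Fo w v := h.ri.fo_of hwD hvD (fun c => ns (by simpa [h.ri.cm_eq_one hwD hvD c] using (hρ2 4).symm)) fun ho => by
    let X : Subgroup G := ⟨⟨⟨{g | Fx D g (o 0)}, fun h1 h3 => h.fx_mul h1 h3⟩, fx_one (hD 0)⟩, fun h1 => h.fx_inv h1⟩
    have e1 : w * v * (w * v) = cm w v := by simp only [cm, mul_assoc]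
    have x1 : cm w v * cm w v ∈ X := by
      have := (h.sm_conj (hρ2 0) (cm w v)).trans (hρ2 _)
      change Sm D _ _
      simpa only [mul_inv_rev, mul_assoc, show (0 - 4 - 4 : ZMod 8) = 0 from rfl] using this
    have x2 : w * v ∈ X := mem_of_sq_mem ho.2 (e1 ▸ mem_of_sq_mem
      (by rw [cm_eq_sq]; exact ho.2.of_dvd_nat (orderOf_pow_dvd 2)) x1)
    exact h.ri.fo_not_comm (hD 6) (hD (6 + 2)) (hP 6).f1 (h.sm_commute ((hρ 0).symm.trans x2))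
  have hn := h.ri.fo_mem hwD hvD fwv
  have iN : ∀ g σ, σ ≠ 0 → K g ∧ Sc g σ → Sc (cm w v * g * cm w v) σ := fun g σ h0 hg => by
    have := (iW w hw _ _ (by simpa using h0) (iV v hv _ _ (by simpa using h0)
      (iW w hw _ _ (by simpa using h0) (iV v hv g σ h0 hg)))).2
    rw [inv_inv, inv_inv] at this
    convert this using 1
    nth_rewrite 2 [← h.ri.cm_symm hwD hvD fwv]
    simp only [cm, mul_assoc]
  have n0 : Sm D (cm w v * o 0 * cm w v) (o 4) := by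
    simpa only [h.ri.inv hn, show (0 - 4 : ZMod 8) = 4 from rfl] using hρ2 0
  generalize cm w v = n at *
  obtain ⟨x, sx, nx⟩ := hq _ n0.1
  obtain ⟨m, hm, -, em, -⟩ := h.ri.exists_mid (hD 0) sx.1 ((sx.trans n0).symm.od' (hD 0) hod)
  have m0 : Sm D (m * o 0 * m) (o 4) := em ▸ sx.trans n0
  have kK : K (m * n) := (hK _).2 fun i => by
    have := (h.sm_cj (hM n hn n0 i) (h.ri.sq m hm)).trans (hM m hm m0 _)
    rw [show i + 4 + 4 = i by rw [add_assoc]; exact add_zero i] at this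
    rw [Fx, mul_inv_rev, h.ri.inv hm, h.ri.inv hn]
    simpa only [mul_assoc] using this
  have hκ : ∀ s, ∃ t, m * n * C.r s * (m * n)⁻¹ = C.r t := fun s => by
    rcases (h.mem_eg (hD 2)).1 (h.eg_fx (rE s) ((hK _).1 kK 2)) with e | e
    · exact (C.r_surj _ e).imp fun t ht => ht.2.symm
    · exact ⟨0, e.trans (h.b7_zero C.r_add).symm⟩
  choose κ hκ using hκ
  have ek : n * (m * n) * n = (m * n)⁻¹ := by rw [mul_inv_rev, h.ri.inv hm, h.ri.inv hn, ← mul_assoc, h.ri.mm' hn]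
  have fpf : ∀ e, Sm D e (o 0) → m * n * e * (m * n)⁻¹ ≠ e := fun e se e1 => by
    have od : ∀ u ∈ D, Sm D (u * o 0 * u) (o 4) → Od e u := fun u hu s1 => by
      have o1 : Od e (u * e * u) := ((h.sm_cj se (h.ri.sq u hu)).trans s1).symm.od' se.1 (se.symm.od (hD 4) hod)
      by_contra o2
      refine h.ri.od_not_comm se.1 (h.ri.conj e se.1 u hu) o1 ?_
      by_cases c : e * u = u * e
      · rw [h.ri.cj_of hu (Commute.symm c)]
      · rw [h.ri.conj_eq se.1]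
        exact ((Commute.refl e).mul_right (Commute.symm (h.ri.cm_comm se.1 hu (h.ri.fo_of se.1 hu c o2)))).eq
    have e2 : m * e * m = n * e * n := by
      nth_rewrite 1 [← e1]
      simp only [mul_inv_rev, h.ri.inv hm, h.ri.inv hn, mul_assoc, h.ri.mm hm, h.ri.sq m hm, mul_one]
    exact nx (em ▸ h.ri.mid_uniq se.1 (od m hm m0) (od n hn n0) e2 ▸ rfl)
  have hn2 := h.ri.sq n hn
  generalize m * n = k at *
  have lin : ∀ σ, σ ≠ 0 → ∀ s, κ (κ (σ * s)) = σ * κ (κ s) := fun σ h0 s => by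
    obtain ⟨τ, t0, t1⟩ := W3 w hw
    obtain ⟨u, hu, t2⟩ := W4 (σ * τ) (mul_ne_zero h0 t0)
    have huD := h.wp_mem hu
    have s1 := Sref (h.ri.sq u huD) (h.ri.sq w hwD) t0 t2 t1
    rw [mul_div_cancel_right₀ _ t0] at s1
    have k1 := Kref (h.ri.sq u huD) (h.ri.sq w hwD) (hW u hu) (hW w hw)
    have hu' := h.wp_conj ((hK _).1 kK 0) ((hK _).1 kK 3) hu
    have hw' := h.wp_conj ((hK _).1 kK 0) ((hK _).1 kK 3) hw
    obtain ⟨α, a0, a1⟩ := W3 _ hu'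
    obtain ⟨β, b0, b1⟩ := W3 _ hw'
    have s2 := Sref (h.ri.sq _ (h.wp_mem hu')) (h.ri.sq _ (h.wp_mem hw')) b0 a1 b1
    rw [conj_mul] at s2
    have s3 := iN _ _ (div_ne_zero a0 b0) ⟨Kmul (Kmul kK k1) (Kinv kK), s2⟩
    have s4 := iN _ _ h0 ⟨k1, s1⟩
    have e3 : n * (k * (u * w) * k⁻¹) * n = k⁻¹ * (n * (u * w) * n) * k := by
      have e4 : n * k⁻¹ * n = k := by rw [← ek]; simp only [mul_assoc, h.ri.mm hn, hn2, mul_one]
      rw [h.ri.cj hn, h.ri.cj hn, ek, e4]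
    have q1 : ∀ t, κ (σ * t) = α / β * κ t := fun t => h.b7_inj C (by
      rw [← hκ, ← (hSc _ _).1 s2, ← hκ, ← (hSc _ _).1 s1]; group)
    have q2 : ∀ t, κ (α / β * t) = σ * κ t := fun t => h.b7_inj C (by
      rw [← hκ, ← (hSc _ _).1 s3, ← (hSc _ _).1 s4, ← hκ, e3]; group)
    rw [q1, q2]
  have e0 : κ 0 = 0 := h.b7_inj C (by rw [← hκ, h.b7_zero C.r_add, mul_one, mul_inv_cancel])
  have s5 : Sc (k * k) (κ (κ 1)) := (hSc _ _).2 fun s => by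
    have : κ (κ s) = κ (κ 1) * s := by
      by_cases e : s = 0
      · rw [e, e0, e0, mul_zero]
      · rw [mul_comm, ← lin s e, mul_one]
    rw [← this, ← hκ, ← hκ]; group
  have c0 : κ (κ 1) ≠ 0 := fun e => h.ri.ne _ (C.r_sm 1 one_ne_zero).1 (by
    have := (hSc _ _).1 s5 1
    rwa [e, zero_mul, h.b7_zero C.r_add, conj_eq_one_iff] at this)
  have s6 := iN _ _ c0 ⟨Kmul kK kK, s5⟩
  rw [h.ri.cj hn, ek, ← mul_inv_rev] at s6
  have e5 := h.b7_inj C (((hSc _ _).1 s6 1).symm.trans ((hSc _ _).1 (Sinv c0 s5) 1))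
  have e6 : κ (κ 1) = 1 := by
    rw [mul_one, mul_one] at e5
    have e7 : (κ (κ 1) + 1) ^ 2 = 0 := by
      have := mul_inv_cancel₀ c0
      rw [← e5] at this
      linear_combination this + (κ (κ 1) + 1) * C.two
    linear_combination (pow_eq_zero_iff two_ne_zero).1 e7 - C.two
  have c1 := cz (Kmul kK kK) (e6 ▸ s5) 0 (o 0) ((h.mem_eg (hD 0)).2 (Or.inl (Sm.rfl' (hD 0))))
  have s7 : Sm D (k * o 0 * k⁻¹) (o 0) := (hK _).1 kK 0
  have s8 := h.mul _ (hD 0) _ s7.1 s7.2.2.symm (fpf _ (Sm.rfl' (hD 0))).symm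
  refine fpf _ ⟨s8.1, hD 0, s8.2⟩ ?_
  rw [← conj_mul, show k * (k * o 0 * k⁻¹) * k⁻¹ = k * k * o 0 * (k * k)⁻¹ by group, c1.eq,
    mul_inv_cancel_right, (h.sm_commute s7).eq]

theorem b7_fix (h2 : Rk2 D) (hq : Big D) (hb : ∃ d x, Bad D d x) (h1 : Pa D a b c d) (h3 : Pa D b c d e)
    (x1 : Fx D k a) (x2 : Fx D k e) (hc : Commute (k * d * k⁻¹) d) : Fx D k b ∧ Fx D k d := by
  have h4 := h.pa_conj h1 k
  have h5 := h.pa_congr h4 x1 (Sm.rfl' h4.c2.mem) (Sm.rfl' h4.c3.mem) (Sm.rfl' h4.c3.mem')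
  have c1 := h.cn_symm ((h.cn_conj h3.c3 k).of_right x2)
  have x3 : Fx D k d := (h.cn_of_line h2 c1 (h.cn_symm h3.c3) hc).resolve_right fun c2 =>
    ((h.n3 h2 hq hb h1 (h.cn_symm c2) (h.fo_of_line h2 (h.cn_symm c2) h3.c3 (h.cn_symm h1.c3)
      (h.cn_comm c1).symm h3.f2.symm).symm).2.2.2 _ h5.c1).not_fo h5.f2
  exact ⟨(h.uq h2 hq hb (h.pa_congr h5 (Sm.rfl' h1.c1.mem) (Sm.rfl' h4.c2.mem) (Sm.rfl' h4.c3.mem) x3) h1).1, x3⟩

theorem b7_mid (h2 : Rk2 D) (hq : Big D) (hb : ∃ d x, Bad D d x) (h1 : Pa D a b c d) (h3 : Pa D b c d e)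
    (t0 : ∀ k ∈ Hp D a d, Fx D k e) (hm : m ∈ D) (s1 : Sm D (m * a * m) e) :
    Pa D e (m * b * m) (m * c * m) (m * d * m) ∧ Pa D (m * b * m) (m * c * m) (m * d * m) a ∧ Fo d (m * b * m) ∧
      Fo (m * d * m) b ∧ (∀ w ∈ Wp D a d, Sm D (w * (m * d * m) * w) e) ∧ ∀ w ∈ Wp D b e, Sm D (w * (m * b * m) * w) a := by
  have t1 := h.t1_of h2 hq h1 h3 t0
  have e1 := h.ri.sq m hm
  have s2 : Sm D (m * e * m) a := by simpa only [h.ri.cj_cj hm] using (h.sm_cj s1 e1).symm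
  have p1 := h.pa_conj h1 m
  have p3 := h.pa_conj h3 m
  rw [h.ri.inv hm] at p1 p3
  replace p1 := h.pa_congr p1 s1 (Sm.rfl' p1.c2.mem) (Sm.rfl' p1.c3.mem) (Sm.rfl' p1.c3.mem')
  replace p3 := h.pa_congr p3 (Sm.rfl' p3.c1.mem) (Sm.rfl' p3.c2.mem) (Sm.rfl' p3.c3.mem) s2
  have f1 : Fo d (m * b * m) := by
    refine ((h.cn_nb (h.cn_symm h3.c3) p1.c1).resolve_left fun c0 => ?_).1
    have c1 := (h.cn_of_line h2 (h.cn_symm h3.c3) p1.c1 c0).resolve_left fun s =>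
      h.nm h2 hm (h.cn_symm h1.c2) h1.c3 h1.f2 s.symm
    have c2 : Cn D (m * d * m) b := by simpa only [h.ri.inv hm, h.ri.cj_cj hm] using h.cn_conj c1 m
    exact h.n2 h2 hq hb ⟨c2, h1.c2, h1.c3, h.fo_of_line h2 (h.cn_symm c2) (h.cn_symm h1.c1) h1.c2 (h.cn_comm p3.c3) h1.f1,
      h1.f2⟩ c1 (h.fo_of_line h2 c1 h3.c3 (h.cn_symm h1.c3) (h.cn_comm p1.c1).symm h3.f2.symm).symm p3.f1.symm
  have f2 : Fo (m * d * m) b := by simpa only [h.ri.inv hm, h.ri.cj_cj hm] using (fo_conj m).2 f1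
  have q0 : ∀ k ∈ Hp D a d, Fx D k (m * b * m) ∧ Fx D k (m * d * m) := fun k hk =>
    h.b7_fix h2 hq hb p1 p3 (t0 k hk) (h.hp_fx h1 hk).1
      (h.n1 h2 hq (h.pa_rev h1) (h.hp_symm a d ▸ hk) (h.cn_symm p3.c3))
  have q1 : ∀ k ∈ Hp D b e, Fx D k (m * d * m) ∧ Fx D k (m * b * m) := fun k hk =>
    h.b7_fix h2 hq hb (h.pa_rev p3) (h.pa_rev p1) (t1 k hk) (h.hp_fx h3 hk).2.2.2 (h.n1 h2 hq h3 hk p1.c1)
  exact ⟨p1, p3, f1, f2, fun w hw => h.refl h2 hq h1 h3 t0 t1 (h.cn_symm p3.c3) f2 (fun k hk => (q0 k hk).2)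
    (fun k hk => (q1 k hk).1) hw, fun w hw => h.refl h2 hq (h.pa_rev h3) (h.pa_rev h1) (h.hp_symm b e ▸ t1)
    (h.hp_symm a d ▸ t0) p1.c1 f1.symm (h.hp_symm b e ▸ fun k hk => (q1 k hk).2)
    (h.hp_symm a d ▸ fun k hk => (q0 k hk).1) (h.wp_symm b e ▸ hw)⟩

theorem no_bad (h2 : Rk2 D) (hq : Big D) : ¬ Bad D d x := fun hb0 => by
  have hb : ∃ d x, Bad D d x := ⟨d, x, hb0⟩
  obtain ⟨b, c, g, -, h1, -⟩ := h.config hb0
  obtain ⟨e, h3, t0⟩ := h.exists_t0 h2 hq h1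
  have ho := (h.n3 h2 hq hb h1 h3.c3 h3.f2).2.2.1
  obtain ⟨m, hm, -, em, -⟩ := h.ri.exists_mid h1.c1.mem h3.c3.mem' ho
  obtain ⟨p1, p3, f1, f2, hW, hV⟩ := h.b7_mid h2 hq hb h1 h3 t0 hm (by rw [em]; exact Sm.rfl' h3.c3.mem')
  generalize m * b * m = p5 at *
  generalize m * c * m = p6 at *
  generalize m * g * m = p7 at *
  have bk : ∀ {w p q : G}, w ∈ D → Sm D (w * p * w) q → Sm D (w * q * w) p := fun hw s => by
    simpa only [h.ri.cj_cj hw] using (h.sm_cj s (h.ri.sq _ hw)).symm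
  have pc : ∀ {w p q r s p' s' : G}, w ∈ D → Pa D p q r s → Sm D (w * p * w) p' → Sm D (w * s * w) s' →
      Pa D p' (w * q * w) (w * r * w) s' := fun {w p q r s p' s'} hw hp s1 s2 => by
    have := h.pa_conj hp w
    rw [h.ri.inv hw] at this
    exact h.pa_congr this s1 (Sm.rfl' this.c2.mem) (Sm.rfl' this.c3.mem) s2
  refine h.b7_oct hq ![d, b, c, g, e, p5, p6, p7] (fun i => ?_) (fun w hw i => ?_) (fun w hw i => ?_) (fun n hn s0 i => ?_) ho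
  · fin_cases i
    exacts [h1, h3, ⟨h1.c3, h3.c3, p1.c1, h3.f2, f1⟩, ⟨h3.c3, p1.c1, p1.c2, f1, p1.f1⟩, p1, p3,
      ⟨p1.c3, p3.c3, h1.c1, p3.f2, f2⟩, ⟨p3.c3, h1.c1, h1.c2, f2, h1.f1⟩]
  · have hD := h.wp_mem hw
    have a1 := h.wp_a hw
    have a2 := h.wp_b h1 hw
    have a3 := hW w hw
    have a4 := (h.uq h2 hq hb (pc hD p1 (bk hD a3) a3) (h.pa_rev p1)).1
    fin_cases i
    exacts [a1, a2, bk hD a2, bk hD a1, bk hD a3, a4, bk hD a4, a3]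
  · have hD := h.wp_mem hw
    have a1 := h.wp_a hw
    have a2 := h.wp_b h3 hw
    have a3 := hV w hw
    have a4 := (h.uq h2 hq hb (pc hD p3 a3 (bk hD a3)) (h.pa_rev p3)).1
    fin_cases i
    exacts [bk hD a3, a1, a2, bk hD a2, bk hD a1, a3, a4, bk hD a4]
  · obtain ⟨q1, -, -, -, nW, nV⟩ := h.b7_mid h2 hq hb h1 h3 t0 hn s0
    obtain ⟨_, -, -, hw⟩ := h.wp_exists h1 (Sm.rfl' h1.c1.mem)
    have a3 := (bk (h.wp_mem hw) (nW _ hw)).symm.trans (bk (h.wp_mem hw) (hW _ hw))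
    have a4 := h.uq h2 hq hb (h.pa_congr q1 (Sm.rfl' q1.c1.mem) (Sm.rfl' q1.c2.mem) (Sm.rfl' q1.c3.mem) a3) p1
    fin_cases i
    exacts [s0, a4.1, a4.2, a3, bk hn s0, bk hn a4.1, bk hn a4.2, bk hn a3]

end RS

end CfsgLib.RootInv
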