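import Cfsg.Agent.Lib.RootInv.RTDefs2

/-! Root involution theorem, C1: the class of k-root subgroups. -/

set_option autoImplicit false
set_option Elab.async false

namespace CfsgLib.RootInv

open Cfsg CfsgLib.RootSub

universe u

variable {G : Type u} [Group G] {D : Set G}

theorem psl2_of_card {F K : Type} [Field F] [Fintype F] [Field K] [Fintype K] (hc : Fintype.card F = Fintype.card K)
    {A B : Subgroup G} (h : IsPSL2PairOver F A B) : IsPSL2PairOver K A B := by
  have hne := (psl2_r1 h).ne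
  obtain ⟨φ, -, -, rfl, rfl⟩ := h
  have e := FiniteField.ringEquivOfCardEq hc.symm
  have e1 : ∀ t, Matrix.SpecialLinearGroup.map (e : K →+* F) (SL2.uu t) = SL2.uu (e t) := fun t => by
    apply SL2.ext2 <;> simp
  have e2 : ∀ t, Matrix.SpecialLinearGroup.map (e : K →+* F) (SL2.ll t) = SL2.ll (e t) := fun t => by
    apply SL2.ext2 <;> simp
  have e3 : (upperUnipotentSL2 K).map (Matrix.SpecialLinearGroup.map (e : K →+* F)) = upperUnipotentSL2 F :=
    Subgroup.ext fun g => ⟨by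
      rintro ⟨_, hg, rfl⟩
      obtain ⟨t, rfl⟩ := mem_upper_iff.1 hg
      exact e1 t ▸ uu_mem _, fun hg => by
      obtain ⟨t, rfl⟩ := mem_upper_iff.1 hg
      exact ⟨_, uu_mem (e.symm t), by rw [e1, e.apply_symm_apply]⟩⟩
  have e4 : (lowerUnipotentSL2 K).map (Matrix.SpecialLinearGroup.map (e : K →+* F)) = lowerUnipotentSL2 F :=
    Subgroup.ext fun g => ⟨by
      rintro ⟨_, hg, rfl⟩
      obtain ⟨t, rfl⟩ := mem_lower_iff.1 hg
      exact e2 t ▸ ll_mem _, fun hg => by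
      obtain ⟨t, rfl⟩ := mem_lower_iff.1 hg
      exact ⟨_, ll_mem (e.symm t), by rw [e2, e.apply_symm_apply]⟩⟩
  rw [← e3, ← e4, Subgroup.map_map, Subgroup.map_map] at hne ⊢
  exact psl2_of_hom _ hne

theorem c1_comm {p e x : G} (he : e ∈ sameCommutingClass D p) (hx : x ∈ D) (c : x * p = p * x) : x * e = e * x :=
  (he.2.le ⟨hx, c⟩).2

theorem c1_eq {p e : G} (he : e ∈ sameCommutingClass D p) : sameCommutingClass D e = sameCommutingClass D p := by
  simp only [sameCommutingClass, he.2]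

theorem c1_le (hD : IsRootInvolutionSet D) {p e : G} (he : e ∈ sameCommutingClass D p) (g : G) :
    g * e * g⁻¹ ∈ sameCommutingClass D (g * p * g⁻¹) := by
  have : ∀ {p e : G}, commutingMembers D p ⊆ commutingMembers D e →
      commutingMembers D (g * p * g⁻¹) ⊆ commutingMembers D (g * e * g⁻¹) := fun k x hx => ⟨hx.1, by
    have := (k ⟨hD.conj_mem x hx.1 g⁻¹, by simpa [mul_assoc] using (commute_conj hx.2 g⁻¹).eq⟩).2
    simpa [mul_assoc] using (commute_conj this g).eq⟩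
  exact ⟨hD.conj_mem e he.1 g, (this he.2.le).antisymm (this he.2.ge)⟩

theorem c1_conj (hD : IsRootInvolutionSet D) (p g : G) :
    conjBy (sameCommutingSubgroup D p) g = sameCommutingSubgroup D (g * p * g⁻¹) := by
  rw [sameCommutingSubgroup, conjBy, MonoidHom.map_closure]
  refine congrArg _ (Set.ext fun x => ⟨fun ⟨y, hy, e⟩ => e ▸ c1_le hD hy g, fun hx => ⟨g⁻¹ * x * g, ?_, ?_⟩⟩)
  · simpa [mul_assoc] using c1_le hD hx g⁻¹
  · simp [mul_assoc]

theorem kroot_of [Finite G] (hD : IsRootInvolutionClass D)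
    (hS : ∀ d ∈ D, (sameCommutingSubgroup D d : Set G) = sameCommutingClass D d ∪ {1})
    (hex : ∀ d ∈ D, ∃ x ∈ D, Od d x)
    (hod : ∀ a ∈ D, ∀ b ∈ D, Od a b → ∃ (F : Type) (_ : Field F) (_ : Fintype F),
      Fintype.card F = Nat.card (sameCommutingSubgroup D a) ∧
      IsPSL2PairOver F (sameCommutingSubgroup D a) (sameCommutingSubgroup D b))
    (hfo : ∀ a ∈ D, ∀ b ∈ D, Fo a b → (∀ b' ∈ sameCommutingClass D b, cm a b' ∈ sameCommutingClass D (cm a b)) ∧
      ∀ c ∈ sameCommutingClass D (cm a b), ∃ b' ∈ sameCommutingClass D b, cm a b' = c) {d : G} (hd : d ∈ D) :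
    ∃ (F : Type) (_ : Field F) (_ : Fintype F),
      Fintype.card F = Nat.card (sameCommutingSubgroup D d) ∧
      IsKRootSubgroupSet F {A : Subgroup G | ∃ g : G, A = conjBy (sameCommutingSubgroup D d) g} ∧
      IsConjClassOfSubgroups {A : Subgroup G | ∃ g : G, A = conjBy (sameCommutingSubgroup D d) g} := by
  have h := ri_of hD.1
  have mem : ∀ {p x}, p ∈ D → (x ∈ sameCommutingSubgroup D p ↔ x ∈ sameCommutingClass D p ∨ x = 1) :=
    fun hp => by rw [← SetLike.mem_coe, hS _ hp]; rfl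
  have self : ∀ {p}, p ∈ D → p ∈ sameCommutingSubgroup D p := fun hp => Subgroup.subset_closure ⟨hp, rfl⟩
  have fam : ∀ {A}, (∃ g, A = conjBy (sameCommutingSubgroup D d) g) ↔ ∃ p ∈ D, A = sameCommutingSubgroup D p :=
    ⟨fun ⟨g, e⟩ => ⟨_, hD.1.conj_mem d hd g, e.trans (c1_conj hD.1 d g)⟩, fun ⟨p, hp, e⟩ => by
      obtain ⟨g, rfl⟩ := hD.2.2 d hd p hp
      exact ⟨g, e.trans (c1_conj hD.1 d g).symm⟩⟩
  have cmm : ∀ {p q}, p ∈ D → q ∈ D → p * q = q * p →
      Comm (sameCommutingSubgroup D p) (sameCommutingSubgroup D q) := fun hp hq c x hx y hy => by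
    rcases (mem hp).1 hx with hx | rfl
    · rcases (mem hq).1 hy with hy | rfl
      · exact c1_comm hy hx.1 (c1_comm hx hq c.symm).symm
      · simp
    · simp
  have r1 : ∀ {p q}, p ∈ D → q ∈ D → IsRankOnePair (sameCommutingSubgroup D p) (sameCommutingSubgroup D q) →
      Od p q := fun {p q} hp hq k => by
    rcases h.pair p hp q hq with c | c | ⟨c, -⟩
    · exact absurd (cmm hp hq c) (r1_not_comm k)
    · exact c
    obtain ⟨b, hb, b1, e⟩ := r1_partner k (self hp) (h.ne p hp)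
    have hb' := ((mem hq).1 hb).resolve_right b1
    rw [c1_conj hD.1, c1_conj hD.1, h.inv hb'.1, h.inv hp] at e
    have m := h.conj q hq p hp
    have c1 : Commute p (b * p * b) := by
      rw [h.conj_eq hp]
      exact (Commute.refl p).mul_right (c1_comm ((hfo p hp q hq c).1 b hb') hp (h.cm_comm hp hq c).symm)
    have c2 := h.cj_commute hp (c1_comm (((mem (h.conj p hp b hb'.1)).1 (e ▸ self m)).resolve_right (h.ne _ m)) hp c1)
    rw [h.cj_cj hp, h.mm' hp] at c2
    exact absurd c2 (h.fo_not_comm hp hq c)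
  have fo : ∀ {p q e}, p ∈ D → q ∈ D → Fo p q → e ∈ sameCommutingClass D p → Fo e q := fun {p q e} hp hq c he =>
    h.fo_of he.1 hq (fun k => h.fo_not_comm hq hp c.symm (c1_comm ⟨hp, he.2.symm⟩ hq k.symm)) fun k => by
      obtain ⟨F, _, _, -, k1⟩ := hod e he.1 q hq k
      rw [sameCommutingSubgroup, c1_eq he] at k1
      exact (r1 hp hq (psl2_r1 k1)).not_fo c
  have key : ∀ {p q e}, p ∈ D → q ∈ D → Fo p q → e ∈ sameCommutingSubgroup D p → e ≠ 1 →
      (fun b => e * b * e⁻¹ * b⁻¹) '' (sameCommutingSubgroup D q : Set G) = sameCommutingSubgroup D (cm p q) ∧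
      (fun b => b * e * b⁻¹ * e⁻¹) '' (sameCommutingSubgroup D q : Set G) = sameCommutingSubgroup D (cm p q) :=
    fun {p q e} hp hq c he e1 => by
      replace he := ((mem hp).1 he).resolve_right e1
      have c1 := fo hp hq c he
      have k := (hfo q hq p hp c.symm).1 e he
      rw [h.cm_symm he.1 hq c1, h.cm_symm hp hq c] at k
      obtain ⟨k1, k2⟩ := hfo e he.1 q hq c1
      rw [c1_eq k] at k1 k2
      have k3 : cm e '' sameCommutingClass D q = sameCommutingClass D (cm p q) :=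
        Set.ext fun x => ⟨fun ⟨y, hy, e⟩ => e ▸ k1 y hy, k2 x⟩
      rw [hS q hq, hS _ (h.fo_mem hp hq c), Set.image_union, Set.image_union, ← k3]
      refine ⟨congrArg₂ _ (Set.image_congr fun b hb => ?_) (by simp),
        congrArg₂ _ (Set.image_congr fun b hb => ?_) (by simp)⟩
      · rw [h.inv he.1, h.inv hb.1, cm]
      · rw [h.inv he.1, h.inv hb.1, ← h.cm_symm he.1 hb.1 (fo hq he.1 c1.symm hb).symm, cm]
  obtain ⟨x, hx, ho⟩ := hex d hd
  obtain ⟨F, _, _, hF, -⟩ := hod d hd x hx ho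
  refine ⟨F, inferInstance, inferInstance, hF, ⟨⟨fun A hA => ?_, fun A hA => ?_, ?_, ?_, fun A hA B hB => ?_⟩,
    fun A hA B hB k => ?_⟩, ⟨_, 1, rfl⟩, ?_⟩
  · obtain ⟨p, hp, rfl⟩ := fam.1 hA
    exact comm_self_iff.1 (cmm hp hp rfl)
  · obtain ⟨p, hp, rfl⟩ := fam.1 hA
    exact fun e => h.ne p hp (Subgroup.mem_bot.1 (e ▸ self hp))
  · rw [eq_top_iff, ← hD.1.generates, Subgroup.closure_le]
    exact fun p hp => (le_iSup₂_of_le (f := fun A (_ : A ∈ {A : Subgroup G |
      ∃ g : G, A = conjBy (sameCommutingSubgroup D d) g}) => A) _ (fam.2 ⟨p, hp, rfl⟩) le_rfl) (self hp)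
  · rintro _ ⟨g, rfl⟩ k
    exact ⟨_, conjBy_conjBy _ g k⟩
  · obtain ⟨p, hp, rfl⟩ := fam.1 hA
    obtain ⟨q, hq, rfl⟩ := fam.1 hB
    rcases h.pair p hp q hq with c | c | ⟨c, m⟩
    · exact .inl (comm_iff.2 (cmm hp hq c))
    · obtain ⟨_, _, _, -, k⟩ := hod p hp q hq c
      exact .inr (.inl (psl2_r1 k))
    have e : ⁅sameCommutingSubgroup D p, sameCommutingSubgroup D q⁆ = sameCommutingSubgroup D (cm p q) :=
      le_antisymm (Subgroup.commutator_le.2 fun a ha b hb => by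
        by_cases a1 : a = 1
        · simp [a1]
        · exact SetLike.mem_coe.1 ((key hp hq c ha a1).1 ▸ ⟨b, hb, rfl⟩)) fun y hy => by
        obtain ⟨b, hb, rfl⟩ := (key hp hq c (self hp) (h.ne p hp)).1.ge hy
        exact Subgroup.commutator_mem_commutator (self hp) hb
    refine .inr (.inr ⟨fam.2 ⟨_, m, e⟩, fun y hy => ?_, fun a ha a1 => ?_, fun b hb b1 => ?_⟩)
    · rw [e] at hy
      exact ((cmm m hp (h.cm_comm hp hq c)).sup_right (cmm m hq (h.cm_comm' hp hq c))) y hy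
    · rw [(key hp hq c ha a1).1, e, Subgroup.closure_eq]
    · rw [(key hq hp c.symm hb b1).2, e, Subgroup.closure_eq, h.cm_symm hp hq c]
  · obtain ⟨g, rfl⟩ := hA
    obtain ⟨q, hq, rfl⟩ := fam.1 hB
    have hp := hD.1.conj_mem d hd g
    have e : Nat.card (conjBy (sameCommutingSubgroup D d) g) = Nat.card (sameCommutingSubgroup D d) :=
      (Nat.card_congr (conjEquiv _ g).toEquiv).symm
    rw [c1_conj hD.1] at k e ⊢
    obtain ⟨F', _, _, k1, k2⟩ := hod _ hp q hq (r1 hp hq k)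
    exact psl2_of_card (by rw [k1, e, hF]) k2
  · rintro _ ⟨g, rfl⟩ _ ⟨k, rfl⟩
    exact ⟨k * g⁻¹, by rw [conjBy_conjBy, inv_mul_cancel_right]⟩

end CfsgLib.RootInv
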