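import Cfsg.Agent.Lib.RootInv.RTDefs2
import Cfsg.Agent.Lib.RootInv.RTC1
import Cfsg.Agent.Lib.RootInv.OT9

/-! Root involution theorem, C2: the degenerate case. -/

set_option autoImplicit false
set_option Elab.async false

namespace CfsgLib.RootInv

open Cfsg CfsgLib.RootSub

universe u

variable {G : Type u} [Group G] {D : Set G}

open MatrixGroups

theorem c2_conj {F : Type} [Field F] [Fintype F] [CharP F 2] {A : Subgroup SL(2, F)}
    (hA : Nat.card A = Fintype.card F) : ∃ g, conjBy (upperUnipotentSL2 F) g = A := by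
  obtain ⟨n, -, hn⟩ := FiniteField.card F 2
  have key : ∀ C : Subgroup SL(2, F), Nat.card C = Fintype.card F → ∃ P : Sylow 2 SL(2, F), (P : Subgroup _) = C :=
    fun C k => ⟨(IsPGroup.of_card (k.trans hn)).toSylow fun h => by
      have := C.card_mul_index
      rw [SL2.card_SL2, k, mul_right_inj' Fintype.card_ne_zero] at this
      rw [this, hn, ← pow_mul] at h
      exact absurd ((Nat.dvd_sub_iff_right (Nat.one_le_two_pow) (dvd_pow_self 2 (by simp))).1 h) (by decide), rfl⟩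
  obtain ⟨P, rfl⟩ := key A hA
  obtain ⟨Q, hQ⟩ := key (upperUnipotentSL2 F) (by
    rw [← Nat.card_eq_fintype_card]
    exact (Nat.card_congr (Equiv.ofBijective (fun t => (⟨SL2.uu t, uu_mem t⟩ : upperUnipotentSL2 F))
      ⟨fun s t e => SL2.uu_injective (congrArg Subtype.val e), fun ⟨g, hg⟩ =>
        (mem_upper_iff.1 hg).imp fun t e => Subtype.ext e.symm⟩)).symm)
  obtain ⟨g, rfl⟩ := MulAction.exists_smul_eq SL(2, F) Q P
  exact ⟨g, hQ ▸ rfl⟩

/-- Two different subgroups of order `q` of `L₂(q)`, `q` even, are a pair of unitriangular groups. -/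
theorem psl2_of_iso {F : Type} [Field F] [Fintype F] [CharP F 2] {A B : Subgroup G} (hne : A ≠ B)
    (hA : Nat.card A = Fintype.card F) (hB : Nat.card B = Fintype.card F)
    (e : ↥(A ⊔ B) ≃* Matrix.ProjectiveSpecialLinearGroup (Fin 2) F) : IsPSL2PairOver F A B := by
  have h2 : (2 : F) = 0 := CharP.cast_eq_zero F 2
  let ψ : SL(2, F) →* G := (A ⊔ B).subtype.comp (e.symm.toMonoidHom.comp (QuotientGroup.mk' _))
  have inj : Function.Injective ψ := (A ⊔ B).subtype_injective.comp (e.symm.injective.comp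
    ((MonoidHom.ker_eq_bot_iff _).1 (by rw [QuotientGroup.ker_mk', SL2.center_eq_bot_of_two h2])))
  have mc : ∀ C ≤ A ⊔ B, (C.comap ψ).map ψ = C := fun C hC => Subgroup.map_comap_eq_self fun x hx => by
    obtain ⟨y, hy⟩ := QuotientGroup.mk'_surjective _ (e ⟨x, hC hx⟩)
    exact ⟨y, congrArg Subtype.val ((congrArg e.symm hy).trans (e.symm_apply_apply _))⟩
  have cc : ∀ C ≤ A ⊔ B, Nat.card C = Fintype.card F → ∃ g, (conjBy (upperUnipotentSL2 F) g).map ψ = C :=
    fun C hC k => by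
      obtain ⟨g, hg⟩ := c2_conj (A := C.comap ψ) (by rw [← k, ← Subgroup.card_map_of_injective inj, mc C hC])
      exact ⟨g, hg ▸ mc C hC⟩
  obtain ⟨g, hg⟩ := cc A le_sup_left hA
  obtain ⟨k, hk⟩ := cc B le_sup_right hB
  obtain ⟨m, rfl⟩ : ∃ m, k = g * m := ⟨g⁻¹ * k, by simp⟩
  by_cases m0 : m 1 0 = 0
  · haveI : Finite A := Nat.finite_of_card_ne_zero (hA ▸ Fintype.card_ne_zero)
    refine absurd (Subgroup.eq_of_le_of_card_ge ?_ (hA.trans hB.symm).le).symm hne
    rw [← hg, ← hk, ← conjBy_conjBy]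
    refine Subgroup.map_mono (conjBy_le_conjBy_iff.2 fun x hx => ?_)
    obtain ⟨_, hy, rfl⟩ := mem_conjBy'.1 hx
    obtain ⟨t, rfl⟩ := mem_upper_iff.1 hy
    have := SL2.det_eq m
    refine mem_upper_iff.2 ⟨m 0 0 * m 0 0 * t, ?_⟩
    apply SL2.ext2 <;> simp [SL2.mul_ap, SL2.inv_00, SL2.inv_01, SL2.inv_10, SL2.inv_11, m0] at this ⊢
    · exact this
    · ring
    · rw [mul_comm, this]
  · obtain ⟨s, t, e1⟩ : ∃ s t, m = SL2.uu s * SL2.ll (m 1 0) * SL2.uu t := ⟨_, _, sl2_decomp m m0⟩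
    have e2 : conjBy (upperUnipotentSL2 F) (g * m) =
        conjBy (lowerUnipotentSL2 F) (g * (SL2.uu s * SL2.uu (m 1 0)⁻¹)) := by
      conv_lhs => rw [e1]
      rw [← conjBy_conjBy, ← conjBy_conjBy, ← conjBy_conjBy, conjBy_of_mem (uu_mem t),
        conj_upper_lower (mul_inv_cancel₀ m0), conjBy_conjBy, conjBy_conjBy, mul_assoc]
    rw [← conjBy_mul_of_right g (conjBy_of_mem (mul_mem (uu_mem s) (uu_mem (m 1 0)⁻¹))), conjBy,
      Subgroup.map_map] at hg
    rw [e2, conjBy, Subgroup.map_map] at hk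
    rw [← hg, ← hk] at hne ⊢
    exact psl2_of_hom _ hne

theorem deg_psl2 [Finite G] (hD : IsOddTranspositionSet D) (hcl : IsRootInvolutionClass D) (hO : pCore 2 G = ⊥)
    (hDD : (D ∩ commutingProducts D).Nonempty) (hc : IsConnectedSet (CommAdj D) D) {a b : G} (ha : a ∈ D) (hb : b ∈ D)
    (ho : Od a b) : ∃ (F : Type) (_ : Field F) (_ : Fintype F),
      Fintype.card F = Nat.card (sameCommutingSubgroup D a) ∧
      IsPSL2PairOver F (sameCommutingSubgroup D a) (sameCommutingSubgroup D b) := by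
  have h0 := nf_of hD
  have h : OG D := ⟨h0, hD.1.generates, fun a ha b hb => (hcl.2.2 a ha b hb).imp fun g e =>
    ⟨hD.1.generates ▸ Subgroup.mem_top g, e.symm⟩, h0.ri.exists_line hDD⟩
  have e : ∀ {d}, d ∈ D → sameCommutingSubgroup D d = Subgroup.closure (Ec D d) := fun hd =>
    congrArg Subgroup.closure (Set.ext fun _ => h0.mem_same_iff hd)
  have e1 : (Subgroup.closure (Ec D a) : Set G) = Ec D a ∪ {1} := Set.ext fun _ => h.mem_cl_ec asch hO ha
  obtain ⟨F, i1, i2, i3, -, h1, ⟨h2⟩⟩ := h.isL2 hO hc ha hb ho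
  have c1 : Fintype.card F = Nat.card (sameCommutingSubgroup D a) := by
    rw [h1, e ha, ← SetLike.coe_sort_coe, Nat.card_coe_set_eq, e1, Set.union_singleton,
      Set.ncard_insert_of_notMem (fun h3 => h.ri.ne 1 h3.1 rfl) (Set.toFinite _)]
  have c2 : Nat.card (sameCommutingSubgroup D b) = Nat.card (sameCommutingSubgroup D a) := by
    obtain ⟨g, rfl⟩ := hcl.2.2 a ha b hb
    rw [← c1_conj hD.1]
    exact (Nat.card_congr (conjEquiv _ g).toEquiv).symm
  have mb : b ∈ Subgroup.closure (Ec D b) := Subgroup.subset_closure (ec_self hb)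
  have e2 : sameCommutingSubgroup D a ⊔ sameCommutingSubgroup D b = Xg D a b := by
    rw [e ha, e hb]
    refine le_antisymm (sup_le ((Subgroup.closure_le _).2 ec_le_xg) ((Subgroup.closure_le _).2
      (h0.ec_sub ha hb ho ec_le_xg (Subgroup.subset_closure (.inr rfl))))) ?_
    rw [Xg, Subgroup.closure_union]
    exact sup_le_sup_left ((Subgroup.closure_le _).2 (Set.singleton_subset_iff.2 mb)) _
  refine ⟨F, i1, i2, c1, psl2_of_iso (fun k => ?_) c1.symm (c2.trans c1.symm)
    ((MulEquiv.subgroupCongr e2).trans h2)⟩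
  rw [← e hb, ← k, e ha] at mb
  exact ((h.mem_cl_ec asch hO ha).1 mb).elim
    (fun k => h.ri.od_not_comm ha hb ho (h0.ec_comm (ec_self ha) k)) (h.ri.ne b hb)

end CfsgLib.RootInv
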