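import Cfsg.Agent.Lib.RootInv.RS2
import Cfsg.Agent.Lib.RootInv.Asch

/-! Root involution theorem: the point geometry of a non-degenerate class. -/

set_option autoImplicit false

namespace CfsgLib.RootInv

open Cfsg

universe u

variable {G : Type u} [Group G] {D : Set G} {a b c d e f g k m p q r s t u v w x y z : G}

/-- The same point. -/
def Sm (D : Set G) (a b : G) : Prop := a ∈ D ∧ b ∈ D ∧ Ao D a = Ao D b

/-- Collinear points. -/
def Cn (D : Set G) (a b : G) : Prop := ¬ Sm D a b ∧ ∃ c, ProdAdj D a c ∧ Sm D c b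

/-- The centralizer of the members commuting with `a`. -/
def Zc (D : Set G) (a : G) : Subgroup G := Subgroup.centralizer (commutingMembers D a)

/-- `g` fixes the point of `p`. -/
def Fx (D : Set G) (g p : G) : Prop := Sm D (g * p * g⁻¹) p

/-- A path of length three. -/
structure Pa (D : Set G) (a b c d : G) : Prop where
  c1 : Cn D a b
  c2 : Cn D b c
  c3 : Cn D c d
  f1 : Fo a c
  f2 : Fo b d

/-- The points of the line through `d` and `a` other than these two. -/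
def Pts (D : Set G) (d a : G) : Set (Set G) :=
  {P | ∃ d' a', Sm D d' d ∧ Sm D a' a ∧ ProdAdj D d' a' ∧ P = Ao D (d' * a')}

/-- The members that stay in their point when multiplied by `t`. -/
def Tt (D : Set G) (t : G) : Set G := {d | Sm D (t * d) d}

/-- A pair with product of odd order that is not joined by a path of length three. -/
def Bad (D : Set G) (d x : G) : Prop := d ∈ D ∧ x ∈ D ∧ Od d x ∧ ∀ c, Cn D d c → Od c x

/-- The line through `p` and `u` lies in no plane with another line through `p`. -/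
def Isol (D : Set G) (p u : G) : Prop :=
  ∀ v, Cn D p v → Commute v u → Sm D v u ∨ ∃ p', Sm D p' p ∧ ProdAdj D v p' ∧ Sm D (v * p') u

/-- The rank two situation. -/
structure Rk2 (D : Set G) : Prop where
  iso : ∀ p u, Cn D p u → Isol D p u
  comm : ∀ a ∈ D, ∀ b ∈ D, Commute a b → Sm D a b ∨ Cn D a b

theorem Sm.rfl' (ha : a ∈ D) : Sm D a a := ⟨ha, ha, rfl⟩
theorem Sm.symm (h : Sm D a b) : Sm D b a := ⟨h.2.1, h.1, h.2.2.symm⟩
theorem Sm.trans (h : Sm D a b) (h' : Sm D b c) : Sm D a c := ⟨h.1, h'.2.1, h.2.2.trans h'.2.2⟩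
theorem Sm.od (h : Sm D a b) (hx : x ∈ D) (ho : Od a x) : Od b x := od_of_ao h.2.2 hx ho
theorem Sm.od' (h : Sm D a b) (hx : x ∈ D) (ho : Od x a) : Od x b := (h.od hx ho.symm).symm
theorem Sm.ec (h : Sm D a b) : a ∈ Ec D b := ⟨h.1, h.2.2⟩
theorem sm_of_ec (hb : b ∈ D) (h : a ∈ Ec D b) : Sm D a b := ⟨h.1, hb, h.2⟩
theorem Cn.mem (h : Cn D a b) : a ∈ D := h.2.choose_spec.1.1
theorem Cn.mem' (h : Cn D a b) : b ∈ D := h.2.choose_spec.2.2.1
theorem Cn.of_right (h : Cn D a b) (e : Sm D b c) : Cn D a c :=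
  ⟨fun e1 => h.1 (e1.trans e.symm), h.2.imp fun _ h1 => ⟨h1.1, h1.2.trans e⟩⟩
theorem cn_of_adj (hl : ProdAdj D a b) (hn : ¬ Sm D a b) : Cn D a b := ⟨hn, b, hl, Sm.rfl' hl.2.1⟩
theorem mem_zc : t ∈ Zc D a ↔ ∀ y ∈ D, Commute y a → Commute y t :=
  ⟨fun h y hy hc => h y ⟨hy, hc⟩, fun h y hy => h y hy.1 hy.2⟩
theorem Fx.mem (h : Fx D g p) : p ∈ D := h.2.1
theorem fx_of_comm (hp : p ∈ D) (hc : Commute g p) : Fx D g p := by
  rw [Fx, hc.eq, mul_inv_cancel_right]; exact Sm.rfl' hp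
theorem fx_one (hp : p ∈ D) : Fx D 1 p := fx_of_comm hp (Commute.one_left p)
theorem inv_eq_of_sq (ht : t * t = 1) : t⁻¹ = t := inv_eq_of_mul_eq_one_right ht
theorem fx_iff (ht : t * t = 1) : Fx D t p ↔ Sm D (t * p * t) p := by rw [Fx, inv_eq_of_sq ht]
theorem commute_conj (h : Commute a b) (g : G) : Commute (g * a * g⁻¹) (g * b * g⁻¹) := by
  have := h.map (MulAut.conj g); simpa using this
theorem commute_of_conj (h : Commute (g * a * g⁻¹) (g * b * g⁻¹)) : Commute a b := by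
  have := commute_conj h g⁻¹; simpa [mul_assoc] using this

namespace ND

variable [Finite G] (h : ND D)
include h

theorem sm_conj (e : Sm D a b) (g : G) : Sm D (g * a * g⁻¹) (g * b * g⁻¹) :=
  ⟨h.conj e.1 g, h.conj e.2.1 g, h.ri.ao_conj_eq (h.mem_gen g) e.2.2⟩

theorem sm_of_conj (e : Sm D (g * a * g⁻¹) (g * b * g⁻¹)) : Sm D a b := by
  simpa [mul_assoc] using h.sm_conj e g⁻¹

theorem sm_cj (e : Sm D a b) (hu : u * u = 1) : Sm D (u * a * u) (u * b * u) := by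
  simpa [inv_eq_of_sq hu] using h.sm_conj e u

theorem sm_comm (e : Sm D a b) (hy : y ∈ D) (hc : Commute y a) : Commute y b :=
  h.same e.1 e.2.1 e.2.2.symm hy hc

theorem sm_comm' (e : Sm D a b) (hy : y ∈ D) (hc : Commute a y) : Commute b y := (h.sm_comm e hy hc.symm).symm

theorem sm_commute (e : Sm D a b) : Commute a b := h.sm_comm e e.1 (Commute.refl a)

theorem sm_fo (e : Sm D a b) (hy : y ∈ D) (hf : Fo a y) : Fo b y := h.same_fo e.1 e.2.1 e.2.2.symm hy hf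

theorem sm_fo' (e : Sm D a b) (hy : y ∈ D) (hf : Fo y a) : Fo y b := (h.sm_fo e hy hf.symm).symm

theorem sm_of_zc (hd : d ∈ D) (he : e ∈ D) (hz : e ∈ Zc D d) : Sm D e d :=
  ⟨he, hd, h.ri.ao_eq_of_subset h.cl he hd (h.ri.ao_of_comm hd he fun y hy hc => mem_zc.1 hz y hy hc)⟩

theorem zc_of_sm (e : Sm D a b) : a ∈ Zc D b := mem_zc.2 fun _ hy hc => h.sm_comm e.symm hy hc

theorem zc_congr (e : Sm D a b) (ht : t ∈ Zc D a) : t ∈ Zc D b :=
  mem_zc.2 fun y hy hc => mem_zc.1 ht y hy (h.sm_comm e.symm hy hc)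

omit [Finite G] in
theorem zc_conj (ht : t ∈ Zc D a) (g : G) : g * t * g⁻¹ ∈ Zc D (g * a * g⁻¹) := mem_zc.2 fun y hy hc => by
  have h1 := mem_zc.1 ht _ (h.conj hy g⁻¹) (by simpa [mul_assoc] using commute_conj hc g⁻¹)
  simpa [mul_assoc] using commute_conj h1 g

theorem not_sm_cm (ha : a ∈ D) (hb : b ∈ D) (hf : Fo a b) : ¬ Sm D a (cm a b) :=
  fun e => h.ao_cm_ne ha hb hf e.2.2.symm

theorem not_sm_cm' (ha : a ∈ D) (hb : b ∈ D) (hf : Fo a b) : ¬ Sm D b (cm a b) :=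
  h.ri.cm_symm ha hb hf ▸ h.not_sm_cm hb ha hf.symm

theorem cn_cm (ha : a ∈ D) (hb : b ∈ D) (hf : Fo a b) : Cn D a (cm a b) :=
  cn_of_adj (h.ri.fo_ln ha hb hf) (h.not_sm_cm ha hb hf)

theorem cn_cm' (ha : a ∈ D) (hb : b ∈ D) (hf : Fo a b) : Cn D b (cm a b) :=
  cn_of_adj (h.ri.fo_ln' ha hb hf) (h.not_sm_cm' ha hb hf)

theorem cn_comm (hc : Cn D a b) : Commute a b := by
  obtain ⟨c, h1, h2⟩ := hc.2
  exact h.sm_comm h2 h1.1 (lnc h1)

theorem cn_conj (hc : Cn D a b) (g : G) : Cn D (g * a * g⁻¹) (g * b * g⁻¹) := by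
  obtain ⟨c, h1, h2⟩ := hc.2
  exact ⟨fun e => hc.1 (h.sm_of_conj e), _, h.ri.ln_conj h1 (h.mem_gen g), h.sm_conj h2 g⟩

theorem pa_conj (hp : Pa D a b c d) (g : G) :
    Pa D (g * a * g⁻¹) (g * b * g⁻¹) (g * c * g⁻¹) (g * d * g⁻¹) :=
  ⟨h.cn_conj hp.c1 g, h.cn_conj hp.c2 g, h.cn_conj hp.c3 g, (fo_conj g).2 hp.f1, (fo_conj g).2 hp.f2⟩

theorem fx_congr (e : Sm D p q) (hf : Fx D g p) : Fx D g q := ((h.sm_conj e.symm g).trans hf).trans e

theorem fx_mul (h1 : Fx D g p) (h2 : Fx D k p) : Fx D (g * k) p := by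
  have := (h.sm_conj h2 g).trans h1
  simpa [Fx, mul_assoc] using this

theorem fx_inv (h1 : Fx D g p) : Fx D g⁻¹ p := by
  have := (h.sm_conj h1 g⁻¹).symm
  simpa [Fx, mul_assoc] using this

theorem fx_conj (h1 : Fx D g p) (k : G) : Fx D (k * g * k⁻¹) (k * p * k⁻¹) := by
  have := h.sm_conj h1 k
  simpa [Fx, mul_assoc] using this

/-- A member fixing a point commutes with it. -/
theorem comm_of_fx (hv : v ∈ D) (hf : Fx D v p) : Commute v p := by
  have hp := hf.mem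
  rw [fx_iff (h.ri.sq v hv)] at hf
  have hc := h.sm_commute hf
  by_contra hn
  by_cases ho : Od p v
  · exact h.ri.od_not_comm hp hf.1 (h.ri.od_conj_self hp hv ho) hc.symm
  have f1 := h.ri.fo_of hp hv (fun c => hn (Commute.symm c)) ho
  refine h.not_sm_cm hp hv f1 (h.sm_of_zc hp (h.ri.fo_mem hp hv f1) ?_).symm
  have : cm p v = p * (v * p * v) := by simp only [cm, mul_assoc]
  rw [this]
  exact mul_mem (h.zc_of_sm (Sm.rfl' hp)) (h.zc_of_sm hf)

theorem fx_cm (ha : a ∈ D) (hb : b ∈ D) (hc : Commute g a) (hd : Commute g b) (hf : Fo a b) : Fx D g (cm a b) :=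
  fx_of_comm (h.ri.fo_mem ha hb hf) (cm_commute hc hd)

theorem tt_eq (hd : d ∈ Tt D t) : t = t * d * d := (h.ri.mm' hd.2.1 t).symm

theorem tt_zc (hd : d ∈ Tt D t) : t ∈ Zc D d := by
  rw [h.tt_eq hd]; exact mul_mem (h.zc_of_sm hd) (h.zc_of_sm (Sm.rfl' hd.2.1))

theorem tt_comm (hd : d ∈ Tt D t) (hy : y ∈ D) (hc : Commute y d) : Commute y t := mem_zc.1 (h.tt_zc hd) y hy hc

theorem tt_sq (hd : d ∈ Tt D t) : t * t = 1 := by
  have h1 := h.ri.sq _ hd.1
  have h2 := h.tt_comm hd hd.2.1 (Commute.refl d)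
  rwa [mul_assoc, ← mul_assoc d, h2.eq, mul_assoc, h.ri.sq d hd.2.1, mul_one] at h1

theorem tt_conj (hd : d ∈ Tt D t) (g : G) : g * d * g⁻¹ ∈ Tt D (g * t * g⁻¹) := by
  have := h.sm_conj hd g
  simpa [Tt, mul_assoc] using this

theorem tt_of_sm (e : Sm D a b) : a ∈ Tt D (a * b) := by
  change Sm D (a * b * a) a
  rw [mul_assoc, ← (h.sm_commute e).eq, h.ri.mm e.1]
  exact e.symm

theorem tt_of_zc (hd : d ∈ D) (h1 : t * d ∈ D) (h2 : t ∈ Zc D d) : d ∈ Tt D t :=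
  h.sm_of_zc hd h1 (mul_mem h2 (h.zc_of_sm (Sm.rfl' hd)))

omit [Finite G] in
theorem exists_conj (ha : a ∈ D) (hb : b ∈ D) : ∃ g : G, g * a * g⁻¹ = b :=
  (h.cl a ha b hb).imp fun _ h1 => h1.2

/-- An element centralizing the members commuting with `d` and an odd partner of `d` is central. -/
theorem central_of_zc (hd : d ∈ D) (hx : x ∈ D) (ho : Od d x) (h1 : t ∈ Zc D d) (h2 : Commute x t) (g : G) :
    Commute g t := by
  have : Subgroup.centralizer {t} = ⊤ := h.eq_top asch hd hx ho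
    (fun e he => Subgroup.mem_centralizer_singleton_iff.2 (mem_zc.1 h1 e he.2.1 (lnc he).symm))
    (Subgroup.mem_centralizer_singleton_iff.2 h2)
  exact Subgroup.mem_centralizer_singleton_iff.1 (this ▸ Subgroup.mem_top g)

end ND

end CfsgLib.RootInv
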